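import Groth.Agent.Misc15.RatTorus.Schemes
import Groth.Agent.TorusPts.Data
import Groth.Agent.TorusPts.Affine
import Groth.Agent.Reductive.BaseChangeMT
import Groth.Agent.Reductive.MTLocTriv
import Groth.Agent.Misc15.TorusDvr.Pts

/-!
A group of multiplicative type and finite type over a domain is split over a finite Galois extension of the
field of fractions.
-/

set_option autoImplicit false
set_option linter.style.haveILetI false
set_option synthInstance.maxHeartbeats 200000

universe u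

open CategoryTheory CategoryTheory.Limits MonoidalCategory CartesianMonoidalCategory MonObj AlgebraicGeometry
open TensorProduct
open Groth.AlgGrp2 Groth.TorusPts Groth.Sga3.MultType

noncomputable section

namespace Groth.Misc15.SemilocInj

open Groth.Reductive.MTInt Groth.Misc15.TorusDvr

section Forms

variable {k E : Type u} [Field k] [Field E] [Algebra k E]

local instance braidedAlgSpecHere (R : Type u) [CommRing R] : (algSpec (CommRingCat.of R)).Braided :=
  braidedAlgSpec

/-- a split form gives a diagonalisable group -/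
theorem isSplit_bc_sp {A N : Type u} [CommRing A] [HopfAlgebra k A] [CommGroup N] {Λ : Type} [AddCommGroup Λ]
    (eN : N ≃* Multiplicative Λ) (e : E ⊗[k] A ≃ₐc[E] MonoidAlgebra E N) :
    Red.IsSplitTorusWith Λ (Red.bc (str k E) (CoactBr.sp k A)) := by
  let D := MonoidAlgebra E (Multiplicative Λ)
  let d : E ⊗[k] A ≃ₐc[E] D := e.trans (BialgEquiv.ofBijective (MonoidAlgebra.mapDomainBialgHom E eN.toMonoidHom)
    (by
      refine Function.bijective_iff_has_inverse.2
        ⟨MonoidAlgebra.mapDomainBialgHom E eN.symm.toMonoidHom, fun x => ?_, fun x => ?_⟩ <;>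
      induction x using MonoidAlgebra.induction_on with
      | of m =>
        show MonoidAlgebra.mapDomain _ (MonoidAlgebra.mapDomain _ (MonoidAlgebra.single m (1 : E))) = MonoidAlgebra.single m 1
        simp
      | add p q hp hq => simp only [map_add, hp, hq]
      | smul c p hp => simp only [map_smul, hp]))
  let dA : E ⊗[k] A ≃ₐ[E] D := d
  have hP : IsPullback (Spec.map (CommRingCat.ofHom
        ((Algebra.TensorProduct.includeRight : A →ₐ[k] E ⊗[k] A) : A →+* E ⊗[k] A)))
      (Spec.map (CommRingCat.ofHom (algebraMap E (E ⊗[k] A))))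
      (Spec.map (CommRingCat.ofHom (algebraMap k A))) (str k E) := by
    letI : Algebra A (E ⊗[k] A) := Algebra.TensorProduct.rightAlgebra
    exact isPullback_SpecMap_of_isPushout _ _ _ _ (CommRingCat.isPushout_of_isPushout k A E (E ⊗[k] A))
  let i1 : CoactBr.sp E D ≅ CoactBr.sp E (E ⊗[k] A) :=
    { hom := CoactBr.pt (dA : E ⊗[k] A →ₐ[E] D)
      inv := CoactBr.pt (dA.symm : D →ₐ[E] E ⊗[k] A)
      hom_inv_id := by rw [← CoactBr.pt_comp, AlgEquiv.comp_symm, CoactBr.pt_id]
      inv_hom_id := by rw [← CoactBr.pt_comp, AlgEquiv.symm_comp, CoactBr.pt_id] }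
  let i2 : CoactBr.sp E (E ⊗[k] A) ≅ Red.bc (str k E) (CoactBr.sp k A) :=
    Over.isoMk hP.isoPullback hP.isoPullback_hom_snd
  let j : Red.diag E Λ ≅ Red.bc (str k E) (CoactBr.sp k A) := i1 ≪≫ i2
  let δ : A →ₐ[k] D := ((dA : E ⊗[k] A →ₐ[E] D).restrictScalars k).comp Algebra.TensorProduct.includeRight
  have h2 : affPt k i2.hom =
      CoactBr.pt (Algebra.TensorProduct.includeRight : A →ₐ[k] E ⊗[k] A) := by
    ext1
    show 𝟙 _ ≫ (((Over.mapPullbackAdj (str k E)).homEquiv _ _).symm i2.hom).left = _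
    rw [Category.id_comp]
    simp only [Over.mapPullbackAdj, Adjunction.mkOfHomEquiv_homEquiv, Equiv.coe_fn_symm_mk]
    exact hP.isoPullback_hom_fst
  have haff : affPt k j.hom = CoactBr.pt δ := by
    show affPt k (CoactBr.pt (dA : E ⊗[k] A →ₐ[E] D) ≫ i2.hom) = _
    rw [affPt_comp, h2, ← CoactBr.pt_comp]
  haveI : IsMonHom j.hom := by
    refine isMonHom_of_pt (R := E) (A := D) j.hom fun g h => ?_
    obtain ⟨φ, rfl⟩ := pt_surjective g
    obtain ⟨ψ, rfl⟩ := pt_surjective h
    apply affPt_injective (R := k)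
    rw [affPt_mul, CoactBr.pt_mul_pt, affPt_comp, affPt_comp, affPt_comp, haff, ← CoactBr.pt_comp,
      ← CoactBr.pt_comp, ← CoactBr.pt_comp, CoactBr.pt_mul_pt]
    congr 1
    refine AlgHom.ext fun x => ?_
    obtain ρ := Coalgebra.Repr.arbitrary k x
    have hcom : Coalgebra.comul (R := E) (δ x) =
        ∑ i ∈ ρ.index, δ (ρ.left i) ⊗ₜ[E] δ (ρ.right i) := by
      show Coalgebra.comul (R := E) (d ((1 : E) ⊗ₜ x)) = _
      rw [← CoalgHomClass.map_comp_comul_apply]
      rw [TensorProduct.comul_tmul, CommSemiring.comul_apply, ← ρ.eq]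
      simp [TensorProduct.tmul_sum, map_sum]
      rfl
    simp [Bialgebra.comulAlgHom_apply, hcom, ← ρ.eq, map_sum]
  exact ⟨(Grp.mkIso' j).symm ≪≫ (isSplitTorusWith_diag E Λ).some⟩

/-- a Galois splitting field -/
theorem exists_galois_split {Λ : Type} [AddCommGroup Λ] [AddGroup.FG Λ] {A : Type u} [CommRing A]
    [HopfAlgebra k A] (L : Type u) [Field L] [Algebra k L]
    (eL : L ⊗[k] A ≃ₐc[L] MonoidAlgebra L (Multiplicative Λ)) :
    ∃ (F : Type u) (_ : Field F) (_ : Algebra k F) (N : Type u) (_ : CommGroup N)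
      (_ : F ⊗[k] A ≃ₐc[F] MonoidAlgebra F N) (_ : N ≃* Multiplicative Λ),
      FiniteDimensional k F ∧ IsGalois k F := by
  classical
  let N0 := Multiplicative (ULift.{u} Λ)
  let g0 : N0 ≃* Multiplicative Λ := AddEquiv.toMultiplicative AddEquiv.ulift
  let eL' : L ⊗[k] A ≃ₐc[L] MonoidAlgebra L N0 :=
    eL.trans (BialgEquiv.ofBijective (MonoidAlgebra.mapDomainBialgHom L g0.symm.toMonoidHom) (by
      refine Function.bijective_iff_has_inverse.2
        ⟨MonoidAlgebra.mapDomainBialgHom L g0.toMonoidHom, fun x => ?_, fun x => ?_⟩ <;>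
      induction x using MonoidAlgebra.induction_on with
      | of m => simp
      | add p q hp hq => simp only [map_add, hp, hq]
      | smul r p hp => simp only [map_smul, hp]))
  haveI : Group.FG (Multiplicative Λ) := AddGroup.fg_iff_mul_fg.1 inferInstance
  haveI : Group.FG N0 := Group.fg_of_surjective (f := g0.symm.toMonoidHom) g0.symm.surjective
  have hft : Algebra.FiniteType k A := by
    haveI : Monoid.FG N0 := Group.fg_iff_monoid_fg.1 inferInstance
    haveI : Algebra.FiniteType L (MonoidAlgebra L N0) := inferInstance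
    haveI : Algebra.FiniteType L (L ⊗[k] A) :=
      Algebra.FiniteType.equiv inferInstance (eL' : L ⊗[k] A ≃ₐ[L] MonoidAlgebra L N0).symm
    exact Algebra.FiniteType.of_finiteType_tensorProduct_of_faithfullyFlat L
  have hmt : SGA3b.IsMultType k A :=
    isMultType_of_const ⟨L, inferInstance, inferInstance, inferInstance, N0, inferInstance, ⟨eL'⟩⟩
  obtain ⟨k', _, _, hfin, hsep, M', _, -, ⟨e'⟩⟩ :=
    Groth.Sga3.CharLift.exists_finite_separable_isDiagFT hft hmt
  haveI : Algebra.IsSeparable k k' := hsep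
  obtain ⟨F, _, _, hfd, hgal, ⟨jE⟩⟩ := Groth.TorusPts.exists_galois_over (K := k) k'
  let Ω := AlgebraicClosure L
  let emb : F →ₐ[k] Ω := IsAlgClosed.lift
  letI := emb.toRingHom.toAlgebra
  haveI : IsScalarTower k F Ω := IsScalarTower.of_algebraMap_eq fun r => (emb.commutes r).symm
  letI := jE.toRingHom.toAlgebra
  haveI : IsScalarTower k k' F := IsScalarTower.of_algebraMap_eq fun r => (jE.commutes r).symm
  let eE : F ⊗[k] A ≃ₐc[F] MonoidAlgebra F M' :=
    (cancelBC k k' F A).symm.trans ((congrBC F e').trans (monAlgBC k' F M'))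
  let e1 : Ω ⊗[k] A ≃ₐc[Ω] MonoidAlgebra Ω M' :=
    (cancelBC k F Ω A).symm.trans ((congrBC Ω eE).trans (monAlgBC F Ω M'))
  let e2 : Ω ⊗[k] A ≃ₐc[Ω] MonoidAlgebra Ω N0 :=
    (cancelBC k L Ω A).symm.trans ((congrBC Ω eL').trans (monAlgBC L Ω N0))
  obtain ⟨σ, -⟩ := Groth.Sga3.CharLift.exists_mulEquiv (e1.symm.trans e2)
  exact ⟨F, inferInstance, inferInstance, M', inferInstance, eE, σ.trans g0, hfd, hgal⟩

end Forms

/-- The splitting over a finite Galois extension of the field of fractions. -/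
theorem exists_galois_triv {V : Type u} [CommRing V] [IsDomain V] {M : Over (Spec (CommRingCat.of V))} [GrpObj M]
    (hM : SGA3x.IsMultTypeFT M) :
    ∃ (E : Type u) (_ : Field E) (_ : Algebra (FractionRing V) E) (_ : Algebra V E)
      (_ : IsScalarTower V (FractionRing V) E), FiniteDimensional (FractionRing V) E ∧
      IsGalois (FractionRing V) E ∧ ∃ τ : Triv M (sp (algebraMap V E)), AddGroup.FG τ.M := by
  let K := FractionRing V
  let g := str V K
  let MK := Red.bc g M
  obtain ⟨S', f, -, hsurj, -, hloc⟩ := Groth.Reductive.FreeDiag.isMultTypeFT_bc hM g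
  obtain ⟨s', -⟩ := hsurj.surj (⟨⊥, Ideal.isPrime_bot⟩ : PrimeSpectrum K)
  obtain ⟨U, hU, Λ, _, hfg, ⟨e⟩⟩ := hloc s'
  let L := S'.residueField s'
  let q := S'.fromSpecResidueField s'
  obtain ⟨c, hc⟩ : ∃ c : CommRingCat.of K ⟶ L, Spec.map c = q ≫ f := ⟨_, Spec.map_preimage _⟩
  letI : Algebra K L := c.hom.toAlgebra
  have hrange : Set.range q.base ⊆ Set.range U.ι.base := by
    rw [Scheme.Opens.range_ι, Scheme.range_fromSpecResidueField]
    exact Set.singleton_subset_iff.2 hU
  let e' : Red.DS (U : Scheme.{u}) Λ ≅ Red.bc (U.ι ≫ f) MK := (Grp.forget _).mapIso e.symm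
  haveI : IsMonHom e'.hom := inferInstanceAs (IsMonHom e.inv.hom.hom)
  obtain ⟨i, hi⟩ := Groth.Reductive.FreeDiag.exists_trivialisation_comp MK
    (IsOpenImmersion.lift U.ι q hrange) (U.ι ≫ f) e'
  have heq : IsOpenImmersion.lift U.ι q hrange ≫ U.ι ≫ f = str K L := by
    rw [IsOpenImmersion.lift_fac_assoc, ← hc]
    rfl
  revert i
  rw [heq]
  intro i hi
  haveI := hi
  have hsp : Red.IsSplitTorusWith Λ (Red.bc (str K L) MK) := ⟨(Grp.mkIso' i).symm⟩
  obtain ⟨A, _, _, j, hj, ⟨eL⟩⟩ := exists_hopf_split MK L hsp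
  haveI : AddGroup.FG Λ := hfg
  haveI := hj
  obtain ⟨E, _, _, N, _, eE, σ, hfd, hgal⟩ := exists_galois_split (k := K) L eL
  obtain ⟨e₀⟩ := isSplit_bc_sp σ eE
  let P := Over.pullback (str K E)
  haveI : IsMonHom (P.map j.hom) := inferInstance
  obtain ⟨i₂, hi₂⟩ := Groth.Reductive.FreeDiag.exists_bc_comp_iso M (str K E) g
  haveI := hi₂
  let j' : Red.bc (str K E) (CoactBr.sp K A) ≅ Red.bc (str K E ≫ g) M := P.mapIso j ≪≫ i₂
  haveI : IsMonHom j'.hom := inferInstanceAs (IsMonHom (P.map j.hom ≫ i₂.hom))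
  let e₁ : Grp.mk (Red.bc (str K E ≫ g) M) ≅ Grp.mk (Red.DS (Spec (CommRingCat.of E)) Λ) :=
    (Grp.mkIso' j').symm ≪≫ e₀
  letI : Algebra V E := ((algebraMap K E).comp (algebraMap V K)).toAlgebra
  haveI : IsScalarTower V K E := .of_algebraMap_eq fun _ => rfl
  refine ⟨E, inferInstance, inferInstance, inferInstance, inferInstance, hfd, hgal,
    trivOfIso e₁ (Y := sp (algebraMap V E)) (𝟙 _) ?_, hfg⟩
  rw [Category.id_comp]
  show Spec.map _ ≫ Spec.map _ = Spec.map _
  rw [← Spec.map_comp]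
  rfl

end Groth.Misc15.SemilocInj
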