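import Groth.Agent.Misc15.SemilocInj.Chars

/-!
Group-like generators with coefficients in a subalgebra.
-/

set_option autoImplicit false
set_option linter.style.haveILetI false
set_option synthInstance.maxHeartbeats 200000

universe u

open CategoryTheory CategoryTheory.Limits MonoidalCategory CartesianMonoidalCategory MonObj AlgebraicGeometry
open TensorProduct

noncomputable section

namespace Groth.Misc15.SemilocInj

variable {A E : Type u} [CommRing A] [Field E] [Algebra A E] {M : Over (Spec (CommRingCat.of A))} [GrpObj M]
  [IsAffine M.left] (X : Chars M E)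

/-- coefficients of a function -/
def Chars.coeff (o : Ob M) (n : Multiplicative X.N) : E := (X.co.symm ((1 : E) ⊗ₜ o)).coeff n

theorem Chars.exists_sub (B : Subalgebra A E) [Module.Flat A (Ob M)]
    (h1 : ∀ n, X.χ n ∈ (incl B (Ob M)).range) (h2 : ∀ o n, X.coeff o n ∈ B) :
    ∃ (Y : Chars M B) (e : Multiplicative Y.N ≃* Multiplicative X.N),
      ∀ n, incl B (Ob M) (Y.χ n) = X.χ (e n) := by
  choose w hw using h1
  have hi : Function.Injective (incl B (Ob M)) := incl_injective B (Ob M)
  let χ : Multiplicative X.N →* B ⊗[A] Ob M :=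
    { toFun := w
      map_one' := hi ((hw 1).trans (by rw [map_one, map_one]))
      map_mul' := fun a b => hi ((hw _).trans (by rw [map_mul, map_mul]; exact (congrArg₂ (· * ·) (hw a) (hw b)).symm)) }
  let F := MonoidAlgebra.lift B (B ⊗[A] Ob M) (Multiplicative X.N) χ
  let mp : MonoidAlgebra B (Multiplicative X.N) →+* MonoidAlgebra E (Multiplicative X.N) :=
    MonoidAlgebra.mapRingHom (Multiplicative X.N) B.val.toRingHom
  have hmp : ∀ n (b : B), mp (MonoidAlgebra.single n b) = MonoidAlgebra.single n (b : E) := fun n b => by
    simp [mp]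
  have hF : ∀ z, incl B (Ob M) (F z) = X.co (mp z) := fun z => by
    induction z using MonoidAlgebra.induction_linear with
    | zero => simp
    | add p q hp hq => simp only [map_add, hp, hq]
    | single n b =>
      rw [hmp, Chars.co_single]
      simp only [F, MonoidAlgebra.lift_single, Algebra.smul_def, map_mul]
      exact congrArg₂ (· * ·) (by simp [incl]) (hw n)
  have hcoe : ∀ z n, ((mp z).coeff n : E) = ((z.coeff n : B) : E) := fun z n => by
    induction z using MonoidAlgebra.induction_linear with
    | zero => simp
    | add p q hp hq => simp only [map_add, MonoidAlgebra.coeff_add, Finsupp.add_apply, hp, hq, Subalgebra.coe_add]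
    | single m b =>
      classical
      rw [hmp, MonoidAlgebra.coeff_single, MonoidAlgebra.coeff_single, Finsupp.single_apply, Finsupp.single_apply]
      split_ifs <;> rfl
  have hinj : Function.Injective F := fun p q h => by
    have h' := X.co.injective ((hF p).symm.trans ((congrArg (incl B (Ob M)) h).trans (hF q)))
    refine MonoidAlgebra.ext (Finsupp.ext fun n => Subtype.ext ?_)
    rw [← hcoe, ← hcoe, h']
  have hsurj : Function.Surjective F := fun z => by
    induction z using TensorProduct.induction_on with
    | zero => exact ⟨0, map_zero F⟩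
    | add p q hp hq =>
      obtain ⟨p', rfl⟩ := hp
      obtain ⟨q', rfl⟩ := hq
      exact ⟨p' + q', map_add F _ _⟩
    | tmul b o =>
      let y := X.co.symm ((1 : E) ⊗ₜ o)
      let c : Multiplicative X.N → B := fun n => ⟨y.coeff n, h2 o n⟩
      obtain ⟨p, hp⟩ : ∃ p, mp p = y := ⟨∑ n ∈ y.coeff.support, MonoidAlgebra.single n (c n), by
        rw [map_sum]
        refine (Finset.sum_congr rfl fun n _ => hmp n (c n)).trans ?_
        exact MonoidAlgebra.sum_coeff_single y⟩
      refine ⟨MonoidAlgebra.single 1 b * p, hi ?_⟩
      rw [hF, map_mul, map_mul, hmp, Chars.co_single, hp, map_one, _root_.mul_one, AlgEquiv.apply_symm_apply,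
        Algebra.TensorProduct.tmul_mul_tmul, _root_.mul_one, _root_.one_mul]
      simp [incl]
  refine ⟨⟨X.N, χ, ⟨hinj, hsurj⟩, fun n => ?_⟩, MulEquiv.refl _, fun n => hw n⟩
  refine incl_injective B (Ob M ⊗[A] Ob M) ?_
  have hc : ∀ (f : Ob M →ₐ[A] Ob M ⊗[A] Ob M) z, incl B (Ob M ⊗[A] Ob M) (Algebra.TensorProduct.map (AlgHom.id A B) f z) =
      Algebra.TensorProduct.map (AlgHom.id A E) f (incl B (Ob M) z) := fun f z => by
    induction z using TensorProduct.induction_on with
    | zero => simp
    | add p q hp hq => simp only [map_add, hp, hq]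
    | tmul x y => simp [incl]
  show _ = incl B _ (Algebra.TensorProduct.map (AlgHom.id A B) _ (w n) * Algebra.TensorProduct.map (AlgHom.id A B) _ (w n))
  rw [map_mul, hc, hc, hc]
  show Algebra.TensorProduct.map (AlgHom.id A E) (comulOb M) (incl B (Ob M) (w n)) = _
  exact (hw n).symm ▸ X.comul n

end Groth.Misc15.SemilocInj
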