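import Groth.Agent.Misc15.SemilocInj.ValLoc
import Groth.Agent.Misc15.SemilocInj.Sub
import Groth.Agent.Misc15.SemilocInj.SplitField
import Groth.Agent.Misc15.UnramH1.Rigid
import Groth.Agent.Reductive.FpqcLocal
import Groth.Agent.AlgSp2.SmoothDescent
import Groth.Agent.Pi1Quot.Galois

/-!
A group of multiplicative type and finite type over a valuation ring is split by the integral closure in a
Galois extension, which is finite étale.
-/

set_option autoImplicit false
set_option linter.style.haveILetI false
set_option synthInstance.maxHeartbeats 200000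

universe u

open CategoryTheory CategoryTheory.Limits MonoidalCategory CartesianMonoidalCategory MonObj AlgebraicGeometry
open TensorProduct

noncomputable section

namespace Groth.Misc15.SemilocInj

open Groth.Reductive.MTInt Groth.Misc15.TorusDvr

variable {V : Type u} [CommRing V] {M : Over (Spec (CommRingCat.of V))} [GrpObj M]

/-- Groups of multiplicative type over a local ring are trivialised by one faithfully flat algebra. -/
theorem exists_ff_triv [IsLocalRing V] (hM : SGA3x.IsMultTypeFT M) :
    IsAffineHom M.hom ∧ ∃ (C : Type u) (_ : CommRing C) (_ : Algebra V C),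
      Module.FaithfullyFlat V C ∧ Nonempty (Triv M (sp (algebraMap V C))) := by
  obtain ⟨haff, hloc⟩ := locTriv_of_multTypeFT hM
  refine ⟨haff, ?_⟩
  let Y : Over (Spec (CommRingCat.of V)) := sp (algebraMap V V)
  obtain ⟨c, hc⟩ := hloc Y (inferInstanceAs (IsAffine (Spec (CommRingCat.of V))))
  obtain ⟨i, z, hz⟩ := c.surj (IsLocalRing.closedPoint V)
  let Z := c.Z i
  obtain ⟨τ⟩ := hc i
  let C := Ob Z
  haveI : Flat (c.g i).left := c.flat i
  haveI : Flat Y.hom := by
    show Flat (Spec.map _)
    rw [Flat.SpecMap_iff]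
    exact RingHom.flat_algebraMap_iff.mpr inferInstance
  have hflat : Module.Flat V C := by
    have h1 : Flat (Spec.map (CommRingCat.ofHom (algebraMap V C))) := by
      rw [← isoSpec_inv_hom, ← Over.w (c.g i)]
      infer_instance
    exact RingHom.flat_algebraMap_iff.mp ((Flat.SpecMap_iff).1 h1)
  haveI := hflat
  let q : PrimeSpectrum C := Z.left.isoSpec.hom.base z
  have hq : PrimeSpectrum.comap (algebraMap V C) q = IsLocalRing.closedPoint V := by
    show (Spec.map (CommRingCat.ofHom (algebraMap V C))).base (Z.left.isoSpec.hom.base z) = _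
    rw [← isoSpec_inv_hom, ← Scheme.Hom.comp_apply, Iso.hom_inv_id_assoc, ← Over.w (c.g i), Scheme.Hom.comp_apply,
      hz]
    show PrimeSpectrum.comap (algebraMap V V) (IsLocalRing.closedPoint V) = _
    exact PrimeSpectrum.ext (Ideal.comap_id _)
  refine ⟨C, inferInstance, inferInstance, Module.FaithfullyFlat.of_comap_surjective fun p => ?_,
    ⟨τ.restrict (univ Z)⟩⟩
  haveI : q.asIdeal.LiesOver (IsLocalRing.maximalIdeal V) := ⟨(congrArg PrimeSpectrum.asIdeal hq).symm⟩
  obtain ⟨P, -, hP, hPp⟩ := Ideal.exists_ideal_le_liesOver_of_le (p := p.asIdeal) q.asIdeal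
    (q := IsLocalRing.maximalIdeal V) (IsLocalRing.le_maximalIdeal p.isPrime.ne_top)
  exact ⟨⟨P, hP⟩, PrimeSpectrum.ext hPp.over.symm⟩

theorem flat_Ob [IsAffine M.left] (hM : SGA3x.IsMultTypeFT M) : Module.Flat V (Ob M) := by
  have h := (Groth.Reductive.flat_lfp_of_multTypeFT M hM Groth.AlgSp2.flat_descendsAlong inferInstance).1
  have h1 : Flat (Spec.map (CommRingCat.ofHom (algebraMap V (Ob M)))) := by
    rw [← isoSpec_inv_hom]
    infer_instance
  exact RingHom.flat_algebraMap_iff.mp ((Flat.SpecMap_iff).1 h1)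

variable [IsAffine M.left]

/-- base change of group-like generators -/
def Chars.push {B : Type u} [CommRing B] [Algebra V B] (X : Chars M B) {B' : Type u} [CommRing B'] [Algebra V B']
    (β : B →ₐ[V] B') : Chars M B' where
  N := X.N
  χ := (Algebra.TensorProduct.map β (AlgHom.id V (Ob M))).toRingHom.toMonoidHom.comp X.χ
  bij := by
    let U := MonoidAlgebra B' (Multiplicative X.N)
    let χ' := (Algebra.TensorProduct.map β (AlgHom.id V (Ob M))).toRingHom.toMonoidHom.comp X.χ
    let F := MonoidAlgebra.lift B' (B' ⊗[V] Ob M) (Multiplicative X.N) χ'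
    let gu : B' →ₐ[V] U := IsScalarTower.toAlgHom V B' U
    obtain ⟨x, hx⟩ := (X.value_bijective (gu.comp β)).2 (MonoidAlgebra.of B' (Multiplicative X.N))
    let g := pairMap gu (ptAlg x)
    have hgf : ∀ w, g (F w) = w := fun w => by
      induction w using MonoidAlgebra.induction_linear with
      | zero => rw [map_zero, map_zero]
      | add p q hp hq => rw [map_add, map_add, hp, hq]
      | single n b =>
        have h1 : g (Algebra.TensorProduct.map β (AlgHom.id V (Ob M)) (X.χ n)) = X.value (gu.comp β) x n :=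
          AlgHom.congr_fun (Algebra.TensorProduct.ext (AlgHom.ext fun b => by simp [g, pairMap])
            (AlgHom.ext fun o => by simp [g, pairMap]) :
              g.comp (Algebra.TensorProduct.map β (AlgHom.id V (Ob M))) = pairMap (gu.comp β) (ptAlg x)) (X.χ n)
        show g (MonoidAlgebra.lift B' _ _ χ' (MonoidAlgebra.single n b)) = _
        rw [MonoidAlgebra.lift_single, Algebra.smul_def, map_mul,
          show χ' n = Algebra.TensorProduct.map β (AlgHom.id V (Ob M)) (X.χ n) from rfl, h1, hx]
        show g (b ⊗ₜ 1) * _ = _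
        rw [pairMap_tmul, map_one, _root_.mul_one]
        show MonoidAlgebra.single 1 b * MonoidAlgebra.single n 1 = _
        rw [MonoidAlgebra.single_mul_single, _root_.one_mul, _root_.mul_one]
    refine ⟨Function.LeftInverse.injective hgf, fun w => ?_⟩
    show ∃ p, F p = w
    induction w using TensorProduct.induction_on with
    | zero => exact ⟨0, map_zero F⟩
    | add p q hp hq =>
      obtain ⟨p', rfl⟩ := hp
      obtain ⟨q', rfl⟩ := hq
      exact ⟨p' + q', map_add F _ _⟩
    | tmul b o =>
      let mp : MonoidAlgebra B (Multiplicative X.N) →+* U := MonoidAlgebra.mapRingHom _ β.toRingHom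
      have hmp : ∀ w, F (mp w) = Algebra.TensorProduct.map β (AlgHom.id V (Ob M)) (X.co w) := fun w => by
        induction w using MonoidAlgebra.induction_linear with
        | zero => simp
        | add p q hp hq => simp only [map_add, hp, hq]
        | single n c =>
          rw [show mp (MonoidAlgebra.single n c) = MonoidAlgebra.single n (β c) by
              exact MonoidAlgebra.mapRingHom_single β.toRingHom n c, Chars.co_single,
            map_mul, Algebra.TensorProduct.map_tmul, map_one]
          show MonoidAlgebra.lift B' _ _ χ' _ = _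
          rw [MonoidAlgebra.lift_single, Algebra.smul_def]
          rfl
      refine ⟨MonoidAlgebra.single 1 b * mp (X.co.symm ((1 : B) ⊗ₜ o)), ?_⟩
      rw [map_mul, hmp, AlgEquiv.apply_symm_apply, Algebra.TensorProduct.map_tmul, map_one,
        show F (MonoidAlgebra.single 1 b) = b ⊗ₜ 1 by
          show MonoidAlgebra.lift B' _ _ χ' _ = _
          rw [MonoidAlgebra.lift_single, map_one, Algebra.smul_def, _root_.mul_one]
          rfl,
        Algebra.TensorProduct.tmul_mul_tmul, _root_.mul_one, _root_.one_mul]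
      rfl
  comul n := by
    have hc : ∀ (f : Ob M →ₐ[V] Ob M ⊗[V] Ob M) (w : B ⊗[V] Ob M),
        Algebra.TensorProduct.map (AlgHom.id V B') f (Algebra.TensorProduct.map β (AlgHom.id V (Ob M)) w) =
          Algebra.TensorProduct.map β (AlgHom.id V (Ob M ⊗[V] Ob M)) (Algebra.TensorProduct.map (AlgHom.id V B) f w) :=
      fun f w => by
        induction w using TensorProduct.induction_on with
        | zero => simp
        | add p q hp hq => simp only [map_add, hp, hq]
        | tmul x y => simp
    show Algebra.TensorProduct.map (AlgHom.id V B') _ (Algebra.TensorProduct.map β (AlgHom.id V (Ob M)) (X.χ n)) =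
      Algebra.TensorProduct.map (AlgHom.id V B') _ (Algebra.TensorProduct.map β (AlgHom.id V (Ob M)) (X.χ n)) *
        Algebra.TensorProduct.map (AlgHom.id V B') _ (Algebra.TensorProduct.map β (AlgHom.id V (Ob M)) (X.χ n))
    rw [hc, hc, hc, ← map_mul, X.comul]

theorem Chars.push_χ {B : Type u} [CommRing B] [Algebra V B] (X : Chars M B) {B' : Type u} [CommRing B']
    [Algebra V B'] (β : B →ₐ[V] B') (n : Multiplicative X.N) :
    (X.push β).χ n = Algebra.TensorProduct.map β (AlgHom.id V (Ob M)) (X.χ n) := rfl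

theorem Chars.coeff_spec {E : Type u} [Field E] [Algebra V E] (X : Chars M E) (o : Ob M) :
    ∑ n ∈ (X.co.symm ((1 : E) ⊗ₜ o)).coeff.support, (X.coeff o n ⊗ₜ[V] (1 : Ob M)) * X.χ n = 1 ⊗ₜ o := by
  have h := X.co.apply_symm_apply ((1 : E) ⊗ₜ o)
  generalize hp : X.co.symm ((1 : E) ⊗ₜ o) = p at h
  conv_rhs => rw [← h, ← MonoidAlgebra.sum_coeff_single p]
  rw [Finsupp.sum, map_sum]
  exact Finset.sum_congr rfl fun n _ => by rw [Chars.coeff, hp, Chars.co_single]

theorem Chars.coeff_unique {E : Type u} [Field E] [Algebra V E] (X : Chars M E) (o : Ob M)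
    (p : MonoidAlgebra E (Multiplicative X.N)) (h : X.co p = 1 ⊗ₜ o) (n : Multiplicative X.N) :
    X.coeff o n = p.coeff n := by
  rw [Chars.coeff, ← h, AlgEquiv.symm_apply_apply]

section Descent

variable {E : Type u} [Field E] [Algebra V E] (X : Chars M E) [Module.Flat V (Ob M)]
  {C : Type u} [CommRing C] [Algebra V C] (τC : Triv M (sp (algebraMap V C)))

include τC in
/-- At a prime dominated by a trivialised algebra, the characters are integral. -/
theorem local_integral {Ω : Type u} [Field Ω] [Algebra V Ω] (je : E →ₐ[V] Ω) (φ : C →ₐ[V] Ω) (D : Subalgebra V Ω)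
    (hφ : ∀ c, φ c ∈ D) :
    (∀ n, X.χ n ∈ (incl (D.comap je) (Ob M)).range) ∧
      ∀ o n, je (X.coeff o n) ∈ D := by
  classical
  let τ := X.toTriv
  let XC := Chars.ofTriv τC
  let T := Ω ⊗[V] Ob M
  let iL : Ω →ₐ[V] T := Algebra.TensorProduct.includeLeft
  let x : Pt M T := pl (Algebra.TensorProduct.includeRight : Ob M →ₐ[V] T) (univ M)
  let mι := Algebra.TensorProduct.map je (AlgHom.id V (Ob M))
  let mφ := Algebra.TensorProduct.map φ (AlgHom.id V (Ob M))
  have hι : ∀ n, ch τ (iL.comp je) x n = mι (X.χ n) := fun n => by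
    rw [ch_eq_chr, ptAlg_pl_univ, X.chr_toTriv]
    exact congrArg (fun F : E ⊗[V] Ob M →ₐ[V] T => F (X.χ n)) (Algebra.TensorProduct.ext
      (AlgHom.ext fun b => by simp [pairMap, iL, T, mι]) (AlgHom.ext fun o => by simp [pairMap, iL, T, mι]))
  have hφ' : ∀ n, ch τC (iL.comp φ) x n = mφ (XC.χ n) := fun n => by
    rw [ch_eq_chr, ptAlg_pl_univ]
    exact congrArg (fun F : C ⊗[V] Ob M →ₐ[V] T => F (chr τC n)) (Algebra.TensorProduct.ext
      (AlgHom.ext fun b => by simp [pairMap, iL, T, mφ]) (AlgHom.ext fun o => by simp [pairMap, iL, T, mφ]))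
  obtain ⟨θ, hθ⟩ := Groth.Misc15.UnramH1.exists_theta τC τ φ.toRingHom je.toRingHom
    (φ.comp_algebraMap.trans je.comp_algebraMap.symm)
  obtain ⟨θ', hθ'⟩ := Groth.Misc15.UnramH1.exists_theta τ τC je.toRingHom φ.toRingHom
    (je.comp_algebraMap.trans φ.comp_algebraMap.symm)
  have e1 : ∀ n, mι (X.χ n) = mφ (XC.χ (θ n)) := fun n => by
    rw [← hι, ← hφ']
    exact hθ T iL.toRingHom (algebraMap V T) (iL.comp φ).comp_algebraMap (iL.comp je).comp_algebraMap x n
  have e2 : ∀ m, mφ (XC.χ m) = mι (X.χ (θ' m)) := fun m => by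
    rw [← hι, ← hφ']
    exact hθ' T iL.toRingHom (algebraMap V T) (iL.comp je).comp_algebraMap (iL.comp φ).comp_algebraMap x m
  let φD : C →ₐ[V] D := φ.codRestrict D hφ
  have hD : ∀ w, incl D (Ob M) (Algebra.TensorProduct.map φD (AlgHom.id V (Ob M)) w) = mφ w := fun w => by
    induction w using TensorProduct.induction_on with
    | zero => simp
    | add p q hp hq => simp only [map_add, hp, hq]
    | tmul a b => simp [incl, mφ, φD]
  refine ⟨fun n => mem_range_comap je D ((e1 n).trans (hD _).symm), fun o n => ?_⟩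
  let p := XC.co.symm ((1 : C) ⊗ₜ o)
  let χΩ : Multiplicative X.N →* T := mι.toRingHom.toMonoidHom.comp X.χ
  let F := MonoidAlgebra.lift Ω T (Multiplicative X.N) χΩ
  have hFinj : Function.Injective F := (X.push je).bij.1
  have hFs : ∀ m (b : Ω), F (MonoidAlgebra.single m b) = (b ⊗ₜ 1) * mι (X.χ m) := fun m b => by
    rw [MonoidAlgebra.lift_single, Algebra.smul_def]
    rfl
  let q₁ : MonoidAlgebra Ω (Multiplicative X.N) := MonoidAlgebra.mapRingHom _ je.toRingHom (X.co.symm ((1 : E) ⊗ₜ o))
  let q₂ : MonoidAlgebra Ω (Multiplicative X.N) :=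
    ∑ m ∈ p.coeff.support, MonoidAlgebra.single (θ' m) (φ (p.coeff m))
  have hq₁ : F q₁ = 1 ⊗ₜ o := by
    have h : ∀ w, F (MonoidAlgebra.mapRingHom _ je.toRingHom w) = mι (X.co w) := fun w => by
      induction w using MonoidAlgebra.induction_linear with
      | zero => simp
      | add p q hp hq => simp only [map_add, hp, hq]
      | single m b =>
        rw [show MonoidAlgebra.mapRingHom (Multiplicative X.N) je.toRingHom (MonoidAlgebra.single m b) =
          MonoidAlgebra.single m (je b) by simp, hFs, Chars.co_single, map_mul, Algebra.TensorProduct.map_tmul,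
          map_one]
    rw [show q₁ = MonoidAlgebra.mapRingHom _ je.toRingHom (X.co.symm ((1 : E) ⊗ₜ o)) from rfl, h,
      AlgEquiv.apply_symm_apply, Algebra.TensorProduct.map_tmul, map_one]
    rfl
  have hq₂ : F q₂ = 1 ⊗ₜ o := by
    have h1 : mφ (XC.co p) = 1 ⊗ₜ o := by
      rw [AlgEquiv.apply_symm_apply, Algebra.TensorProduct.map_tmul, map_one]
      rfl
    rw [← h1]
    conv_rhs => rw [← MonoidAlgebra.sum_coeff_single p, Finsupp.sum]
    rw [map_sum, map_sum, map_sum]
    refine Finset.sum_congr rfl fun m _ => ?_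
    rw [hFs, Chars.co_single, map_mul, Algebra.TensorProduct.map_tmul, map_one, e2]
  have h : q₁ = q₂ := hFinj (hq₁.trans hq₂.symm)
  have h2 : je (X.coeff o n) = q₁.coeff n := by simp [q₁, Chars.coeff]
  rw [h2, h]
  simp only [q₂, MonoidAlgebra.coeff_sum, Finsupp.finsetSum_apply]
  refine D.sum_mem fun m _ => ?_
  rw [MonoidAlgebra.coeff_single, Finsupp.single_apply]
  split_ifs
  · exact hφ _
  · exact D.zero_mem

end Descent

end Groth.Misc15.SemilocInj
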