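import Groth.Agent.Misc15.SemilocInj.Univ

/-!
Trivialisations from group-like generators of the functions, and their restriction to subalgebras.
-/

set_option autoImplicit false
set_option linter.style.haveILetI false
set_option synthInstance.maxHeartbeats 200000

universe u

open CategoryTheory CategoryTheory.Limits MonoidalCategory CartesianMonoidalCategory MonObj AlgebraicGeometry
open TensorProduct

noncomputable section

namespace Groth.Misc15.SemilocInj

open Groth.Reductive.MTInt Groth.Misc15.TorusDvr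

variable {A : Type u} [CommRing A] (M : Over (Spec (CommRingCat.of A))) [GrpObj M] [IsAffine M.left]

/-- the comultiplication -/
def comulOb : Ob M →ₐ[A] Ob M ⊗[A] Ob M :=
  ptAlg (pl (Algebra.TensorProduct.includeLeft : Ob M →ₐ[A] Ob M ⊗[A] Ob M) (univ M) *
    pl (Algebra.TensorProduct.includeRight : Ob M →ₐ[A] Ob M ⊗[A] Ob M) (univ M))

variable {M}

theorem ptAlg_mul {R : Type u} [CommRing R] [Algebra A R] (x y : Pt M R) :
    ptAlg (x * y) = (Algebra.TensorProduct.lift (ptAlg x) (ptAlg y) fun _ _ => Commute.all _ _).comp (comulOb M) := by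
  rw [comulOb, ← ptAlg_pl, pl_mul, pl_pl, pl_pl, Algebra.TensorProduct.lift_comp_includeLeft,
    show (Algebra.TensorProduct.lift (ptAlg x) (ptAlg y) fun _ _ => Commute.all _ _).comp Algebra.TensorProduct.includeRight = ptAlg y from
      AlgHom.ext fun o => by simp, pl_ptAlg, pl_ptAlg]

/-- Group-like generators of the functions over an algebra. -/
structure Chars (M : Over (Spec (CommRingCat.of A))) [GrpObj M] [IsAffine M.left] (B : Type u) [CommRing B]
    [Algebra A B] where
  /-- the group -/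
  N : Type
  [grp : AddCommGroup N]
  /-- the generators -/
  χ : Multiplicative N →* B ⊗[A] Ob M
  bij : Function.Bijective (MonoidAlgebra.lift B (B ⊗[A] Ob M) (Multiplicative N) χ)
  comul : ∀ n, Algebra.TensorProduct.map (AlgHom.id A B) (comulOb M) (χ n) =
    Algebra.TensorProduct.map (AlgHom.id A B) (Algebra.TensorProduct.includeLeft : Ob M →ₐ[A] Ob M ⊗[A] Ob M) (χ n) *
    Algebra.TensorProduct.map (AlgHom.id A B) (Algebra.TensorProduct.includeRight : Ob M →ₐ[A] Ob M ⊗[A] Ob M) (χ n)

attribute [instance] Chars.grp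

theorem comul_chr {B : Type u} [CommRing B] [Algebra A B] (τ : Triv M (sp (algebraMap A B)))
    (n : Multiplicative τ.M) :
    Algebra.TensorProduct.map (AlgHom.id A B) (comulOb M) (chr τ n) =
    Algebra.TensorProduct.map (AlgHom.id A B) (Algebra.TensorProduct.includeLeft : Ob M →ₐ[A] Ob M ⊗[A] Ob M) (chr τ n) *
    Algebra.TensorProduct.map (AlgHom.id A B) (Algebra.TensorProduct.includeRight : Ob M →ₐ[A] Ob M ⊗[A] Ob M) (chr τ n) := by
  let inR : Ob M ⊗[A] Ob M →ₐ[A] B ⊗[A] (Ob M ⊗[A] Ob M) := Algebra.TensorProduct.includeRight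
  let β : B →ₐ[A] B ⊗[A] (Ob M ⊗[A] Ob M) := Algebra.TensorProduct.includeLeft
  have key : ∀ f : Ob M →ₐ[A] Ob M ⊗[A] Ob M,
      Algebra.TensorProduct.map (AlgHom.id A B) f (chr τ n) = ch τ β (pl inR (pl f (univ M))) n := fun f => by
    rw [ch_eq_chr, ptAlg_pl, ptAlg_pl_univ]
    refine congrArg (fun F : B ⊗[A] Ob M →ₐ[A] B ⊗[A] (Ob M ⊗[A] Ob M) => F (chr τ n)) ?_
    exact Algebra.TensorProduct.ext (AlgHom.ext fun b => by simp [pairMap, β, inR])
      (AlgHom.ext fun o => by simp [pairMap, β, inR])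
  rw [key, key, key, ← MonoidHom.mul_apply, ← map_mul, ← pl_mul, comulOb, pl_ptAlg]

/-- the generators of a trivialisation -/
def Chars.ofTriv {B : Type u} [CommRing B] [Algebra A B] (τ : Triv M (sp (algebraMap A B))) : Chars M B where
  N := τ.M
  χ := chr τ
  bij := coMap_bijective τ
  comul := comul_chr τ

namespace Chars

variable {B : Type u} [CommRing B] [Algebra A B] (X : Chars M B) {R : Type u} [CommRing R] [Algebra A R]
  {R' : Type u} [CommRing R'] [Algebra A R']

/-- the values at a point -/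
def value (β : B →ₐ[A] R) (x : Pt M R) : Multiplicative X.N →* R :=
  (pairMap β (ptAlg x)).toRingHom.toMonoidHom.comp X.χ

theorem value_mul (β : B →ₐ[A] R) (x y : Pt M R) : X.value β (x * y) = X.value β x * X.value β y := by
  refine MonoidHom.ext fun n => ?_
  let L : Ob M ⊗[A] Ob M →ₐ[A] R := Algebra.TensorProduct.lift (ptAlg x) (ptAlg y) fun _ _ => Commute.all _ _
  let P := Algebra.TensorProduct.lift β L fun _ _ => Commute.all _ _
  have key : ∀ (f : Ob M →ₐ[A] Ob M ⊗[A] Ob M) (g : Ob M →ₐ[A] R), L.comp f = g → ∀ z,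
      pairMap β g z = P (Algebra.TensorProduct.map (AlgHom.id A B) f z) := fun f g hfg z =>
    AlgHom.congr_fun (Algebra.TensorProduct.ext (AlgHom.ext fun b => by simp [pairMap, P])
      (AlgHom.ext fun o => by simp [pairMap, P, ← hfg]) : pairMap β g = P.comp (Algebra.TensorProduct.map (AlgHom.id A B) f)) z
  show pairMap β (ptAlg (x * y)) (X.χ n) = pairMap β (ptAlg x) (X.χ n) * pairMap β (ptAlg y) (X.χ n)
  rw [key (comulOb M) (ptAlg (x * y)) (ptAlg_mul x y).symm, X.comul, map_mul,
    ← key _ (ptAlg x) (Algebra.TensorProduct.lift_comp_includeLeft _ _ _),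
    ← key _ (ptAlg y) (AlgHom.ext fun o => by simp [L])]

theorem value_pl (β : B →ₐ[A] R) (f : R →ₐ[A] R') (x : Pt M R) :
    X.value (f.comp β) (pl f x) = f.toRingHom.toMonoidHom.comp (X.value β x) := by
  refine MonoidHom.ext fun n => ?_
  show pairMap (f.comp β) (ptAlg (pl f x)) (X.χ n) = f (pairMap β (ptAlg x) (X.χ n))
  rw [ptAlg_pl]
  exact AlgHom.congr_fun (Algebra.TensorProduct.ext (AlgHom.ext fun b => by simp [pairMap])
    (AlgHom.ext fun o => by simp [pairMap]) :
      pairMap (f.comp β) (f.comp (ptAlg x)) = f.comp (pairMap β (ptAlg x))) (X.χ n)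

/-- the comorphism -/
def co : MonoidAlgebra B (Multiplicative X.N) ≃ₐ[A] B ⊗[A] Ob M :=
  AlgEquiv.ofBijective ((MonoidAlgebra.lift B (B ⊗[A] Ob M) (Multiplicative X.N) X.χ).restrictScalars A) X.bij

theorem co_single (n : Multiplicative X.N) (b : B) : X.co (MonoidAlgebra.single n b) = (b ⊗ₜ 1) * X.χ n := by
  show MonoidAlgebra.lift B _ _ X.χ (MonoidAlgebra.single n b) = _
  rw [MonoidAlgebra.lift_single, Algebra.smul_def]
  rfl

theorem value_bijective (β : B →ₐ[A] R) : Function.Bijective (X.value β) := by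
  refine ⟨fun x y h => ?_, fun v => ?_⟩
  · have h1 : pairMap β (ptAlg x) = pairMap β (ptAlg y) := by
      refine AlgHom.ext fun z => ?_
      obtain ⟨w, rfl⟩ := X.co.surjective z
      induction w using MonoidAlgebra.induction_linear with
      | zero => simp
      | add p q hp hq => simp only [map_add, hp, hq]
      | single n b =>
        rw [co_single, map_mul, map_mul, pairMap_tmul, pairMap_tmul, map_one, map_one]
        exact congrArg _ (DFunLike.congr_fun h n)
    refine ptAlg_inj (AlgHom.ext fun o => ?_)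
    have h2 := AlgHom.congr_fun h1 (1 ⊗ₜ o)
    simpa [pairMap] using h2
  · let G : MonoidAlgebra B (Multiplicative X.N) →ₐ[A] R :=
      MonoidAlgebra.liftNCAlgHom β v fun _ _ => Commute.all _ _
    let φ := G.comp X.co.symm.toAlgHom
    have hφl : ∀ b, φ (b ⊗ₜ 1) = β b := fun b => by
      have h1 : X.co (MonoidAlgebra.single 1 b) = b ⊗ₜ 1 := by rw [co_single, map_one, _root_.mul_one]
      show G (X.co.symm (b ⊗ₜ 1)) = β b
      rw [← h1, AlgEquiv.symm_apply_apply]
      simp [G, MonoidAlgebra.liftNCAlgHom]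
    refine ⟨pl (φ.comp Algebra.TensorProduct.includeRight) (univ M), MonoidHom.ext fun n => ?_⟩
    have h1 : pairMap β (φ.comp Algebra.TensorProduct.includeRight) = φ :=
      Algebra.TensorProduct.ext (AlgHom.ext fun b => by simp [pairMap, hφl]) (AlgHom.ext fun o => by simp [pairMap])
    show pairMap β (ptAlg _) (X.χ n) = v n
    rw [ptAlg_pl_univ, h1]
    have h2 : X.co (MonoidAlgebra.single n 1) = X.χ n := by
      rw [co_single]
      exact _root_.one_mul _
    show G (X.co.symm (X.χ n)) = v n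
    rw [← h2, AlgEquiv.symm_apply_apply]
    simp [G, MonoidAlgebra.liftNCAlgHom]

/-- the values as an isomorphism -/
def valueEquiv (β : B →ₐ[A] R) : Pt M R ≃* (Multiplicative X.N →* R) :=
  MulEquiv.mk' (Equiv.ofBijective _ (X.value_bijective β)) (X.value_mul β)

end Chars

section General

variable (A)

/-- the structure map of the functions on a test object -/
def cZ (Z : Over (Spec (CommRingCat.of A))) : A →+* Γ(Z.left, ⊤) :=
  ((Scheme.ΓSpecIso (CommRingCat.of A)).inv ≫ Z.hom.appTop).hom

variable {A}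

/-- the map to the spectrum of the functions -/
def qZ (Z : Over (Spec (CommRingCat.of A))) : Z ⟶ sp (cZ A Z) :=
  Over.homMk Z.left.toSpecΓ (by
    show _ ≫ Spec.map ((Scheme.ΓSpecIso (CommRingCat.of A)).inv ≫ Z.hom.appTop) = _
    rw [Spec.map_comp, ← Scheme.toSpecΓ_naturality_assoc, toSpecΓ_SpecMap_ΓSpecIso_inv, Category.comp_id])

omit [GrpObj M] in
theorem qZ_comp_bijective (Z : Over (Spec (CommRingCat.of A))) :
    Function.Bijective fun x : sp (cZ A Z) ⟶ M => qZ Z ≫ x := by
  refine ⟨fun x y h => ?_, fun h => ?_⟩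
  · have h1 : Z.left.toSpecΓ ≫ x.left = Z.left.toSpecΓ ≫ y.left := congrArg CommaMorphism.left h
    refine Over.OverMorphism.ext (ext_of_isAffine ?_)
    have h2 := congrArg Scheme.Hom.appTop h1
    rw [Scheme.Hom.comp_appTop, Scheme.Hom.comp_appTop, Scheme.toSpecΓ_appTop] at h2
    exact (cancel_mono (Scheme.ΓSpecIso Γ(Z.left, ⊤)).hom).1 h2
  · refine ⟨Over.homMk (Spec.map h.left.appTop ≫ M.left.isoSpec.inv) ?_, Over.OverMorphism.ext ?_⟩
    · show (Spec.map h.left.appTop ≫ M.left.isoSpec.inv) ≫ M.hom =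
        Spec.map ((Scheme.ΓSpecIso (CommRingCat.of A)).inv ≫ Z.hom.appTop)
      rw [Category.assoc, isoSpec_inv_hom, ← Spec.map_comp]
      congr 1
      show ((Scheme.ΓSpecIso (CommRingCat.of A)).inv ≫ M.hom.appTop) ≫ h.left.appTop = _
      rw [Category.assoc, ← Scheme.Hom.comp_appTop, Over.w h]
    · show Z.left.toSpecΓ ≫ Spec.map h.left.appTop ≫ M.left.isoSpec.inv = h.left
      rw [← Scheme.toSpecΓ_naturality_assoc, Scheme.toSpecΓ_isoSpec_inv, Category.comp_id]

/-- the structure of a point of the algebra on functions -/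
def zB {B : Type u} [CommRing B] [Algebra A B] {Z : Over (Spec (CommRingCat.of A))}
    (z : Z ⟶ sp (algebraMap A B)) : B →+* Γ(Z.left, ⊤) :=
  ((Scheme.ΓSpecIso (CommRingCat.of B)).inv ≫ z.left.appTop).hom

theorem zB_comp {B : Type u} [CommRing B] [Algebra A B] {Z : Over (Spec (CommRingCat.of A))}
    (z : Z ⟶ sp (algebraMap A B)) : (zB z).comp (algebraMap A B) = cZ A Z := by
  have h : CommRingCat.ofHom (algebraMap A B) ≫ (Scheme.ΓSpecIso (CommRingCat.of B)).inv ≫ z.left.appTop =
      (Scheme.ΓSpecIso (CommRingCat.of A)).inv ≫ Z.hom.appTop := by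
    rw [← Category.assoc, Scheme.ΓSpecIso_inv_naturality, Category.assoc, ← Scheme.Hom.comp_appTop]
    exact congrArg (fun f => _ ≫ Scheme.Hom.appTop f) (Over.w z)
  exact congrArg CommRingCat.Hom.hom h

/-- the algebra map of a point -/
def zBA {B : Type u} [CommRing B] [Algebra A B] {Z : Over (Spec (CommRingCat.of A))}
    (z : Z ⟶ sp (algebraMap A B)) :
    letI := (cZ A Z).toAlgebra
    B →ₐ[A] Γ(Z.left, ⊤) :=
  letI := (cZ A Z).toAlgebra
  { zB z with commutes' := fun a => RingHom.congr_fun (zB_comp z) a }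

/-- points through the spectrum of the functions -/
def qEquiv (Z : Over (Spec (CommRingCat.of A))) : (sp (cZ A Z) ⟶ M) ≃* (Z ⟶ M) :=
  MulEquiv.mk' (Equiv.ofBijective _ (qZ_comp_bijective (M := M) Z)) (fun x y => MonObj.comp_mul _ x y)

/-- the trivialisation of a family of generators -/
def Chars.toTriv {B : Type u} [CommRing B] [Algebra A B] (X : Chars M B) : Triv M (sp (algebraMap A B)) where
  M := X.N
  val {Z} z :=
    letI := (cZ A Z).toAlgebra
    (qEquiv Z).symm.trans (X.valueEquiv (zBA z))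
  nat {Z W} g z h := by
    letI := (cZ A Z).toAlgebra
    letI := (cZ A W).toAlgebra
    obtain ⟨x, rfl⟩ := (qEquiv (M := M) Z).surjective h
    let f : Γ(Z.left, ⊤) →ₐ[A] Γ(W.left, ⊤) :=
      { g.left.appTop.hom with
        commutes' := fun a => by
          show g.left.appTop.hom (cZ A Z a) = cZ A W a
          have : Z.hom.appTop ≫ g.left.appTop = W.hom.appTop := by
            rw [← Scheme.Hom.comp_appTop, Over.w g]
          exact (ConcreteCategory.congr_hom this ((Scheme.ΓSpecIso (CommRingCat.of A)).inv a)) }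
    have h1 : g ≫ qEquiv Z x = qEquiv W (pl f x) := by
      show g ≫ qZ Z ≫ x = qZ W ≫ pl f x
      rw [pl, ← Category.assoc, ← Category.assoc]
      refine congrArg (· ≫ x) (Over.OverMorphism.ext ?_)
      show g.left ≫ Z.left.toSpecΓ = W.left.toSpecΓ ≫ Spec.map g.left.appTop
      exact Scheme.toSpecΓ_naturality g.left
    have h2 : f.comp (zBA z) = zBA (g ≫ z) := AlgHom.ext fun b => by
      show g.left.appTop.hom (zB z b) = zB (g ≫ z) b
      show _ = ((Scheme.ΓSpecIso (CommRingCat.of B)).inv ≫ (g.left ≫ z.left).appTop).hom b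
      rw [Scheme.Hom.comp_appTop]
      rfl
    rw [h1]
    show X.valueEquiv (zBA (g ≫ z)) ((qEquiv W).symm (qEquiv W (pl f x))) =
      g.left.appTop.hom.toMonoidHom.comp (X.valueEquiv (zBA z) ((qEquiv Z).symm (qEquiv Z x)))
    rw [MulEquiv.symm_apply_apply, MulEquiv.symm_apply_apply]
    show X.value (zBA (g ≫ z)) (pl f x) = _
    rw [← h2, X.value_pl]
    rfl

/-- The trivialisation has the given characters. -/
theorem Chars.ch_toTriv {B : Type u} [CommRing B] [Algebra A B] (X : Chars M B) {R : Type u} [CommRing R]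
    [Algebra A R] (β : B →ₐ[A] R) (x : Pt M R) (n : Multiplicative X.N) :
    ch X.toTriv β x n = X.value β x n := by
  let Z : Over (Spec (CommRingCat.of A)) := sp (algebraMap A R)
  letI := (cZ A Z).toAlgebra
  let g : Γ(Z.left, ⊤) →+* R := (Scheme.ΓSpecIso (CommRingCat.of R)).hom.hom
  let f : Γ(Z.left, ⊤) →ₐ[A] R :=
    { g with
      commutes' := fun a => by
        show ((Scheme.ΓSpecIso (CommRingCat.of A)).inv ≫ (Spec.map (CommRingCat.ofHom (algebraMap A R))).appTop ≫
          (Scheme.ΓSpecIso (CommRingCat.of R)).hom).hom a = algebraMap A R a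
        rw [Scheme.ΓSpecIso_naturality, Iso.inv_hom_id_assoc]
        rfl }
  obtain ⟨y, hy⟩ := (qEquiv (M := M) Z).surjective x
  let z : Z ⟶ sp (algebraMap A B) := zOf β.toRingHom (algebraMap A R) β.comp_algebraMap
  have hz : f.comp (zBA z) = β := AlgHom.ext fun b => by
    show ((Scheme.ΓSpecIso (CommRingCat.of B)).inv ≫ (Spec.map (CommRingCat.ofHom β.toRingHom)).appTop ≫
          (Scheme.ΓSpecIso (CommRingCat.of R)).hom).hom b = β b
    rw [Scheme.ΓSpecIso_naturality, Iso.inv_hom_id_assoc]
    rfl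
  have hx : pl f y = x := by
    rw [← hy]
    show spMap f.toRingHom _ _ f.comp_algebraMap ≫ y = qZ Z ≫ y
    refine congrArg (· ≫ y) (Over.OverMorphism.ext ?_)
    exact SpecMap_ΓSpecIso_hom (CommRingCat.of R)
  show f (X.value (zBA z) ((qEquiv Z).symm x) n) = _
  conv_rhs => rw [← hz, ← hx, X.value_pl]
  rw [← hy, MulEquiv.symm_apply_apply]
  rfl

/-- Its universal characters are the given ones. -/
theorem Chars.chr_toTriv {B : Type u} [CommRing B] [Algebra A B] (X : Chars M B) (n : Multiplicative X.N) :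
    chr X.toTriv n = X.χ n := by
  refine (X.ch_toTriv _ _ n).trans ?_
  show pairMap _ (ptAlg (pl _ (univ M))) (X.χ n) = X.χ n
  rw [ptAlg_pl_univ]
  exact AlgHom.congr_fun (Algebra.TensorProduct.ext (AlgHom.ext fun b => by simp [pairMap])
    (AlgHom.ext fun o => by simp [pairMap]) :
      pairMap Algebra.TensorProduct.includeLeft Algebra.TensorProduct.includeRight = AlgHom.id A (B ⊗[A] Ob M)) (X.χ n)

end General

end Groth.Misc15.SemilocInj
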