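import Groth.Agent.Misc15.SemilocInj.Ufd
import Groth.Agent.Misc15.TorusDvr.Cover
import Groth.Agent.Misc15.MultH1.Ring
import Groth.Agent.EtaleBaseTwo.UnramifiedAtLocal
import Groth.Agent.S9812
import Groth.Agent.S9408

/-!
An isotrivial group of multiplicative type over a regular semilocal domain is split by a finite étale
regular semilocal domain, stable under the Galois group of its field of fractions.
-/

set_option autoImplicit false
set_option linter.style.haveILetI false

universe u

open CategoryTheory CategoryTheory.Limits MonoidalCategory CartesianMonoidalCategory MonObj AlgebraicGeometry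
open TensorProduct

noncomputable section

namespace Groth.Misc15.SemilocInj

open Groth.Reductive.MTInt Groth.Misc15.TorusDvr

/-- A finite unramified domain extension of a normal Noetherian domain is étale. -/
theorem etale_of_unramified {A B : Type u} [CommRing A] [IsDomain A] [IsIntegrallyClosed A]
    [IsNoetherianRing A] [CommRing B] [IsDomain B] [Algebra A B] [FaithfulSMul A B] [Module.Finite A B]
    [Algebra.FormallyUnramified A B] : Algebra.Etale A B := by
  haveI : Algebra.FinitePresentation A B := Algebra.FinitePresentation.of_finiteType.1 inferInstance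
  rw [← Algebra.etaleLocus_eq_univ_iff_etale, Set.eq_univ_iff_forall]
  intro q
  haveI : Algebra.IsUnramifiedAt A q.asIdeal := Algebra.FormallyUnramified.comp A B _
  let Rp := Localization.AtPrime (q.asIdeal.under A)
  haveI : IsIntegrallyClosed Rp :=
    isIntegrallyClosed_of_isLocalization Rp _ (q.asIdeal.under A).primeCompl_le_nonZeroDivisors
  obtain ⟨g, hg, het⟩ := Groth.EtaleBaseTwo.exists_etale_away_of_isUnramifiedAt q.asIdeal Rp
    (Groth.Agent.S9812.result Rp) ⊥ bot_le (Ideal.comap_bot_of_injective _ (FaithfulSMul.algebraMap_injective A B))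
  exact Algebra.basicOpen_subset_etaleLocus_iff_etale.2 het hg

/-- The splitting data. -/
structure Split (A : Type u) [CommRing A] [IsDomain A] (M : Over (Spec (CommRingCat.of A))) [GrpObj M] where
  /-- the Galois extension -/
  E : Type u
  [field : Field E]
  [algK : Algebra (FractionRing A) E]
  [algA : Algebra A E]
  [tower : IsScalarTower A (FractionRing A) E]
  [finiteDim : FiniteDimensional (FractionRing A) E]
  [galois : IsGalois (FractionRing A) E]
  /-- the unramified algebra -/
  B : Subalgebra A E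
  [finite : Module.Finite A B]
  [unram : Algebra.FormallyUnramified A B]
  [regular : IsRegularRing B]
  [semilocal : Finite (MaximalSpectrum B)]
  stable : ∀ (g : E ≃ₐ[FractionRing A] E) (x : E), x ∈ B → g x ∈ B
  frac : ∀ x : E, ∃ s b : B, s ≠ 0 ∧ x * s = b
  /-- the trivialisation -/
  triv : Triv M (sp (algebraMap A B))
  [fg : Group.FG (Multiplicative triv.M)]

attribute [instance] Split.field Split.algK Split.algA Split.tower Split.finiteDim Split.galois
  Split.finite Split.unram Split.regular Split.semilocal Split.fg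

theorem isAffineHom_of_locally {A : Type u} [CommRing A] {M : Over (Spec (CommRingCat.of A))} [GrpObj M]
    (hM : ∃ (Λ : Type) (_ : AddCommGroup Λ), AddGroup.FG Λ ∧
      TwC.Locally (Spec (CommRingCat.of A)) .finiteEtale
        (fun S' g => Nonempty (Grp.mk (Red.bc g M) ≅ Grp.mk (Red.DS S' Λ)))) : IsAffineHom M.hom := by
  obtain ⟨Λ, _, -, S', f, hfin, het, hsurj, hloc⟩ := hM
  exact (locTriv_of_locally ⟨S', f, inferInstance, hsurj,
    fun V hV => ⟨f ⁻¹ᵁ V, (hV.preimage f).isCompact, Set.image_preimage_eq _ hsurj.surj⟩,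
    fun s' => by obtain ⟨U, h1, -, h3⟩ := hloc s'; exact ⟨U, h1, Λ, inferInstance, h3⟩⟩).1

theorem nonempty_split {A : Type u} [CommRing A] [IsDomain A] [IsRegularRing A] [Finite (MaximalSpectrum A)]
    {M : Over (Spec (CommRingCat.of A))} [GrpObj M]
    (hM : ∃ (Λ : Type) (_ : AddCommGroup Λ), AddGroup.FG Λ ∧
      TwC.Locally (Spec (CommRingCat.of A)) .finiteEtale
        (fun S' g => Nonempty (Grp.mk (Red.bc g M) ≅ Grp.mk (Red.DS S' Λ)))) : Nonempty (Split A M) := by
  classical
  haveI := ufd_of_semilocal_regular A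
  obtain ⟨Λ, _, hfg, S', f, hfin, het, hsurj, hloc⟩ := hM
  haveI : IsAffine S' := isAffine_of_isAffineHom f
  obtain ⟨φ, hφ⟩ : ∃ φ : CommRingCat.of A ⟶ Γ(S', ⊤), Spec.map φ = S'.isoSpec.inv ≫ f :=
    ⟨_, Spec.map_preimage _⟩
  letI := φ.hom.toAlgebra
  haveI : Module.Finite A Γ(S', ⊤) := by
    show φ.hom.Finite
    rw [← IsFinite.SpecMap_iff, hφ]
    infer_instance
  haveI : Algebra.Etale A Γ(S', ⊤) := by
    show φ.hom.Etale
    rw [← HasRingHomProperty.Spec_iff (P := @Etale), hφ]
    infer_instance
  haveI : Surjective (Spec.map φ) := by rw [hφ]; infer_instance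
  -- a point over the generic point
  let K := FractionRing A
  let CK := K ⊗[A] Γ(S', ⊤)
  haveI : Nontrivial CK := by
    obtain ⟨q, hq⟩ := (Spec.map φ).surjective (⟨⊥, Ideal.isPrime_bot⟩ : PrimeSpectrum A)
    replace hq : q.asIdeal.comap (algebraMap A Γ(S', ⊤)) = ⊥ := congrArg PrimeSpectrum.asIdeal hq
    haveI := q.isPrime
    let C₁ := Γ(S', ⊤) ⧸ q.asIdeal
    have hinj : Function.Injective (algebraMap A (FractionRing C₁)) := (injective_iff_map_eq_zero _).2 fun a ha => by
      rw [IsScalarTower.algebraMap_apply A C₁ (FractionRing C₁), IsFractionRing.to_map_eq_zero_iff] at ha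
      rw [← Ideal.mem_bot, ← hq, Ideal.mem_comap]
      exact Ideal.Quotient.eq_zero_iff_mem.1 ha
    exact (Algebra.TensorProduct.lift (IsFractionRing.liftAlgHom (g := Algebra.ofId A (FractionRing C₁)) hinj : K →ₐ[A] FractionRing C₁)
      (IsScalarTower.toAlgHom A Γ(S', ⊤) (FractionRing C₁)) fun _ _ => Commute.all _ _).toRingHom.domain_nontrivial
  obtain ⟨m, hm⟩ := Ideal.exists_maximal CK
  letI := Ideal.Quotient.field m
  haveI : Module.Finite K CK := Module.Finite.base_change A K _
  haveI : Module.Finite K (CK ⧸ m) := Module.Finite.of_surjective (Ideal.Quotient.mkₐ K m).toLinearMap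
    (Ideal.Quotient.mkₐ_surjective K m)
  haveI : Algebra.FormallyUnramified K CK := inferInstance
  haveI : Algebra.FormallyUnramified K (CK ⧸ m) :=
    .of_surjective (Ideal.Quotient.mkₐ K m) (Ideal.Quotient.mkₐ_surjective K m)
  haveI : Algebra.IsSeparable K (CK ⧸ m) := Algebra.FormallyUnramified.isSeparable _ _
  obtain ⟨E₁, _, _, _, _, ⟨jE⟩⟩ := Groth.TorusPts.exists_galois_over (K := K) (CK ⧸ m)
  letI : Algebra A E₁ := ((algebraMap K E₁).comp (algebraMap A K)).toAlgebra
  haveI : IsScalarTower A K E₁ := .of_algebraMap_eq fun _ => rfl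
  obtain ⟨S, hSfin, hSu, hCS, hstable⟩ := exists_stable_subalgebra (K := K)
    (((jE.comp (Ideal.Quotient.mkₐ K m)).restrictScalars A).comp
      (Algebra.TensorProduct.includeRight : Γ(S', ⊤) →ₐ[A] CK))
  -- the field it generates
  let L : IntermediateField K E₁ := IntermediateField.adjoin K (S : Set E₁)
  have hLspan : ∀ x ∈ L, ∃ a : A, a ≠ 0 ∧ a • x ∈ S := by
    intro x hx
    have hx' : x ∈ Submodule.span K (S : Set E₁) := by
      have h1 : x ∈ L.toSubalgebra := hx
      rw [IntermediateField.adjoin_toSubalgebra, ← Subalgebra.mem_toSubmodule,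
        Algebra.adjoin_eq_span] at h1
      refine Submodule.span_mono ?_ h1
      show ((Submonoid.closure (S : Set E₁) : Submonoid E₁) : Set E₁) ⊆ (S.toSubmonoid : Set E₁)
      exact SetLike.coe_subset_coe.2 (Submonoid.closure_le.2 subset_rfl)
    clear hx
    induction hx' using Submodule.span_induction with
    | mem y hy => exact ⟨1, one_ne_zero, by rwa [one_smul]⟩
    | zero => exact ⟨1, one_ne_zero, by rw [one_smul]; exact S.zero_mem⟩
    | add y z _ _ hy hz =>
      obtain ⟨a, ha, hy⟩ := hy
      obtain ⟨b, hb, hz⟩ := hz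
      refine ⟨a * b, mul_ne_zero ha hb, ?_⟩
      rw [smul_add]
      refine S.add_mem ?_ ?_
      · rw [mul_comm, mul_smul]; exact S.smul_mem hy b
      · rw [mul_smul]; exact S.smul_mem hz a
    | smul k y _ hy =>
      obtain ⟨a, ha, hy⟩ := hy
      obtain ⟨p, q, hq, rfl⟩ := IsFractionRing.div_surjective (A := A) k
      refine ⟨q * a, mul_ne_zero (nonZeroDivisors.ne_zero hq) ha, ?_⟩
      have : (q * a) • ((algebraMap A K p / algebraMap A K q) • y) = p • (a • y) := by
        rw [← IsScalarTower.algebraMap_smul K (q * a), ← IsScalarTower.algebraMap_smul K p,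
          ← IsScalarTower.algebraMap_smul K a y, smul_smul, smul_smul, map_mul]
        congr 1
        have : algebraMap A K q ≠ 0 := IsFractionRing.to_map_ne_zero_of_mem_nonZeroDivisors hq
        rw [_root_.mul_assoc, mul_comm (algebraMap A K a), ← _root_.mul_assoc, mul_div_cancel₀ _ this]
      rw [this]
      exact S.smul_mem hy p
  have hLst : ∀ (σ : E₁ ≃ₐ[K] E₁) (x : E₁), x ∈ L → σ x ∈ L := fun σ x hx => by
    have : L.map σ.toAlgHom ≤ L := by
      rw [IntermediateField.adjoin_map]
      refine IntermediateField.adjoin.mono _ _ _ ?_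
      rintro _ ⟨y, hy, rfl⟩
      exact hstable σ y hy
    exact this ⟨x, hx, rfl⟩
  haveI : Normal K L := IntermediateField.normal_iff_forall_map_le'.2 fun σ => by
    rintro _ ⟨y, hy, rfl⟩
    exact hLst σ y hy
  haveI : Algebra.IsSeparable K L := Algebra.isSeparable_tower_bot_of_isSeparable K L E₁
  haveI : IsGalois K L := ⟨⟩
  -- the algebra inside it
  let ι₀ : L →ₐ[A] E₁ := L.val.restrictScalars A
  let B : Subalgebra A L := S.comap ι₀
  have hSL : ∀ x ∈ S, x ∈ L := fun x hx => IntermediateField.subset_adjoin K _ hx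
  let e : B ≃ₐ[A] S := AlgEquiv.ofBijective ((ι₀.comp B.val).codRestrict S fun x => x.2)
    ⟨fun x y h => Subtype.ext (Subtype.ext (congrArg (fun z : S => z.1) h :)), fun y =>
      ⟨⟨⟨y.1, hSL _ y.2⟩, y.2⟩, Subtype.ext rfl⟩⟩
  haveI : Module.Finite A B := Module.Finite.equiv e.symm.toLinearEquiv
  haveI : Algebra.FormallyUnramified A B := .of_equiv e.symm
  haveI : FaithfulSMul A B := (faithfulSMul_iff_algebraMap_injective A B).2 fun a b h => by
    have h1 : algebraMap K E₁ (algebraMap A K a) = algebraMap K E₁ (algebraMap A K b) :=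
      congrArg (fun z : B => (z.1 : E₁)) h
    exact IsFractionRing.injective A K ((algebraMap K E₁).injective h1)
  haveI : IsNoetherianRing B := Algebra.FiniteType.isNoetherianRing A B
  haveI : Algebra.Etale A B := etale_of_unramified
  haveI : IsRegularRing B := Groth.Agent.S9408.isRegularRing_of_smooth A B
  haveI : Finite (MaximalSpectrum B) := Groth.Misc15.MultH1.finite_maximalSpectrum A B
  have hfrac : ∀ x : L, ∃ s b : B, s ≠ 0 ∧ x * s = b := fun x => by
    obtain ⟨a, ha, hax⟩ := hLspan x.1 x.2
    refine ⟨algebraMap A B a, ⟨a • x, hax⟩, ?_, ?_⟩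
    · rw [Ne, map_eq_zero_iff _ (FaithfulSMul.algebraMap_injective A B)]; exact ha
    · show x * algebraMap A L a = a • x
      rw [Algebra.smul_def, mul_comm]
  -- the trivialisation
  let jB : Γ(S', ⊤) →ₐ[A] B := e.symm.toAlgHom.comp
    ((((jE.comp (Ideal.Quotient.mkₐ K m)).restrictScalars A).comp
      (Algebra.TensorProduct.includeRight : Γ(S', ⊤) →ₐ[A] CK)).codRestrict S hCS)
  let qB : Spec (CommRingCat.of B) ⟶ S' := Spec.map (CommRingCat.ofHom (jB : Γ(S', ⊤) →+* B)) ≫ S'.isoSpec.inv
  let gB : PrimeSpectrum B := ⟨⊥, Ideal.isPrime_bot⟩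
  obtain ⟨U, hU, hUc, ⟨eU⟩⟩ := hloc (qB.base gB)
  have hrange : Set.range qB.base ⊆ Set.range U.ι.base := by
    rw [Scheme.Opens.range_ι]
    rintro _ ⟨x, rfl⟩
    exact ((PrimeSpectrum.le_iff_specializes gB x).1 bot_le).map qB.base.hom.2 |>.mem_closed hUc hU
  let τ : Triv M (sp (algebraMap A B)) := trivOfIso eU (IsOpenImmersion.lift U.ι qB hrange) (by
    rw [IsOpenImmersion.lift_fac_assoc]
    show qB ≫ f = Spec.map (CommRingCat.ofHom (algebraMap A B))
    rw [Category.assoc, ← hφ, ← Spec.map_comp]
    congr 1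
    exact CommRingCat.hom_ext (RingHom.ext fun a => jB.commutes a))
  haveI : AddGroup.FG τ.M := hfg
  exact ⟨{ E := L, B := B, frac := hfrac, triv := τ, fg := inferInstance,
           stable := fun g x hx => by
             obtain ⟨σ, hσ⟩ := AlgEquiv.restrictNormalHom_surjective E₁ g
             show ι₀ (g x) ∈ S
             rw [show ι₀ (g x) = σ (x : E₁) by
               rw [← hσ]; exact AlgEquiv.restrictNormal_commutes σ L x]
             exact hstable σ _ hx }⟩

end Groth.Misc15.SemilocInj
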