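import Mathlib.RingTheory.Flat.FaithfullyFlat.Algebra
import Mathlib.RingTheory.UniqueFactorizationDomain.Basic
import Mathlib.RingTheory.UniqueFactorizationDomain.Multiplicity
import Mathlib.RingTheory.Localization.FractionRing
import Mathlib.LinearAlgebra.TensorProduct.RightExactness

/-!
Elements of `E ⊗ C` which are units locally at a prime element of a factorial subring of `E`.
-/

set_option autoImplicit false
set_option linter.style.haveILetI false

universe u

open TensorProduct

noncomputable section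

set_option synthInstance.maxHeartbeats 200000

namespace Groth.Misc15.SemilocInj

variable {A E : Type u} [CommRing A] [Field E] [Algebra A E] (B : Subalgebra A E)
  (C : Type u) [CommRing C] [Algebra A C]

/-- the integral part -/
def incl : B ⊗[A] C →ₐ[A] E ⊗[A] C := Algebra.TensorProduct.map B.val (AlgHom.id A C)

/-- scalars -/
def jB : B →+* E ⊗[A] C :=
  (Algebra.TensorProduct.includeLeft : E →ₐ[A] E ⊗[A] C).toRingHom.comp B.val.toRingHom

theorem jB_eq (b : B) : jB B C b = incl B C (b ⊗ₜ 1) := by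
  simp [jB, incl]

/-- nonzero scalars -/
def jE : Eˣ →* (E ⊗[A] C)ˣ :=
  Units.map ((Algebra.TensorProduct.includeLeft : E →ₐ[A] E ⊗[A] C) : E →* E ⊗[A] C)

/-- integral after inverting an element outside `q` -/
def InLoc (q : Ideal B) (z : E ⊗[A] C) : Prop := ∃ s : B, s ∉ q ∧ jB B C s * z ∈ (incl B C).range

variable {B C}

theorem InLoc.mul {q : Ideal B} [q.IsPrime] {z z' : E ⊗[A] C} (h : InLoc B C q z) (h' : InLoc B C q z') :
    InLoc B C q (z * z') := by
  obtain ⟨s, hs, w, hw⟩ := h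
  obtain ⟨t, ht, w', hw'⟩ := h'
  refine ⟨s * t, fun e => (Ideal.IsPrime.mem_or_mem inferInstance e).elim hs ht, w * w', ?_⟩
  show incl B C (w * w') = _
  rw [map_mul, show incl B C w = jB B C s * z from hw, show incl B C w' = jB B C t * z' from hw', map_mul]
  ring

theorem inLoc_range {q : Ideal B} [q.IsPrime] {z : E ⊗[A] C} (h : z ∈ (incl B C).range) : InLoc B C q z :=
  ⟨1, fun e => Ideal.IsPrime.ne_top inferInstance ((Ideal.eq_top_iff_one q).2 e),
    by rw [map_one, one_mul]; exact h⟩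

variable (B C) in
/-- units locally at `q` -/
def locUnits (q : Ideal B) [q.IsPrime] : Subgroup (E ⊗[A] C)ˣ where
  carrier := {z | InLoc B C q z ∧ InLoc B C q ↑z⁻¹}
  one_mem' := ⟨inLoc_range (by simp), inLoc_range (by simp)⟩
  mul_mem' := fun ha hb => ⟨by rw [Units.val_mul]; exact ha.1.mul hb.1,
    by rw [mul_inv, Units.val_mul]; exact ha.2.mul hb.2⟩
  inv_mem' := fun ha => ⟨ha.2, by rw [inv_inv]; exact ha.1⟩

/-- first map to the double tensor -/
def i₁ (R : Type u) [CommRing R] [Algebra A R] : R ⊗[A] C →ₐ[A] R ⊗[A] (C ⊗[A] C) :=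
  Algebra.TensorProduct.map (AlgHom.id A R) Algebra.TensorProduct.includeLeft

/-- second map to the double tensor -/
def i₂ (R : Type u) [CommRing R] [Algebra A R] : R ⊗[A] C →ₐ[A] R ⊗[A] (C ⊗[A] C) :=
  Algebra.TensorProduct.map (AlgHom.id A R) Algebra.TensorProduct.includeRight

section Flat

variable [Module.Flat A C]

variable (B C) in
theorem incl_injective : Function.Injective (incl B C) :=
  Module.Flat.rTensor_preserves_injective_linearMap (M := C) B.val.toLinearMap Subtype.val_injective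

variable (B C) in
/-- reduction modulo an ideal -/
def red (q : Ideal B) : B ⊗[A] C →ₐ[A] (B ⧸ q) ⊗[A] C :=
  Algebra.TensorProduct.map (Ideal.Quotient.mkₐ A q) (AlgHom.id A C)

theorem red_tmul (q : Ideal B) (b : B) (c : C) : red B C q (b ⊗ₜ c) = Ideal.Quotient.mk q b ⊗ₜ c := rfl

theorem exists_of_red_eq_zero {π : B} {z : B ⊗[A] C} (h : red B C (Ideal.span {π}) z = 0) :
    ∃ w, z = (π ⊗ₜ 1) * w := by
  have hk : z ∈ RingHom.ker (red B C (Ideal.span {π})) := h
  rw [red, Algebra.TensorProduct.rTensor_ker _ Ideal.Quotient.mk_surjective,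
    show RingHom.ker (Ideal.Quotient.mkₐ A (Ideal.span {π})) = Ideal.span {π} from Ideal.mk_ker,
    Ideal.map_span, Set.image_singleton, Ideal.mem_span_singleton] at hk
  obtain ⟨w, hw⟩ := hk
  exact ⟨w, hw⟩

theorem red_eq_zero_of {π : B} {z : B ⊗[A] C} (w : B ⊗[A] C) (h : z = (π ⊗ₜ 1) * w) :
    red B C (Ideal.span {π}) z = 0 := by
  rw [h, map_mul, red_tmul, Ideal.Quotient.eq_zero_iff_mem.2 (Ideal.mem_span_singleton_self π),
    zero_tmul]
  exact zero_mul (red B C (Ideal.span {π}) w)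

theorem eq_zero_of_tmul_mul {R : Type u} [CommRing R] [IsDomain R] [Algebra A R] {s : R} (hs : s ≠ 0)
    {z : R ⊗[A] C} (h : (s ⊗ₜ 1) * z = 0) : z = 0 := by
  let l : R →ₗ[A] R := LinearMap.mulLeft A s
  have hl : Function.Injective l := fun x y e => mul_left_cancel₀ hs e
  have hli := Module.Flat.rTensor_preserves_injective_linearMap (M := C) l hl
  have key : ∀ y : R ⊗[A] C, (s ⊗ₜ 1) * y = l.rTensor C y := fun y => by
    induction y using TensorProduct.induction_on with
    | zero => simp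
    | add a b ha hb => rw [mul_add, ha, hb, map_add]
    | tmul a b => simp [l]
  rw [key] at h
  exact hli (h.trans (map_zero _).symm)

/-- Multiplication by a scalar prime to `q` is injective modulo `q`. -/
theorem red_eq_zero_of_mul {q : Ideal B} [q.IsPrime] {s : B} (hs : s ∉ q) {z : B ⊗[A] C}
    (h : red B C q ((s ⊗ₜ 1) * z) = 0) : red B C q z = 0 := by
  rw [map_mul, red_tmul] at h
  exact eq_zero_of_tmul_mul (mt Ideal.Quotient.eq_zero_iff_mem.1 hs) h

end Flat

variable [Module.FaithfullyFlat A C]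

theorem tmul_one_injective (M : Type u) [AddCommGroup M] [Module A M] :
    Function.Injective fun m : M => m ⊗ₜ[A] (1 : C) := fun m m' e => by
  apply Module.FaithfullyFlat.tensorProduct_mk_injective (A := A) (B := C) M
  have := congrArg (TensorProduct.comm A M C) e
  simpa using this

theorem dvd_of_tmul_eq {π D : B} {w : B ⊗[A] C} (h : D ⊗ₜ 1 = (π ⊗ₜ 1) * w) : π ∣ D := by
  have h1 := red_eq_zero_of w h
  rw [red_tmul] at h1
  rw [← Ideal.mem_span_singleton, ← Ideal.Quotient.eq_zero_iff_mem]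
  exact tmul_one_injective (C := C) _ (h1.trans (zero_tmul _ _).symm)


theorem red_eq_zero_of_cocycle {L : Type u} [CommRing L] [Algebra A L] {q : Ideal B} (φ : B ⊗[A] C →ₐ[A] L)
    (φq : B ⧸ q →ₐ[A] L) (hφq : Function.Injective φq)
    (hcomm : ∀ b : B, φq (Ideal.Quotient.mk q b) = φ (b ⊗ₜ 1)) {c₀ : B ⊗[A] C}
    (u : B ⊗[A] (C ⊗[A] C)) (hu : i₁ B c₀ = u * i₂ B c₀) (hφc : φ c₀ = 0) : red B C q c₀ = 0 := by
  let Φ : B ⊗[A] (C ⊗[A] C) →ₐ[A] C ⊗[A] L :=
    Algebra.TensorProduct.lift
      ((Algebra.TensorProduct.includeRight : L →ₐ[A] C ⊗[A] L).comp (φ.comp Algebra.TensorProduct.includeLeft))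
      (Algebra.TensorProduct.map (AlgHom.id A C) (φ.comp Algebra.TensorProduct.includeRight))
      fun x y => Commute.all (S := C ⊗[A] L) _ _
  have e2 : ∀ x : B ⊗[A] C, Φ (i₂ B x) = (1 : C) ⊗ₜ φ x := fun x => by
    induction x using TensorProduct.induction_on with
    | zero => simp
    | add a b ha hb => simp only [map_add, ha, hb, tmul_add]
    | tmul b c =>
      simp only [Φ, i₂, Algebra.TensorProduct.map_tmul, AlgHom.id_apply, Algebra.TensorProduct.includeRight_apply,
        Algebra.TensorProduct.lift_tmul, AlgHom.comp_apply, Algebra.TensorProduct.includeLeft_apply,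
        Algebra.TensorProduct.tmul_mul_tmul, mul_one]
      rw [← map_mul, Algebra.TensorProduct.tmul_mul_tmul, mul_one, one_mul]
  have e1 : ∀ x : B ⊗[A] C, Φ (i₁ B x) =
      φq.toLinearMap.lTensor C (TensorProduct.comm A (B ⧸ q) C (red B C q x)) := fun x => by
    induction x using TensorProduct.induction_on with
    | zero => simp
    | add a b ha hb => simp only [map_add, ha, hb]
    | tmul b c =>
      simp only [Φ, i₁, red_tmul, Algebra.TensorProduct.map_tmul, AlgHom.id_apply, Algebra.TensorProduct.includeLeft_apply,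
        Algebra.TensorProduct.lift_tmul, AlgHom.comp_apply, Algebra.TensorProduct.includeRight_apply,
        TensorProduct.comm_tmul, LinearMap.lTensor_tmul, AlgHom.toLinearMap_apply,
        Algebra.TensorProduct.tmul_mul_tmul, one_mul]
      rw [← Algebra.TensorProduct.one_def, map_one, mul_one, hcomm]
  refine (TensorProduct.comm A (B ⧸ q) C).injective
    (Module.Flat.lTensor_preserves_injective_linearMap (M := C) φq.toLinearMap hφq ?_)
  rw [← e1, hu, map_mul, e2, hφc, tmul_zero, mul_zero, map_zero, map_zero]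

/-- Dichotomy at a prime element. -/
theorem exists_dvd_scalar {π D : B} (hπ : Prime π) {c₀ c₀' : B ⊗[A] C} (hD : c₀ * c₀' = D ⊗ₜ 1)
    (hD0 : D ≠ 0) (u : B ⊗[A] (C ⊗[A] C)) (hu : i₁ B c₀ = u * i₂ B c₀)
    (hπc : red B C (Ideal.span {π}) c₀ ≠ 0) [UniqueFactorizationMonoid B] :
    ∃ s ∉ Ideal.span {π}, ∃ w, c₀ * w = s ⊗ₜ 1 := by
  classical
  haveI hq : (Ideal.span {π}).IsPrime := (Ideal.span_singleton_prime hπ.ne_zero).2 hπ
  by_contra hne
  push Not at hne
  set q := Ideal.span {π}
  let ι₀ : B →+* B ⊗[A] C := (Algebra.TensorProduct.includeLeft : B →ₐ[A] B ⊗[A] C).toRingHom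
  have hdisj : Disjoint ((Ideal.span {c₀} : Ideal (B ⊗[A] C)) : Set (B ⊗[A] C))
      ((q.primeCompl.map ι₀ : Submonoid _) : Set (B ⊗[A] C)) := by
    rw [Set.disjoint_left]
    rintro _ h1 ⟨s, hs, rfl⟩
    obtain ⟨w, hw⟩ := Ideal.mem_span_singleton.1 h1
    exact hne s hs w hw.symm
  obtain ⟨P, hP, hle, hPd⟩ := Ideal.exists_le_prime_disjoint _ _ hdisj
  haveI := hP
  have hcP : c₀ ∈ P := hle (Ideal.mem_span_singleton_self c₀)
  have hPq : ∀ b : B, ι₀ b ∈ P → b ∈ q := fun b hb => by
    by_contra hbq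
    exact Set.disjoint_left.1 hPd hb ⟨b, hbq, rfl⟩
  have hπP : ι₀ π ∈ P := by
    obtain ⟨k, r, hr, hDk⟩ := WfDvdMonoid.max_power_factor hD0 hπ.irreducible
    have h1 : ι₀ (π ^ k * r) ∈ P := by
      rw [← hDk]
      show (D ⊗ₜ[A] (1 : C)) ∈ P
      rw [← hD]
      exact Ideal.mul_mem_right _ _ hcP
    rw [map_mul, map_pow] at h1
    exact (hP.mem_or_mem h1).elim (fun h => hP.mem_of_pow_mem k h)
      (fun h => absurd (Ideal.mem_span_singleton.1 (hPq r h)) hr)
  -- the residue domain
  let L := (B ⊗[A] C) ⧸ P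
  let φ : B ⊗[A] C →ₐ[A] L := Ideal.Quotient.mkₐ A P
  have hφc : φ c₀ = 0 := by
    exact Ideal.Quotient.eq_zero_iff_mem.2 hcP
  let φq : B ⧸ q →ₐ[A] L := Ideal.Quotient.liftₐ q (φ.comp Algebra.TensorProduct.includeLeft) fun b hb => by
    obtain ⟨r, rfl⟩ := Ideal.mem_span_singleton.1 hb
    show Ideal.Quotient.mk P (ι₀ (π * r)) = 0
    rw [map_mul ι₀, Ideal.Quotient.eq_zero_iff_mem.2 (Ideal.mul_mem_right _ _ hπP)]
  have hφq : Function.Injective φq := (injective_iff_map_eq_zero φq).2 fun x hx => by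
    obtain ⟨b, rfl⟩ := Ideal.Quotient.mk_surjective x
    refine Ideal.Quotient.eq_zero_iff_mem.2 (hPq b (Ideal.Quotient.eq_zero_iff_mem.1 ?_))
    exact hx
  exact hπc (red_eq_zero_of_cocycle (L := L) φ φq hφq (fun b => rfl) u hu hφc)

end Groth.Misc15.SemilocInj
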