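import Groth.Agent.Misc15.SemilocInj.Pts
import Groth.Agent.Misc15.SemilocInj.Loc
import Groth.Agent.Misc15.UnramH1.Theta

/-!
Points over the generic fibre with integral characters descend.
-/

set_option autoImplicit false
set_option linter.style.haveILetI false
set_option synthInstance.maxHeartbeats 200000

universe u

open CategoryTheory CategoryTheory.Limits MonoidalCategory CartesianMonoidalCategory MonObj AlgebraicGeometry
open TensorProduct

noncomputable section

namespace Groth.Misc15.SemilocInj

open Groth.Reductive.MTInt Groth.Misc15.TorusDvr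

variable {A : Type u} [CommRing A]

section Algebra

variable {K E C : Type u} [CommRing K] [Field E] [CommRing C] [Algebra A K] [Algebra A E] [Algebra A C]
  {B : Subalgebra A E}

/-- the map to the Galois extension -/
def ext (f : K →ₐ[A] E) (C : Type u) [CommRing C] [Algebra A C] : K ⊗[A] C →ₐ[A] E ⊗[A] C :=
  Algebra.TensorProduct.map f (AlgHom.id A C)

theorem mem_includeRight_of [Module.Flat A C] (f : K →ₐ[A] E)
    (hAK : ∀ k : K, f k ∈ B → ∃ a : A, algebraMap A K a = k)
    {z : K ⊗[A] C} {w : B ⊗[A] C} (h : incl B C w = ext f C z) : ∃ c : C, (1 : K) ⊗ₜ[A] c = z := by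
  let δ : A →ₗ[A] K × B := (Algebra.linearMap A K).prod (Algebra.linearMap A B)
  let φ : K × B →ₗ[A] E := f.toLinearMap.coprod (-B.val.toLinearMap)
  have hex : Function.Exact δ φ := by
    rintro ⟨k, b⟩
    constructor
    · intro hkb
      have hkb' : f k = b := by
        have : f k + -(b : E) = 0 := hkb
        exact add_neg_eq_zero.1 this
      obtain ⟨a, rfl⟩ := hAK k (hkb' ▸ b.2)
      refine ⟨a, Prod.ext rfl (Subtype.ext ?_)⟩
      rw [← hkb', AlgHom.commutes]
      rfl
    · rintro ⟨a, ha⟩
      rw [← ha]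
      show f (algebraMap A K a) + -((algebraMap A B a : B) : E) = 0
      rw [AlgHom.commutes]
      exact add_neg_cancel _
  let y := LinearMap.rTensor C (LinearMap.inl A K B) z + LinearMap.rTensor C (LinearMap.inr A K B) w
  have h1 : ∀ z : K ⊗[A] C, LinearMap.rTensor C φ (LinearMap.rTensor C (LinearMap.inl A K B) z) = ext f C z := fun z => by
    induction z using TensorProduct.induction_on with
    | zero => simp
    | add p q hp hq => simp only [map_add, hp, hq]
    | tmul p q => simp [φ, ext]
  have h2 : ∀ w : B ⊗[A] C, LinearMap.rTensor C φ (LinearMap.rTensor C (LinearMap.inr A K B) w) = -incl B C w := fun w => by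
    induction w using TensorProduct.induction_on with
    | zero => simp
    | add p q hp hq => simp only [map_add, hp, hq]; abel
    | tmul p q => simp [φ, incl, TensorProduct.neg_tmul]
  have hy : LinearMap.rTensor C φ y = 0 := by rw [map_add, h1, h2, h, add_neg_cancel]
  obtain ⟨t, ht⟩ := (Module.Flat.rTensor_exact C hex y).1 hy
  refine ⟨TensorProduct.lid A C t, ?_⟩
  have h3 : ∀ t : A ⊗[A] C, LinearMap.rTensor C (LinearMap.fst A K B) (LinearMap.rTensor C δ t) =
      (1 : K) ⊗ₜ[A] TensorProduct.lid A C t := fun t => by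
    induction t using TensorProduct.induction_on with
    | zero => simp
    | add p q hp hq => simp only [map_add, TensorProduct.tmul_add, hp, hq]
    | tmul p q =>
      show algebraMap A K p ⊗ₜ[A] q = (1 : K) ⊗ₜ[A] (p • q)
      rw [← TensorProduct.smul_tmul, Algebra.smul_def, _root_.mul_one]
  rw [← h3, ht]
  simp only [y, map_add, ← LinearMap.rTensor_comp_apply, LinearMap.fst_comp_inl, LinearMap.fst_comp_inr,
    LinearMap.rTensor_id, LinearMap.rTensor_zero, LinearMap.id_apply, LinearMap.zero_apply, add_zero]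

end Algebra

variable {T : Over (Spec (CommRingCat.of A))} [GrpObj T] {B : Type u} [CommRing B] [Algebra A B]
  (τ : Triv T (sp (algebraMap A B))) {R R' : Type u} [CommRing R] [Algebra A R] [CommRing R'] [Algebra A R']

/-- the characters of a point -/
def ch (β : B →ₐ[A] R) : Pt T R ≃* (Multiplicative τ.M →* R) :=
  Φ τ β.toRingHom (algebraMap A R) β.comp_algebraMap

theorem ch_pl (β : B →ₐ[A] R) (f : R →ₐ[A] R') (x : Pt T R) :
    ch τ (f.comp β) (pl f x) = f.toRingHom.toMonoidHom.comp (ch τ β x) :=
  Φ_map τ f.toRingHom β.toRingHom (algebraMap A R) (algebraMap A R') β.comp_algebraMap f.comp_algebraMap x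

theorem ch_congr {β β' : B →ₐ[A] R} (h : β = β') (x : Pt T R) : ch τ β x = ch τ β' x := by
  subst h; rfl

include τ in
theorem pt_mul_comm [Module.FaithfullyFlat A B] [IsAffine T.left] (x y : Pt T R) : x * y = y * x := by
  refine pl_injective (Algebra.TensorProduct.includeLeft : R →ₐ[A] R ⊗[A] B)
    (tmul_one_injective R) ?_
  refine (ch τ (Algebra.TensorProduct.includeRight : B →ₐ[A] R ⊗[A] B)).injective ?_
  rw [pl_mul, pl_mul, map_mul, map_mul, mul_comm]

/-- Comparison of the characters through an endomorphism of a field containing the algebra. -/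
theorem exists_theta' {E : Type u} [Field E] [Algebra A E] (j : B →ₐ[A] E) (g : E →ₐ[A] E) :
    ∃ θ : Multiplicative τ.M → Multiplicative τ.M, ∀ (R : Type u) [CommRing R] [Algebra A R] (f : E →ₐ[A] R)
      (x : Pt T R) (n : Multiplicative τ.M),
      ch τ ((f.comp g).comp j) x n = ch τ (f.comp j) x (θ n) := by
  obtain ⟨θ, hθ⟩ := Groth.Misc15.UnramH1.exists_char τ (D := E) (cD := algebraMap A E) j.toRingHom
    j.comp_algebraMap
    (fun S _ f =>
      { toFun := fun x => ⇑(Groth.Misc15.UnramH1.Ψ τ (g.comp j).toRingHom (g.comp j).comp_algebraMap f x)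
        map_one' := by rw [map_one]; rfl
        map_mul' := fun x y => by rw [map_mul]; rfl })
    (fun S S' _ _ f f' x n => DFunLike.congr_fun
      (Groth.Misc15.UnramH1.Ψ_map τ (g.comp j).toRingHom (g.comp j).comp_algebraMap f f' x) n)
  refine ⟨θ, fun R _ _ f x n => ?_⟩
  have key : ∀ (c : A →+* R) (hc : f.toRingHom.comp (algebraMap A E) = c) (x : sp c ⟶ T)
      (h1 : (f.toRingHom.comp (g.comp j).toRingHom).comp (algebraMap A B) = c)
      (h2 : (f.toRingHom.comp j.toRingHom).comp (algebraMap A B) = c),
      Φ τ (f.toRingHom.comp (g.comp j).toRingHom) c h1 x n = Φ τ (f.toRingHom.comp j.toRingHom) c h2 x (θ n) := by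
    rintro c rfl x h1 h2
    exact hθ R f.toRingHom x n
  exact key _ f.comp_algebraMap x _ _

variable {E : Type u} [Field E] [Algebra A E] {S : Subalgebra A E} (τ' : Triv T (sp (algebraMap A S)))
  {K C : Type u} [CommRing K] [Algebra A K] [CommRing C] [Algebra A C]

/-- A point over the generic fibre with integral characters comes from the base. -/
theorem exists_descend [IsAffine T.left] [Module.Flat A C] (f : K →ₐ[A] E)
    (hAK : ∀ k : K, f k ∈ S → ∃ a : A, algebraMap A K a = k) (hC : Function.Injective
      (Algebra.TensorProduct.includeRight : C →ₐ[A] K ⊗[A] C)) (x : Pt T (K ⊗[A] C))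
    (hx : ∀ n, ∃ w, incl S C w =
      ch τ' ((Algebra.TensorProduct.includeLeft : E →ₐ[A] E ⊗[A] C).comp S.val) (pl (ext f C) x) n) :
    ∃ x₀, pl (Algebra.TensorProduct.includeRight : C →ₐ[A] K ⊗[A] C) x₀ = x := by
  choose χ hχ using hx
  let χ' : Multiplicative τ'.M →* S ⊗[A] C :=
    { toFun := χ
      map_one' := incl_injective S C (by rw [hχ, map_one, map_one])
      map_mul' := fun m n => incl_injective S C (by rw [hχ, map_mul, map_mul, hχ, hχ]) }
  obtain ⟨xB, hxB⟩ := (ch τ' (Algebra.TensorProduct.includeLeft : S →ₐ[A] S ⊗[A] C)).surjective χ'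
  have hβ : (incl S C).comp (Algebra.TensorProduct.includeLeft : S →ₐ[A] S ⊗[A] C) =
      (Algebra.TensorProduct.includeLeft : E →ₐ[A] E ⊗[A] C).comp S.val := AlgHom.ext fun b => by simp [incl]
  have he : pl (incl S C) xB = pl (ext f C) x := by
    refine (ch τ' ((Algebra.TensorProduct.includeLeft : E →ₐ[A] E ⊗[A] C).comp S.val)).injective ?_
    rw [← ch_congr τ' hβ, ch_pl, hxB]
    exact MonoidHom.ext fun n => hχ n
  refine exists_pl_eq _ hC x fun o => ?_
  have h1 := RingHom.congr_fun (congrArg ptHom he) o
  rw [ptHom_pl, ptHom_pl] at h1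
  exact mem_includeRight_of f hAK h1

end Groth.Misc15.SemilocInj
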