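import Mathlib.RingTheory.Unramified.Basic
import Mathlib.RingTheory.Unramified.Finite
import Mathlib.RingTheory.Ideal.Pointwise
import Mathlib.LinearAlgebra.LinearIndependent.Defs
import Mathlib.FieldTheory.Galois.Basic
import Mathlib.RingTheory.Spectrum.Maximal.Defs

/-!
Fixed generators of principal ideals in a semilocal domain with a free action.
-/

set_option autoImplicit false
set_option linter.style.haveILetI false

universe u

open scoped Pointwise
open TensorProduct

namespace Groth.Misc15.SemilocInj

variable {A B : Type u} [CommRing A] [CommRing B] [IsDomain B] [Algebra A B] [Algebra.EssFiniteType A B]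

/-- Endomorphisms of an unramified algebra congruent modulo a proper ideal are equal. -/
theorem algHom_eq_id [Algebra.FormallyUnramified A B] (g : B →ₐ[A] B) {M : Ideal B} (hM : M ≠ ⊤)
    (h : ∀ x, g x - x ∈ M) : g = AlgHom.id A B := by
  obtain ⟨t, ht, ht1⟩ := Algebra.FormallyUnramified.iff_exists_tensorProduct.1 ‹Algebra.FormallyUnramified A B›
  let ψ : B ⊗[A] B →ₐ[A] B := Algebra.TensorProduct.lift g (AlgHom.id A B) fun _ _ => Commute.all _ _
  have hψ : ∀ z : B ⊗[A] B, ψ z - Algebra.TensorProduct.lmul' A z ∈ M := fun z => by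
    induction z using TensorProduct.induction_on with
    | zero => simp
    | add p q hp hq => rw [map_add, map_add, add_sub_add_comm]; exact M.add_mem hp hq
    | tmul p q =>
      simp only [ψ, Algebra.TensorProduct.lift_tmul, Algebra.TensorProduct.lmul'_apply_tmul, AlgHom.id_apply]
      rw [← sub_mul]
      exact M.mul_mem_right _ (h p)
  have hne : ψ t ≠ 0 := fun e => hM ((Ideal.eq_top_iff_one M).2 (by
    have := hψ t
    rwa [e, ht1, zero_sub, neg_mem_iff] at this))
  refine AlgHom.ext fun x => ?_
  have := congrArg ψ (ht x)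
  rw [map_mul, map_zero, map_sub, mul_eq_zero, or_iff_left hne, sub_eq_zero] at this
  simp [ψ] at this
  exact this.symm

variable [Finite (MaximalSpectrum B)] {G : Type*} [Group G] [Finite G] [MulSemiringAction G B]
  [SMulCommClass G A B]

/-- A principal ideal stable under a group acting with trivial inertia has a fixed generator. -/
theorem exists_fixed_gen [Algebra.FormallyUnramified A B] [FaithfulSMul G B] {b : B} (hb : b ≠ 0)
    (hst : ∀ g : G, g • Ideal.span {b} = Ideal.span {b}) :
    ∃ b' : B, Ideal.span {b'} = Ideal.span {b} ∧ ∀ g : G, g • b' = b' := by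
  classical
  haveI := Fintype.ofFinite G
  haveI := Fintype.ofFinite (MaximalSpectrum B)
  have hu : ∀ g : G, ∃ u : Bˣ, g • b = b * u := fun g => by
    have h1 := hst g
    rw [Ideal.smul_closure, Set.smul_set_singleton] at h1
    obtain ⟨u, hu⟩ := Ideal.span_singleton_eq_span_singleton.1 h1.symm
    exact ⟨u, hu.symm⟩
  choose u hu using hu
  letI act : MulAction G (MaximalSpectrum B) :=
    { smul := fun g m => ⟨g • m.asIdeal, by
        rw [Ideal.pointwise_smul_eq_comap]
        haveI := m.isMaximal
        exact Ideal.comap_isMaximal_of_surjective (K := m.asIdeal) _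
          (MulSemiringAction.toRingEquiv G B g⁻¹).surjective⟩
      one_smul := fun m => MaximalSpectrum.ext (one_smul G m.asIdeal)
      mul_smul := fun g h m => MaximalSpectrum.ext (mul_smul g h m.asIdeal) }
  have hsm : ∀ (g : G) (m : MaximalSpectrum B), (g • m).asIdeal = g • m.asIdeal := fun g m => rfl
  -- a twisted trace prime to a given maximal ideal
  have hloc : ∀ m : MaximalSpectrum B, ∃ c : B,
      (∑ g ∈ Finset.univ.filter fun g : G => g • m = m, (u g : B) * g • c) ∉ m.asIdeal := by
    intro m
    by_contra hne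
    push Not at hne
    haveI := m.isMaximal
    let D := {g : G // g • m = m}
    let π := Ideal.Quotient.mk m.asIdeal
    letI := Ideal.Quotient.field m.asIdeal
    let χ : D → (B →* B ⧸ m.asIdeal) := fun g =>
      π.toMonoidHom.comp (MulSemiringAction.toRingHom G B g.1).toMonoidHom
    have hχ : Function.Injective χ := fun g g' e => Subtype.ext (by
      have hfix : (g'.1⁻¹ * g.1) • m = m := by rw [mul_smul, g.2, inv_smul_eq_iff, g'.2]
      have h1 : ∀ x : B, (g'.1⁻¹ * g.1) • x - x ∈ m.asIdeal := fun x => by
        have h2 : g.1 • x - g'.1 • x ∈ m.asIdeal := Ideal.Quotient.eq.1 (DFunLike.congr_fun e x)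
        have h3 := Ideal.smul_mem_pointwise_smul g'.1⁻¹ _ _ h2
        rw [smul_sub, ← mul_smul, inv_smul_smul, ← hsm] at h3
        rwa [show g'.1⁻¹ • m = m from inv_smul_eq_iff.2 g'.2.symm] at h3
      have h4 := algHom_eq_id (MulSemiringAction.toAlgHom A B (g'.1⁻¹ * g.1)) m.isMaximal.ne_top h1
      have h5 : g'.1⁻¹ * g.1 = 1 := FaithfulSMul.eq_of_smul_eq_smul fun x : B => by
        rw [one_smul]; exact AlgHom.congr_fun h4 x
      exact (inv_mul_eq_one.1 h5).symm)
    have hli := (linearIndependent_monoidHom B (B ⧸ m.asIdeal)).comp χ hχ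
    have h0 := Fintype.linearIndependent_iff.1 hli (fun g => π (u g.1)) (funext fun c => by
      have h1 := Ideal.Quotient.eq_zero_iff_mem.2 (hne c)
      rw [map_sum, Finset.sum_subtype (F := inferInstance) (p := fun g : G => g • m = m) _ (by simp)] at h1
      rw [Finset.sum_apply]
      refine Eq.trans (Finset.sum_congr rfl fun g _ => ?_) h1
      simp [χ, π, MulSemiringAction.toRingHom_apply]
      ) ⟨1, one_smul G m⟩
    exact (not_isUnit_zero) (h0 ▸ (u 1).isUnit.map π)
  choose cm hcm using hloc
  let rep : MaximalSpectrum B → MaximalSpectrum B := fun m =>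
    (Quotient.mk (MulAction.orbitRel G (MaximalSpectrum B)) m).out
  have hrep : ∀ m, ∃ g : G, g • rep m = m := fun m =>
    MulAction.mem_orbit_iff.1 (MulAction.mem_orbit_symm.1 (MulAction.orbitRel_apply.1
      (Quotient.mk_out (s := MulAction.orbitRel G (MaximalSpectrum B)) m)))
  have hrepinv : ∀ (g : G) m, rep (g • m) = rep m := fun g m => congrArg Quotient.out
    (Quotient.sound (MulAction.mem_orbit m g) :
      Quotient.mk (MulAction.orbitRel G (MaximalSpectrum B)) (g • m) = Quotient.mk _ m)
  have hco : Pairwise fun i j : MaximalSpectrum B => IsCoprime i.asIdeal j.asIdeal := fun i j hij =>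
    Ideal.isCoprime_iff_sup_eq.2 (i.isMaximal.coprime_of_ne j.isMaximal fun e => hij (MaximalSpectrum.ext e))
  obtain ⟨c, hc⟩ := Ideal.exists_forall_sub_mem_ideal hco (fun m => if rep m = m then cm m else 0)
  let s := ∑ g : G, (u g : B) * g • c
  have hfix : ∀ g : G, g • (b * s) = b * s := fun g => by
    have h1 : b * s = ∑ h : G, h • (b * c) := by
      simp only [s, Finset.mul_sum]
      exact Finset.sum_congr rfl fun h _ => by rw [smul_mul', hu h, mul_assoc]
    rw [h1, Finset.smul_sum]
    exact Fintype.sum_equiv (Equiv.mulLeft g) _ _ fun h => (mul_smul g h _).symm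
  have hs : IsUnit s := by
    by_contra hne
    obtain ⟨M, hM, hsM⟩ := exists_max_ideal_of_mem_nonunits (mem_nonunits_iff.2 hne)
    let m : MaximalSpectrum B := ⟨M, hM⟩
    obtain ⟨g₀, hg₀⟩ := hrep m
    let r := rep m
    have hrr : rep r = r := by
      have := hrepinv g₀ r
      rw [hg₀] at this
      exact this.symm
    -- the sum lies in the representative as well
    have hsr : s ∈ r.asIdeal := by
      have h1 : b * s = b * ((u g₀⁻¹ : B) * g₀⁻¹ • s) := by
        conv_lhs => rw [← hfix g₀⁻¹, smul_mul', hu, mul_assoc]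
      rw [mul_left_cancel₀ hb h1]
      refine Ideal.mul_mem_left _ _ ?_
      have h2 := Ideal.smul_mem_pointwise_smul g₀⁻¹ _ _ (show s ∈ m.asIdeal from hsM)
      rwa [← hsm, show g₀⁻¹ • m = r from inv_smul_eq_iff.2 hg₀.symm] at h2
    refine hcm r ?_
    let π := Ideal.Quotient.mk r.asIdeal
    rw [← Ideal.Quotient.eq_zero_iff_mem, map_sum]
    have h0 : π s = 0 := Ideal.Quotient.eq_zero_iff_mem.2 hsr
    simp only [s, map_sum] at h0
    rw [← h0]
    refine Eq.trans ?_ (Finset.sum_filter_of_ne (p := fun g : G => g • r = r) fun g _ hne' => ?_)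
    · refine Finset.sum_congr rfl fun g hg => ?_
      rw [map_mul, map_mul]
      congr 1
      refine Ideal.Quotient.eq.2 ?_
      have h2 := hc r
      rw [if_pos hrr] at h2
      have h3 := Ideal.smul_mem_pointwise_smul g _ _ h2
      rw [smul_sub, ← hsm, (Finset.mem_filter.1 hg).2] at h3
      simpa using (neg_mem h3)
    · by_contra hgr
      refine hne' ?_
      rw [map_mul]
      refine mul_eq_zero_of_right _ (Ideal.Quotient.eq_zero_iff_mem.2 ?_)
      have h2 := hc (g⁻¹ • r)
      rw [if_neg (by
        rw [hrepinv, hrr]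
        exact fun e => hgr (eq_inv_smul_iff.1 e)), sub_zero] at h2
      have h3 := Ideal.smul_mem_pointwise_smul g _ _ h2
      rwa [← hsm, smul_inv_smul] at h3
  exact ⟨b * s, (Ideal.span_singleton_eq_span_singleton.2 ⟨hs.unit, rfl⟩).symm, hfix⟩

end Groth.Misc15.SemilocInj
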