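import Groth.Agent.Misc15.SemilocInj.Exponent
import Groth.Agent.Misc15.SemilocInj.Fixed
import Mathlib.GroupTheory.Finiteness
import Mathlib.GroupTheory.GroupAction.Quotient

/-!
Equivariant elements of the fraction field with the divisors of a descent datum.
-/

set_option autoImplicit false
set_option linter.style.haveILetI false
set_option synthInstance.maxHeartbeats 200000

universe u v

open TensorProduct
open scoped Pointwise

noncomputable section

namespace Groth.Misc15.SemilocInj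

variable {A E : Type u} [CommRing A] [Field E] [Algebra A E] {B : Subalgebra A E}
  {C : Type u} [CommRing C] [Algebra A C] [Module.FaithfullyFlat A C] [UniqueFactorizationMonoid B]

theorem jE_mem_locUnits {b : B} (hb : b ≠ 0) {q : Ideal B} [q.IsPrime] (hq : b ∉ q) :
    jE (A := A) C (eU b hb) ∈ locUnits B C q := by
  refine ⟨inLoc_range ⟨b ⊗ₜ[A] 1, (jB_eq B C b).symm.trans (jE_eU b hb).symm⟩, b, hq, 1, ?_⟩
  show incl B C 1 = jB B C b * ↑(jE (A := A) C (eU b hb))⁻¹
  rw [map_one, ← jE_eU b hb, Units.mul_inv]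

theorem exists_equivariant_div [Finite (MaximalSpectrum B)] [Algebra.FormallyUnramified A B] [Algebra.EssFiniteType A B]
    [IsNoetherianRing B] (hfrac : ∀ x : E, ∃ s b : B, s ≠ 0 ∧ x * s = b) {G : Type u} [Group G] [Finite G]
    (ρ : G →* (E ≃ₐ[A] E)) (hρ : Function.Injective ρ) (hst : ∀ g, ∀ x ∈ B, ρ g x ∈ B)
    {N : Type v} [CommGroup N] [Group.FG N] (θ : G → N → N) (c : N →* (E ⊗[A] C)ˣ)
    (hθ : ∀ g n, (c (θ g n) : E ⊗[A] C) =
      Algebra.TensorProduct.map (ρ g : E →ₐ[A] E) (AlgHom.id A C) (c n))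
    (hc : ∀ n, HasUnitCocycle B (c n : E ⊗[A] C)) :
    ∃ μ : N →* Eˣ, (∀ g n, (μ (θ g n) : E) = ρ g (μ n)) ∧
      ∀ n, ((c n * (jE C (μ n))⁻¹ : (E ⊗[A] C)ˣ) : E ⊗[A] C) ∈ (incl B C).range := by
  classical
  letI act : MulSemiringAction G B :=
    { smul := fun g x => ⟨ρ g x.1, hst g _ x.2⟩
      one_smul := fun x => Subtype.ext (by show ρ 1 x.1 = x.1; rw [map_one]; rfl)
      mul_smul := fun g h x => Subtype.ext (by show ρ (g * h) x.1 = ρ g (ρ h x.1); rw [map_mul]; rfl)
      smul_zero := fun g => Subtype.ext (map_zero _)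
      smul_add := fun g x y => Subtype.ext (map_add _ _ _)
      smul_one := fun g => Subtype.ext (map_one _)
      smul_mul := fun g x y => Subtype.ext (map_mul _ _ _) }
  have hcoe : ∀ (g : G) (x : B), ((g • x : B) : E) = ρ g x := fun g x => rfl
  haveI : SMulCommClass G A B := ⟨fun g a x => Subtype.ext (map_smul (ρ g) a x.1)⟩
  haveI hf : FaithfulSMul G B := ⟨fun {g g'} h => hρ (AlgEquiv.ext fun x => by
    obtain ⟨s, b, hs, hb⟩ := hfrac x
    have h1 : ρ g x * ρ g s = ρ g' x * ρ g s := by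
      rw [← map_mul, hb]
      conv_rhs => rw [show ρ g (s : E) = ρ g' s from congrArg Subtype.val (h s), ← map_mul, hb]
      exact congrArg Subtype.val (h b)
    exact mul_right_cancel₀ ((map_ne_zero (ρ g)).2 fun e => hs (Subtype.ext e)) h1)⟩
  -- a common denominator
  obtain ⟨T, hT⟩ := Group.fg_def.1 (inferInstance : Group.FG N)
  choose D₁ hD₁ w₁ hw₁ using fun n : N => exists_clear hfrac (c n : E ⊗[A] C)
  let D : B := ∏ t ∈ T, (D₁ t * D₁ t⁻¹)
  have hD : D ≠ 0 := Finset.prod_ne_zero_iff.2 fun t _ => mul_ne_zero (hD₁ _) (hD₁ _)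
  obtain ⟨fac, hfac, hprod⟩ := UniqueFactorizationMonoid.exists_prime_factors D hD
  let Q : Set (Ideal B) := Set.range fun x : G × {p // p ∈ fac.toFinset} => x.1 • Ideal.span {x.2.1}
  haveI : Finite Q := Finite.Set.finite_range _
  haveI := Fintype.ofFinite Q
  have hQst : ∀ (g : G) (q : Ideal B), q ∈ Q → g • q ∈ Q := by
    rintro g _ ⟨⟨g', p⟩, rfl⟩
    exact ⟨⟨g * g', p⟩, mul_smul g g' _⟩
  letI : MulAction G Q :=
    { smul := fun g q => ⟨g • q.1, hQst g _ q.2⟩
      one_smul := fun q => Subtype.ext (one_smul G q.1)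
      mul_smul := fun g h q => Subtype.ext (mul_smul g h q.1) }
  have hQgen : ∀ q : Q, ∃ b : B, Prime b ∧ q.1 = Ideal.span {b} := by
    rintro ⟨_, ⟨g, p⟩, rfl⟩
    refine ⟨g • p.1, (MulEquiv.prime_iff (MulSemiringAction.toRingEquiv G B g).toMulEquiv).2
      (hfac _ (Multiset.mem_toFinset.1 p.2)), ?_⟩
    show g • Ideal.span {p.1} = _
    rw [Ideal.smul_closure, Set.smul_set_singleton]
  choose b₀ hb₀ hqb₀ using hQgen
  -- equivariant generators
  have hfix : ∀ q : Q, ∃ b : B, q.1 = Ideal.span {b} ∧ ∀ g : G, g • q = q → g • b = b := fun q => by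
    let H := MulAction.stabilizer G q
    haveI : FaithfulSMul H B := ⟨fun {g g'} h => Subtype.ext (hf.eq_of_smul_eq_smul h)⟩
    haveI : SMulCommClass H A B := ⟨fun g a x => smul_comm g.1 a x⟩
    obtain ⟨b, hb, hbfix⟩ := exists_fixed_gen (A := A) (G := H) (hb₀ q).ne_zero (fun g => by
      rw [← hqb₀]
      exact congrArg Subtype.val (g.2 : g.1 • q = q))
    exact ⟨b, (hqb₀ q).trans hb.symm, fun g hg => hbfix ⟨g, hg⟩⟩
  choose b hqb hbfix using hfix
  let rep : Q → Q := fun q => (Quotient.mk (MulAction.orbitRel G Q) q).out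
  have hrep : ∀ q, ∃ g : G, g • rep q = q := fun q =>
    MulAction.mem_orbit_iff.1 (MulAction.mem_orbit_symm.1 (MulAction.orbitRel_apply.1
      (Quotient.mk_out (s := MulAction.orbitRel G Q) q)))
  choose w hw using hrep
  let β : Q → B := fun q => w q • b (rep q)
  have hβ : ∀ q : Q, q.1 = Ideal.span {β q} := fun q => by
    rw [← Set.smul_set_singleton, ← Ideal.smul_closure, ← hqb]
    exact (congrArg Subtype.val (hw q)).symm
  have hβeq : ∀ (g : G) q, β (g • q) = g • β q := fun g q => by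
    have hr : rep (g • q) = rep q := congrArg Quotient.out
      (Quotient.sound (MulAction.mem_orbit q g) : Quotient.mk (MulAction.orbitRel G Q) (g • q) = Quotient.mk _ q)
    show w (g • q) • b (rep (g • q)) = g • w q • b (rep q)
    have h := hw (g • q)
    rw [hr] at h ⊢
    have h2 : ((g * w q)⁻¹ * w (g • q)) • rep q = rep q := by
      rw [mul_smul, h, inv_smul_eq_iff, mul_smul, hw q]
    have := hbfix (rep q) _ h2
    rw [mul_smul, inv_smul_eq_iff, mul_smul] at this
    exact this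
  have hβp : ∀ q, Prime (β q) := fun q =>
    (Ideal.span_singleton_eq_span_singleton.1 ((hqb₀ q).symm.trans (hβ q))).prime (hb₀ q)
  haveI hqp : ∀ q : Q, (Ideal.span {β q}).IsPrime := fun q =>
    (Ideal.span_singleton_prime (hβp q).ne_zero).2 (hβp q)
  let P : Q → Eˣ := fun q => eU (β q) (hβp q).ne_zero
  -- exponents
  choose y hy using fun (n : N) (q : Q) => exists_exponent (C := C) hfrac (c n) (hc n) (hβp q)
  have huniq : ∀ (n : N) (q : Q) (a : ℤ),
      c n * (jE C (P q) ^ a)⁻¹ ∈ locUnits B C (Ideal.span {β q}) → y n q = a := by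
    intro n q a h
    have h1 := mul_mem (inv_mem h) (hy n q)
    have h2 : (c n * (jE C (P q) ^ a)⁻¹)⁻¹ * (c n * (jE C (P q) ^ y n q)⁻¹) = jE C (P q) ^ (a - y n q) := by
      rw [zpow_sub, mul_inv_rev, inv_inv, mul_assoc, inv_mul_cancel_left]
    rw [h2] at h1
    exact (sub_eq_zero.1 (exponent_eq_zero (hβp q) h1)).symm
  have hymul : ∀ n n' q, y (n * n') q = y n q + y n' q := fun n n' q => huniq _ _ _ (by
    have := mul_mem (hy n q) (hy n' q)
    rwa [mul_mul_mul_comm, ← mul_inv, ← zpow_add, ← map_mul] at this)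
  -- equivariance
  let gB : G → B →ₐ[A] B := fun g => MulSemiringAction.toAlgHom A B g
  let gC : G → E ⊗[A] C →ₐ[A] E ⊗[A] C := fun g =>
    Algebra.TensorProduct.map (ρ g : E →ₐ[A] E) (AlgHom.id A C)
  have hgincl : ∀ g v, gC g (incl B C v) = incl B C (Algebra.TensorProduct.map (gB g) (AlgHom.id A C) v) :=
    fun g v => by
      induction v using TensorProduct.induction_on with
      | zero => simp
      | add a b ha hb => simp only [map_add, ha, hb]
      | tmul x z => simp [gC, gB, incl, hcoe]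
  have hInLoc : ∀ (g : G) (q : Ideal B) (z : E ⊗[A] C), InLoc B C q z → InLoc B C (g • q) (gC g z) := by
    rintro g q z ⟨s, hs, v, hv⟩
    refine ⟨g • s, fun e => hs (Ideal.smul_mem_pointwise_smul_iff.1 e),
      Algebra.TensorProduct.map (gB g) (AlgHom.id A C) v, ?_⟩
    show incl B C _ = _
    rw [← hgincl, show incl B C v = jB B C s * z from hv, map_mul]
    simp [gC, jB, hcoe]
  have hyeq : ∀ g n q, y (θ g n) (g • q) = y n q := fun g n q => huniq _ _ _ (by
    obtain ⟨h1, h2⟩ := hy n q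
    let gU : (E ⊗[A] C)ˣ →* (E ⊗[A] C)ˣ := Units.map (gC g : E ⊗[A] C →* E ⊗[A] C)
    have e0 : c (θ g n) = gU (c n) := Units.ext (hθ g n)
    have e1 : jE C (P (g • q)) = gU (jE C (P q)) := Units.ext (by
      show (β (g • q) : E) ⊗ₜ[A] (1 : C) = gC g ((β q : E) ⊗ₜ[A] 1)
      rw [hβeq]
      simp [gC, hcoe])
    have e2 : Ideal.span {β (g • q)} = g • Ideal.span {β q} := by rw [← hβ, ← hβ]; rfl
    rw [e0, e1, ← map_zpow, ← map_inv, ← map_mul]
    refine ⟨?_, ?_⟩
    · rw [e2]; exact hInLoc g _ _ h1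
    · rw [e2, ← map_inv]; exact hInLoc g _ _ h2)
  -- the element
  let μ : N →* Eˣ := MonoidHom.mk' (fun n => ∏ q, P q ^ y n q) fun n n' => by
    simp only [hymul, zpow_add, Finset.prod_mul_distrib]
  refine ⟨μ, fun g n => ?_, fun n => ?_⟩
  · show ((∏ q, P q ^ y (θ g n) q : Eˣ) : E) = ρ g ((∏ q, P q ^ y n q : Eˣ) : E)
    rw [Units.coe_prod, Units.coe_prod, map_prod]
    refine (Fintype.prod_equiv (MulAction.toPerm g) _ _ fun q => ?_).symm
    show ρ g ((P q ^ y n q : Eˣ) : E) = ((P (g • q) ^ y (θ g n) (g • q) : Eˣ) : E)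
    rw [hyeq, Units.val_zpow_eq_zpow_val, Units.val_zpow_eq_zpow_val, map_zpow₀]
    show ρ g (β q : E) ^ _ = (β (g • q) : E) ^ _
    rw [hβeq]
    rfl
  refine mem_range_of_inLoc hfrac fun π hπ => ?_
  haveI hq : (Ideal.span {π}).IsPrime := (Ideal.span_singleton_prime hπ.ne_zero).2 hπ
  suffices h : c n * (jE C (μ n))⁻¹ ∈ locUnits B C (Ideal.span {π}) from h.1
  have hP : ∀ q : Q, q.1 ≠ Ideal.span {π} → jE C (P q) ∈ locUnits B C (Ideal.span {π}) := fun q hne =>
    jE_mem_locUnits _ fun e => hne (by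
      rw [hβ, Ideal.span_singleton_eq_span_singleton]
      exact (hπ.associated_of_dvd (hβp q) (Ideal.mem_span_singleton.1 e)).symm)
  rw [show jE C (μ n) = ∏ q, jE C (P q) ^ y n q by
    simp only [μ, MonoidHom.mk'_apply, map_prod, map_zpow]]
  by_cases hπQ : Ideal.span {π} ∈ Q
  · let q₀ : Q := ⟨_, hπQ⟩
    rw [← Finset.mul_prod_erase _ _ (Finset.mem_univ q₀), mul_inv, ← mul_assoc]
    refine mul_mem ?_ (inv_mem (Subgroup.prod_mem _ fun q hq' => zpow_mem (hP q fun e =>
      Finset.ne_of_mem_erase hq' (Subtype.ext e)) _))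
    have h := hy n q₀
    have hfinal : ∀ I : Ideal B, I = Ideal.span {β q₀} → ∀ {z}, InLoc B C (Ideal.span {β q₀}) z → InLoc B C I z :=
      fun I e _ hz => e.symm ▸ hz
    exact ⟨hfinal _ (hβ q₀) h.1, hfinal _ (hβ q₀) h.2⟩
  · refine mul_mem ?_ (inv_mem (Subgroup.prod_mem _ fun q _ => zpow_mem (hP q fun e => hπQ (e ▸ q.2)) _))
    have hDπ : D ∉ Ideal.span {π} := fun e => by
      obtain ⟨u, hu⟩ := hprod
      rw [← hu] at e
      obtain ⟨p, hp, hpπ⟩ := (hq.multiset_prod_mem_iff_exists_mem fac).1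
        ((hq.mem_or_mem e).resolve_right fun h => hq.ne_top (Ideal.eq_top_of_isUnit_mem _ h u.isUnit))
      refine hπQ ⟨⟨1, ⟨p, Multiset.mem_toFinset.2 hp⟩⟩, ?_⟩
      show (1 : G) • Ideal.span {p} = Ideal.span {π}
      rw [one_smul, Ideal.span_singleton_eq_span_singleton]
      exact (hπ.associated_of_dvd (hfac p hp) (Ideal.mem_span_singleton.1 hpπ)).symm
    suffices hall : ∀ t ∈ T, c t ∈ locUnits B C (Ideal.span {π}) from
      (Subgroup.closure_le (K := (locUnits B C (Ideal.span {π})).comap c)).2 hall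
        (hT.symm ▸ Subgroup.mem_top n)
    intro t ht
    have hmem : D₁ t * D₁ t⁻¹ ∉ Ideal.span {π} := fun e => hDπ
      (Ideal.mem_of_dvd _ (Finset.dvd_prod_of_mem _ ht) e)
    refine ⟨⟨D₁ t, fun e => hmem (Ideal.mul_mem_right _ _ e), w₁ t, hw₁ t⟩,
      ⟨D₁ t⁻¹, fun e => hmem (Ideal.mul_mem_left _ _ e), w₁ t⁻¹, ?_⟩⟩
    rw [← map_inv]
    exact hw₁ t⁻¹

end Groth.Misc15.SemilocInj
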