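import Groth.Agent.Misc15.SemilocInj.Loc

/-!
The exponent of a descent datum at a prime element, and gluing of local integrality.
-/

set_option autoImplicit false
set_option linter.style.haveILetI false
set_option synthInstance.maxHeartbeats 200000

universe u

open TensorProduct

noncomputable section

namespace Groth.Misc15.SemilocInj

variable {A E : Type u} [CommRing A] [Field E] [Algebra A E] {B : Subalgebra A E}
  {C : Type u} [CommRing C] [Algebra A C]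

theorem exists_clear (hfrac : ∀ x : E, ∃ s b : B, s ≠ 0 ∧ x * s = b) (z : E ⊗[A] C) :
    ∃ D : B, D ≠ 0 ∧ ∃ w, incl B C w = jB B C D * z := by
  induction z using TensorProduct.induction_on with
  | zero => exact ⟨1, one_ne_zero, 0, by simp⟩
  | add a b ha hb =>
    obtain ⟨D, hD, w, hw⟩ := ha
    obtain ⟨D', hD', w', hw'⟩ := hb
    refine ⟨D * D', mul_ne_zero hD hD', (D' ⊗ₜ[A] 1) * w + (D ⊗ₜ[A] 1) * w', ?_⟩
    rw [map_add, map_mul, map_mul, hw, hw', ← jB_eq, ← jB_eq, map_mul]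
    ring
  | tmul x c =>
    obtain ⟨s, b, hs, hb⟩ := hfrac x
    refine ⟨s, hs, b ⊗ₜ c, ?_⟩
    simp [jB, incl, ← hb, mul_comm x]

/-- integral cocycle units -/
def HasUnitCocycle (B : Subalgebra A E) (c : E ⊗[A] C) : Prop :=
  ∃ u v : B ⊗[A] (C ⊗[A] C), u * v = 1 ∧ i₁ E c = incl B (C ⊗[A] C) u * i₂ E c

theorem incl_i₁ (w : B ⊗[A] C) : incl B (C ⊗[A] C) (i₁ B w) = i₁ E (incl B C w) := by
  induction w using TensorProduct.induction_on with
  | zero => simp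
  | add a b ha hb => simp only [map_add, ha, hb]
  | tmul a b => simp [incl, i₁]

theorem incl_i₂ (w : B ⊗[A] C) : incl B (C ⊗[A] C) (i₂ B w) = i₂ E (incl B C w) := by
  induction w using TensorProduct.induction_on with
  | zero => simp
  | add a b ha hb => simp only [map_add, ha, hb]
  | tmul a b => simp [incl, i₂]

theorem i₁_scalar {R : Type u} [CommRing R] [Algebra A R] (r : R) :
    i₁ (C := C) R (r ⊗ₜ[A] 1) = r ⊗ₜ[A] 1 := by
  simp [i₁, Algebra.TensorProduct.one_def]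

theorem i₂_scalar {R : Type u} [CommRing R] [Algebra A R] (r : R) :
    i₂ (C := C) R (r ⊗ₜ[A] 1) = r ⊗ₜ[A] 1 := by
  simp [i₂, Algebra.TensorProduct.one_def]

variable [Module.FaithfullyFlat A C]

theorem cancel_scalar {R : Type u} [CommRing R] [IsDomain R] [Algebra A R] {D : Type u} [CommRing D]
    [Algebra A D] [Module.Flat A D] {s : R} (hs : s ≠ 0) {z z' : R ⊗[A] D}
    (h : (s ⊗ₜ[A] 1) * z = (s ⊗ₜ[A] 1) * z') : z = z' :=
  sub_eq_zero.1 (eq_zero_of_tmul_mul hs (by rw [mul_sub, sub_eq_zero]; exact h))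

variable [UniqueFactorizationMonoid B]

theorem exists_strip {π : B} (hπ : Prime π) (u : B ⊗[A] (C ⊗[A] C)) :
    ∀ (k : ℕ) (D : B) (w w' : B ⊗[A] C), w * w' = D ⊗ₜ[A] 1 → D ≠ 0 → ¬ π ^ k ∣ D →
      i₁ B w = u * i₂ B w →
      ∃ a : ℕ, ∃ w₁, w = ((π ^ a) ⊗ₜ[A] 1) * w₁ ∧ ∃ s ∉ Ideal.span {π}, ∃ y, w₁ * y = s ⊗ₜ[A] 1 := by
  intro k
  induction k with
  | zero => intro D w w' _ _ h _; exact absurd (by simp) h
  | succ k ih =>
    intro D w w' hD hD0 hk hu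
    by_cases hred : red B C (Ideal.span {π}) w = 0
    · obtain ⟨w₀, hw₀⟩ := exists_of_red_eq_zero hred
      obtain ⟨D₀, hD₀⟩ := dvd_of_tmul_eq (π := π) (w := w₀ * w') (by rw [← hD, hw₀, mul_assoc])
      have h1 : w₀ * w' = D₀ ⊗ₜ[A] 1 := by
        refine cancel_scalar hπ.ne_zero ?_
        rw [Algebra.TensorProduct.tmul_mul_tmul, mul_one, ← hD₀, ← hD, hw₀, mul_assoc]
      have h2 : i₁ B w₀ = u * i₂ B w₀ := by
        refine cancel_scalar (D := C ⊗[A] C) hπ.ne_zero ?_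
        rw [hw₀, map_mul, map_mul, i₁_scalar, i₂_scalar] at hu
        rw [hu]; ring
      obtain ⟨a, w₁, hw₁, hs⟩ := ih D₀ w₀ w' h1 (fun e => hD0 (by rw [hD₀, e, mul_zero]))
        (fun e => hk (by rw [hD₀, pow_succ']; exact mul_dvd_mul_left π e)) h2
      refine ⟨a + 1, w₁, ?_, hs⟩
      rw [hw₀, hw₁, ← mul_assoc, Algebra.TensorProduct.tmul_mul_tmul, mul_one, ← pow_succ']
    · exact ⟨0, w, by rw [pow_zero, ← Algebra.TensorProduct.one_def, one_mul],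
        exists_dvd_scalar hπ hD hD0 u hu hred⟩

/-- the unit of a nonzero element -/
def eU (b : B) (hb : b ≠ 0) : Eˣ := Units.mk0 (b : E) (fun e => hb (Subtype.ext e))

theorem jE_eU (b : B) (hb : b ≠ 0) : (jE (A := A) C (eU b hb) : E ⊗[A] C) = jB B C b := rfl

theorem exists_exponent (hfrac : ∀ x : E, ∃ s b : B, s ≠ 0 ∧ x * s = b) (c : (E ⊗[A] C)ˣ)
    (hc : HasUnitCocycle B (c : E ⊗[A] C)) {π : B} (hπ : Prime π) [(Ideal.span {π}).IsPrime] :
    ∃ a : ℤ, c * (jE (A := A) C (eU π hπ.ne_zero) ^ a)⁻¹ ∈ locUnits B C (Ideal.span {π}) := by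
  obtain ⟨u, v, -, hu⟩ := hc
  obtain ⟨D₁, hD₁, w, hw⟩ := exists_clear hfrac (c : E ⊗[A] C)
  obtain ⟨D₂, hD₂, w', hw'⟩ := exists_clear hfrac (↑c⁻¹ : E ⊗[A] C)
  have hD : w * w' = (D₁ * D₂) ⊗ₜ[A] 1 := incl_injective B C (by
    rw [map_mul, hw, hw', ← jB_eq, map_mul,
      show jB B C D₁ * (c : E ⊗[A] C) * (jB B C D₂ * ↑c⁻¹) = jB B C D₁ * jB B C D₂ * (↑c * ↑c⁻¹) by ring,
      Units.mul_inv, mul_one])
  have hu' : i₁ B w = u * i₂ B w := incl_injective B (C ⊗[A] C) (by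
    rw [map_mul, incl_i₁, incl_i₂, hw, map_mul, map_mul, hu]
    rw [show jB B C D₁ = (D₁ : E) ⊗ₜ[A] 1 from rfl, i₁_scalar, i₂_scalar]
    ring)
  obtain ⟨n, r, hr, hn⟩ := WfDvdMonoid.max_power_factor (mul_ne_zero hD₁ hD₂) hπ.irreducible
  obtain ⟨a, w₁, hw₁, s, hs, y, hy⟩ := exists_strip hπ u (n + 1) _ w w' hD (mul_ne_zero hD₁ hD₂)
    (fun e => hr (by
      rw [hn, pow_succ] at e
      exact (mul_dvd_mul_iff_left (pow_ne_zero n hπ.ne_zero)).1 e)) hu'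
  obtain ⟨k, r₁, hr₁, hk⟩ := WfDvdMonoid.max_power_factor hD₁ hπ.irreducible
  have hrq : r₁ ∉ Ideal.span {π} := fun e => hr₁ (Ideal.mem_span_singleton.1 e)
  let P := jE (A := A) C (eU π hπ.ne_zero)
  let z : (E ⊗[A] C)ˣ := c * P ^ k * (P ^ a)⁻¹
  have hz : jB B C r₁ * (z : E ⊗[A] C) = incl B C w₁ := by
    have h1 : jB B C r₁ * ((c : E ⊗[A] C) * jB B C π ^ k) = incl B C w₁ * jB B C π ^ a := by
      have := congrArg (incl B C) hw₁
      rw [hw, map_mul, ← jB_eq, map_pow, hk, map_mul, map_pow] at this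
      linear_combination this
    show jB B C r₁ * (((c * P ^ k) * (P ^ a)⁻¹ : (E ⊗[A] C)ˣ) : E ⊗[A] C) = _
    rw [Units.val_mul, ← mul_assoc, Units.mul_inv_eq_iff_eq_mul, Units.val_mul, Units.val_pow_eq_pow_val,
      Units.val_pow_eq_pow_val]
    exact h1
  refine ⟨(a : ℤ) - k, ?_⟩
  rw [show c * (P ^ ((a : ℤ) - k))⁻¹ = z by
    simp only [z]; rw [← zpow_neg, neg_sub, zpow_sub, zpow_natCast, zpow_natCast, mul_assoc]]
  refine ⟨⟨r₁, hrq, w₁, hz.symm⟩, ⟨s, hs, (r₁ ⊗ₜ[A] 1) * y, ?_⟩⟩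
  show incl B C ((r₁ ⊗ₜ[A] 1) * y) = jB B C s * ↑z⁻¹
  rw [Units.eq_mul_inv_iff_mul_eq, map_mul, ← jB_eq, jB_eq B C s, ← hy, map_mul, ← hz]
  ring

/-- Powers of a prime element are units locally only for exponent zero. -/
theorem exponent_eq_zero {π : B} (hπ : Prime π) [(Ideal.span {π}).IsPrime] {a : ℤ}
    (h : jE (A := A) C (eU π hπ.ne_zero) ^ a ∈ locUnits B C (Ideal.span {π})) : a = 0 := by
  set P := jE (A := A) C (eU π hπ.ne_zero)
  have key : ∀ n : ℕ, P ^ (n + 1) ∉ locUnits B C (Ideal.span {π}) := by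
    rintro n ⟨-, s, hs, w, hw : incl B C w = jB B C s * ↑(P ^ (n + 1))⁻¹⟩
    rw [Units.eq_mul_inv_iff_mul_eq, Units.val_pow_eq_pow_val, jE_eU, ← map_pow, jB_eq, ← map_mul, jB_eq] at hw
    have h1 := incl_injective B C hw
    exact hs (Ideal.mem_span_singleton.2 ((dvd_pow_self π n.succ_ne_zero).trans
      (dvd_of_tmul_eq (h1.symm.trans (mul_comm _ _)))))
  rcases lt_trichotomy a 0 with h0 | h0 | h0
  · obtain ⟨n, hn⟩ : ∃ n : ℕ, a = -((n + 1 : ℕ) : ℤ) := ⟨a.natAbs - 1, by omega⟩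
    rw [hn, zpow_neg, zpow_natCast] at h
    exact absurd (inv_mem_iff.1 h) (key n)
  · exact h0
  · obtain ⟨n, hn⟩ : ∃ n : ℕ, a = ((n + 1 : ℕ) : ℤ) := ⟨a.natAbs - 1, by omega⟩
    rw [hn, zpow_natCast] at h
    exact absurd h (key n)

theorem exists_strip_scalar (D : B) (hD : D ≠ 0) (z : E ⊗[A] C) (w : B ⊗[A] C)
    (hw : incl B C w = jB B C D * z) (hz : ∀ π : B, Prime π → InLoc B C (Ideal.span {π}) z) :
    z ∈ (incl B C).range := by
  induction D using UniqueFactorizationMonoid.induction_on_prime generalizing w with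
  | h₁ => exact absurd rfl hD
  | h₂ D hDu =>
    obtain ⟨e, he⟩ := isUnit_iff_exists_inv.1 hDu
    refine ⟨(e ⊗ₜ[A] 1) * w, ?_⟩
    show incl B C _ = z
    rw [map_mul, ← jB_eq, hw, ← mul_assoc, ← map_mul, mul_comm e, he, map_one, one_mul]
  | h₃ D π hD0 hπ ih =>
    obtain ⟨s, hs, v, hv⟩ := hz π hπ
    replace hv : incl B C v = jB B C s * z := hv
    haveI : (Ideal.span {π}).IsPrime := (Ideal.span_singleton_prime hπ.ne_zero).2 hπ
    have h1 : (s ⊗ₜ[A] 1) * w = (π ⊗ₜ[A] 1) * ((D ⊗ₜ[A] 1) * v) := incl_injective B C (by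
      rw [map_mul, map_mul, map_mul, hw, hv, ← jB_eq, ← jB_eq, ← jB_eq, map_mul]; ring)
    obtain ⟨w₀, hw₀⟩ := exists_of_red_eq_zero (red_eq_zero_of_mul hs (red_eq_zero_of _ h1))
    refine ih hD0 w₀ ?_
    have h2 : jB B C π * incl B C w₀ = jB B C π * (jB B C D * z) := by
      rw [← mul_assoc, ← map_mul, ← hw, hw₀, map_mul, ← jB_eq]
    exact (Units.mul_right_inj (jE (A := A) C (eU π hπ.ne_zero))).1 h2

theorem mem_range_of_inLoc (hfrac : ∀ x : E, ∃ s b : B, s ≠ 0 ∧ x * s = b) {z : E ⊗[A] C}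
    (hz : ∀ π : B, Prime π → InLoc B C (Ideal.span {π}) z) : z ∈ (incl B C).range := by
  obtain ⟨D, hD, w, hw⟩ := exists_clear hfrac z
  exact exists_strip_scalar D hD z w hw hz

end Groth.Misc15.SemilocInj
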