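import Mathlib
import Groth.Agent.HTopHyper.Fpqc
import Groth.Prelude.Def_NonAbH2

/-!
Two schemes with fpqc-local sections over an affine base have sections over a common faithfully flat algebra.
-/

set_option autoImplicit false

universe u

open CategoryTheory CategoryTheory.Limits AlgebraicGeometry

noncomputable section

namespace Groth.Misc15.SemilocInj

/-- A scheme with fpqc-local sections has a section over an affine faithfully flat cover. -/
theorem exists_affine_section_fpqc {S : Scheme.{u}} [IsAffine S] {X : Over S}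
    (hX : NonAbH1.IsLocallyTrivialFor Scheme.fpqcPrecoverage X) :
    ∃ (W : Scheme.{u}) (_ : IsAffine W) (h : W ⟶ S), Surjective h ∧ Flat h ∧
      ∃ s : W ⟶ X.left, s ≫ X.hom = h := by
  classical
  obtain ⟨R, hR, hsec⟩ := hX
  obtain ⟨ι, Y, g, rfl⟩ := R.exists_eq_ofArrows
  let P : PreZeroHypercover.{u + 1} S := ⟨ι, Y, g⟩
  obtain ⟨hqc, -, hflat⟩ := (Groth.HTopHyper.mem_fpqcPrecoverage_iff P).1 hR
  obtain ⟨n, j, V, hV, heq⟩ := QuasiCompactCover.exists_isAffineOpen_of_isCompact P
    (U := (⊤ : S.Opens)) (isAffineOpen_top S).isCompact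
  choose s hs using fun i => hsec (g i) (.mk i)
  let U : ULift.{u} (Fin n) → Scheme.{u} := fun k => (V k.down : Scheme.{u})
  let f : ∀ k, U k ⟶ S := fun k => (V k.down).ι ≫ g (j k.down)
  haveI : ∀ k, IsAffine (U k) := fun k => hV k.down
  refine ⟨∐ U, inferInstance, Sigma.desc f, ⟨fun x => ?_⟩,
    IsZariskiLocalAtSource.sigmaDesc (P := @Flat) fun k => ?_,
    Sigma.desc fun k => (V k.down).ι ≫ s (j k.down), Sigma.hom_ext _ _ fun k => by simp [f, hs]⟩
  · have hx : x ∈ ((⊤ : S.Opens) : Set S) := trivial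
    rw [← heq] at hx
    obtain ⟨k, y, hy, hyx⟩ := Set.mem_iUnion.1 hx
    refine ⟨Sigma.ι U ⟨k⟩ (⟨y, hy⟩ : (V k : Scheme.{u})), ?_⟩
    rw [← Scheme.Hom.comp_apply, Sigma.ι_desc]
    exact hyx
  · haveI : Flat (g (j k.down)) := hflat _
    infer_instance

/-- Two schemes with fpqc-local sections over an affine base have sections over a common faithfully
flat algebra. -/
theorem exists_cover_fpqc {A : Type u} [CommRing A] {X X' : Over (Spec (CommRingCat.of A))}
    (hX : NonAbH1.IsLocallyTrivialFor Scheme.fpqcPrecoverage X)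
    (hX' : NonAbH1.IsLocallyTrivialFor Scheme.fpqcPrecoverage X') :
    ∃ (C : Type u) (_ : CommRing C) (_ : Algebra A C) (_ : Module.Flat A C),
      Surjective (Spec.map (CommRingCat.ofHom (algebraMap A C))) ∧
      (∃ x : Spec (CommRingCat.of C) ⟶ X.left, x ≫ X.hom = Spec.map (CommRingCat.ofHom (algebraMap A C))) ∧
      ∃ x : Spec (CommRingCat.of C) ⟶ X'.left, x ≫ X'.hom = Spec.map (CommRingCat.ofHom (algebraMap A C)) := by
  obtain ⟨W, _, h, _, _, s, hs⟩ := exists_affine_section_fpqc hX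
  obtain ⟨W', _, h', _, _, s', hs'⟩ := exists_affine_section_fpqc hX'
  haveI : IsAffine (pullback h h') := inferInstance
  let T : Scheme.{u} := pullback h h'
  let p : T ⟶ Spec (CommRingCat.of A) := pullback.fst h h' ≫ h
  let ψ := Spec.preimage (T.isoSpec.inv ≫ p)
  have hψ : Spec.map ψ = T.isoSpec.inv ≫ p := Spec.map_preimage _
  haveI : Surjective p := inferInstanceAs (Surjective (pullback.fst h h' ≫ h))
  haveI : Flat p := inferInstanceAs (Flat (pullback.fst h h' ≫ h))
  letI : Algebra A Γ(T, ⊤) := ψ.hom.toAlgebra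
  have hflat : Flat (Spec.map ψ) := hψ ▸ inferInstance
  refine ⟨Γ(T, ⊤), inferInstance, inferInstance, (HasRingHomProperty.Spec_iff (P := @Flat)).1 hflat, ?_,
    ⟨T.isoSpec.inv ≫ pullback.fst h h' ≫ s, ?_⟩, ⟨T.isoSpec.inv ≫ pullback.snd h h' ≫ s', ?_⟩⟩
  · show Surjective (Spec.map ψ)
    rw [hψ]; infer_instance
  · show _ = Spec.map ψ
    rw [hψ, Category.assoc, Category.assoc, hs]
  · show _ = Spec.map ψ
    rw [hψ, Category.assoc, Category.assoc, hs', ← pullback.condition]

end Groth.Misc15.SemilocInj
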