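import Groth.Agent.Misc15.SemilocInj.Descend
import Groth.Agent.Misc15.SemilocInj.Exponent
import Groth.Agent.TorsProper.Extend

/-!
Torsors isomorphic over the generic fibre are isomorphic, given equivariant scalars for the descent data.
-/

set_option autoImplicit false
set_option linter.style.haveILetI false
set_option synthInstance.maxHeartbeats 200000

universe u

open CategoryTheory CategoryTheory.Limits MonoidalCategory CartesianMonoidalCategory MonObj AlgebraicGeometry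
open TensorProduct
open Groth.Pi1Tors

noncomputable section

namespace Groth.Misc15.SemilocInj

open Groth.Reductive.MTInt Groth.Misc15.TorusDvr

/-- Torsors isomorphic over the field of fractions are isomorphic, as soon as the descent data have
equivariant scalars. -/
theorem nonempty_equivIso_of_div {A : Type u} [CommRing A] [IsDomain A] [IsIntegrallyClosed A]
    {M : Over (Spec (CommRingCat.of A))} [GrpObj M] [IsAffineHom M.hom]
    {E : Type u} [Field E] [Algebra (FractionRing A) E] [Algebra A E] [IsScalarTower A (FractionRing A) E]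
    [FiniteDimensional (FractionRing A) E] [IsGalois (FractionRing A) E]
    (B : Subalgebra A E) [Module.Finite A B] [Module.FaithfullyFlat A B]
    (τ : Triv M (sp (algebraMap A B))) [AddGroup.FG τ.M]
    {X Y : Over (Spec (CommRingCat.of A))} {a : AlgGrp.Action M X} {b : AlgGrp.Action M Y}
    (ha : NonAbH1.IsPseudoTorsorSch a) (hb : NonAbH1.IsPseudoTorsorSch b)
    {C : Type u} [CommRing C] [Algebra A C] [Module.FaithfullyFlat A C]
    (hdiv : ∀ (ρ : (E ≃ₐ[FractionRing A] E) →* (E ≃ₐ[A] E)), Function.Injective ρ →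
      (∀ g x, ρ g x = g x) →
      ∀ (θ : (E ≃ₐ[FractionRing A] E) → Multiplicative τ.M → Multiplicative τ.M)
        (c : Multiplicative τ.M →* (E ⊗[A] C)ˣ),
        (∀ g n, (c (θ g n) : E ⊗[A] C) =
          Algebra.TensorProduct.map (ρ g : E →ₐ[A] E) (AlgHom.id A C) (c n)) →
        (∀ n, HasUnitCocycle B (c n : E ⊗[A] C)) →
        ∃ mu : Multiplicative τ.M →* Eˣ, (∀ g n, (mu (θ g n) : E) = ρ g (mu n)) ∧
          ∀ n, ((c n * (jE C (mu n))⁻¹ : (E ⊗[A] C)ˣ) : E ⊗[A] C) ∈ (incl B C).range)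
    (z₁ : Pt X C) (z₂ : Pt Y C)
    (e : NonAbH1.EquivIso (a.bc (Spec.map (CommRingCat.ofHom (algebraMap A (FractionRing A)))))
      (b.bc (Spec.map (CommRingCat.ofHom (algebraMap A (FractionRing A)))))) :
    Nonempty (NonAbH1.EquivIso a b) := by
  classical
  haveI : IsAffine M.left := isAffine_of_isAffineHom M.hom
  let K := FractionRing A
  let f : K →ₐ[A] E := IsScalarTower.toAlgHom A K E
  have hf : Function.Injective f := (algebraMap K E).injective
  haveI : Algebra.IsIntegral A B := Algebra.IsIntegral.of_finite A B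
  have hAK : ∀ k : K, f k ∈ B → ∃ p : A, algebraMap A K p = k := fun k hk => by
    refine IsIntegrallyClosed.isIntegral_iff.1 ?_
    rw [← isIntegral_algHom_iff f hf]
    exact (Algebra.IsIntegral.isIntegral (⟨f k, hk⟩ : B)).map B.val
  let CC := C ⊗[A] C
  let pL : C →ₐ[A] CC := Algebra.TensorProduct.includeLeft
  let pR : C →ₐ[A] CC := Algebra.TensorProduct.includeRight
  let kC : K →ₐ[A] K ⊗[A] C := Algebra.TensorProduct.includeLeft
  let kCC : K →ₐ[A] K ⊗[A] CC := Algebra.TensorProduct.includeLeft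
  let rC : C →ₐ[A] K ⊗[A] C := Algebra.TensorProduct.includeRight
  let rCC : CC →ₐ[A] K ⊗[A] CC := Algebra.TensorProduct.includeRight
  have hrC : Function.Injective rC :=
    Algebra.TensorProduct.includeRight_injective (IsFractionRing.injective A K)
  have hrCC : Function.Injective rCC :=
    Algebra.TensorProduct.includeRight_injective (IsFractionRing.injective A K)
  have hik₁ : (i₁ (C := C) K).comp kC = kCC := AlgHom.ext fun k => rfl
  have hik₂ : (i₂ (C := C) K).comp kC = kCC := AlgHom.ext fun k => rfl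
  have hir₁ : (i₁ (C := C) K).comp rC = rCC.comp pL := AlgHom.ext fun c => by simp [rC, rCC, pL, CC, i₁]
  have hir₂ : (i₂ (C := C) K).comp rC = rCC.comp pR := AlgHom.ext fun c => by simp [rC, rCC, pR, CC, i₂]
  obtain ⟨c, hc⟩ := exists_dot_eq b hb (mv e kC (pl rC z₁)) (pl rC z₂)
  have hmvL : mv e kCC (pl rCC (pl pL z₁)) = dot b (pl (i₁ K) c) (pl rCC (pl pL z₂)) := by
    rw [pl_pl, ← hir₁, ← pl_pl, ← hik₁, mv_pl, ← hc, pl_dot, pl_pl rC, hir₁, ← pl_pl]
  have hmvR : mv e kCC (pl rCC (pl pR z₁)) = dot b (pl (i₂ K) c) (pl rCC (pl pR z₂)) := by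
    rw [pl_pl, ← hir₂, ← pl_pl, ← hik₂, mv_pl, ← hc, pl_dot, pl_pl rC, hir₂, ← pl_pl]
  -- the integral cocycle
  obtain ⟨g₁, hg₁⟩ := exists_dot_eq a ha (pl pL z₁) (pl pR z₁)
  obtain ⟨g₂, hg₂⟩ := exists_dot_eq b hb (pl pL z₂) (pl pR z₂)
  have hcoc : pl (i₁ K) c = pl rCC (g₁ * g₂⁻¹) * pl (i₂ K) c := by
    have e1 : dot b (pl (i₁ K) c * pl rCC g₂) (pl rCC (pl pR z₂)) =
        dot b (pl rCC g₁ * pl (i₂ K) c) (pl rCC (pl pR z₂)) := by
      rw [mul_dot, ← pl_dot, hg₂, ← hmvL, mul_dot, ← hmvR, ← mv_dot, ← pl_dot, hg₁]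
    have e2 := dot_cancel b hb e1
    rw [pl_mul, pl_inv, _root_.mul_assoc, pt_mul_comm τ (pl rCC g₂)⁻¹, ← _root_.mul_assoc, ← e2,
      mul_inv_cancel_right]
  -- the characters
  let N := Multiplicative τ.M
  let βE : B →ₐ[A] E ⊗[A] C := (Algebra.TensorProduct.includeLeft : E →ₐ[A] E ⊗[A] C).comp B.val
  let βE' : B →ₐ[A] E ⊗[A] CC := (Algebra.TensorProduct.includeLeft : E →ₐ[A] E ⊗[A] CC).comp B.val
  let βB' : B →ₐ[A] B ⊗[A] CC := Algebra.TensorProduct.includeLeft
  let cH : N →* E ⊗[A] C := ch τ βE (pl (ext f C) c)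
  let cU : N →* (E ⊗[A] C)ˣ := cH.toHomUnits
  have hval : ∀ n, (cU n : E ⊗[A] C) = cH n := fun n => rfl
  have hunit : ∀ n, HasUnitCocycle B (cU n : E ⊗[A] C) := fun n => by
    let gB : Pt M (B ⊗[A] CC) :=
      pl (Algebra.TensorProduct.includeRight : CC →ₐ[A] B ⊗[A] CC) (g₁ * g₂⁻¹)
    refine ⟨ch τ βB' gB n, ch τ βB' gB n⁻¹, by rw [← map_mul, mul_inv_cancel, map_one], ?_⟩
    rw [hval]
    have h1 : (i₁ (C := C) E).comp βE = βE' := AlgHom.ext fun x => by
      simp [βE, βE', CC, i₁, Algebra.TensorProduct.one_def]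
    have h2 : (i₂ (C := C) E).comp βE = βE' := AlgHom.ext fun x => by
      simp [βE, βE', CC, i₂, Algebra.TensorProduct.one_def]
    have hB : (incl B CC).comp βB' = βE' := AlgHom.ext fun x => by simp [βB', βE', incl]
    have e1 : pl (i₁ E) (pl (ext f C) c) = pl (incl B CC) gB * pl (i₂ E) (pl (ext f C) c) := by
      have k1 : (i₁ (C := C) E).comp (ext f C) = (ext f CC).comp (i₁ K) :=
        Algebra.TensorProduct.ext (AlgHom.ext fun x => by simp [ext, CC, i₁])
          (AlgHom.ext fun x => by simp [ext, CC, i₁])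
      have k2 : (i₂ (C := C) E).comp (ext f C) = (ext f CC).comp (i₂ K) :=
        Algebra.TensorProduct.ext (AlgHom.ext fun x => by simp [ext, CC, i₂])
          (AlgHom.ext fun x => by simp [ext, CC, i₂])
      have k3 : (incl B CC).comp (Algebra.TensorProduct.includeRight : CC →ₐ[A] B ⊗[A] CC) =
          (ext f CC).comp rCC := AlgHom.ext fun x => by simp [incl, ext, rCC]
      rw [pl_pl, k1, ← pl_pl, hcoc, pl_mul, pl_pl rCC, ← k3, ← pl_pl]
      refine congrArg₂ (· * ·) rfl ?_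
      rw [pl_pl, pl_pl, k2]
    have e2 := DFunLike.congr_fun (congrArg (ch τ βE') e1) n
    rw [map_mul, MonoidHom.mul_apply] at e2
    conv_lhs at e2 => rw [← ch_congr τ h1, ch_pl]
    conv_rhs at e2 => rw [← ch_congr τ hB (pl (incl B CC) gB), ch_pl,
      ← ch_congr τ h2 (pl (i₂ E) (pl (ext f C) c)), ch_pl]
    exact e2
  -- the action of the Galois group
  let G := E ≃ₐ[K] E
  let ρ : G →* (E ≃ₐ[A] E) := MonoidHom.mk' (fun g => g.restrictScalars A) fun g h => rfl
  have hρ : Function.Injective ρ := fun g h e => AlgEquiv.ext fun x =>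
    AlgEquiv.congr_fun (e : g.restrictScalars A = h.restrictScalars A) x
  choose θ hθ using fun g : G => exists_theta' τ B.val (ρ g : E →ₐ[A] E)
  have hgalC : ∀ g n, (cU (θ g n) : E ⊗[A] C) =
      Algebra.TensorProduct.map (ρ g : E →ₐ[A] E) (AlgHom.id A C) (cU n) := fun g n => by
    let gC : E ⊗[A] C →ₐ[A] E ⊗[A] C := Algebra.TensorProduct.map (ρ g : E →ₐ[A] E) (AlgHom.id A C)
    rw [hval, hval]
    have h3 : gC.comp (ext f C) = ext f C := Algebra.TensorProduct.ext
      (AlgHom.ext fun k => by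
        show gC (f k ⊗ₜ[A] 1) = f k ⊗ₜ[A] 1
        show (g (f k)) ⊗ₜ[A] (1 : C) = f k ⊗ₜ[A] 1
        rw [show g (f k) = f k from g.commutes k])
      (AlgHom.ext fun x => by
        show gC (f 1 ⊗ₜ[A] x) = f 1 ⊗ₜ[A] x
        show (g (f 1)) ⊗ₜ[A] x = f 1 ⊗ₜ[A] x
        rw [map_one, map_one])
    have h4 : gC.comp βE = (((Algebra.TensorProduct.includeLeft : E →ₐ[A] E ⊗[A] C).comp
        (ρ g : E →ₐ[A] E)).comp B.val) := AlgHom.ext fun x => by simp [gC, βE]
    have e1 := DFunLike.congr_fun (ch_pl τ βE gC (pl (ext f C) c)) n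
    rw [pl_pl, h3, ch_congr τ h4, hθ] at e1
    exact e1
  obtain ⟨mu, hmug, hmur⟩ := hdiv ρ hρ (fun g x => rfl) θ cU hgalC hunit
  -- the point over the field
  obtain ⟨mE, hmE⟩ := (ch τ B.val).surjective ((Units.coeHom E).comp mu)
  have hfix : ∀ g : G, pl (ρ g : E →ₐ[A] E) mE = mE := fun g => by
    refine (ch τ ((ρ g : E →ₐ[A] E).comp B.val)).injective (MonoidHom.ext fun n => ?_)
    rw [ch_pl, hmE]
    refine Eq.trans ?_ (hθ g E (AlgHom.id A E) mE n).symm
    rw [AlgHom.id_comp, hmE]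
    exact (hmug g n).symm
  obtain ⟨mK, hmK⟩ := exists_pl_eq f hf mE fun o => by
    have h5 : ∀ g : G, g (ptHom mE o) = ptHom mE o := fun g => by
      have := RingHom.congr_fun (congrArg ptHom (hfix g)) o
      rwa [ptHom_pl] at this
    exact (IsGalois.mem_range_algebraMap_iff_fixed (F := K) _).2 h5
  let c' : Pt M (K ⊗[A] C) := c * (pl kC mK)⁻¹
  have hc' : ∀ n, ∃ w, incl B C w = ch τ βE (pl (ext f C) c') n := fun n => by
    obtain ⟨w, hw⟩ := hmur n
    refine ⟨w, hw.trans ?_⟩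
    have e1 : pl (ext f C) c = pl (ext f C) c' * pl (ext f C) (pl kC mK) := by
      rw [← pl_mul, inv_mul_cancel_right]
    have e2 : ch τ βE (pl (ext f C) (pl kC mK)) n = ((jE C (mu n) : (E ⊗[A] C)ˣ) : E ⊗[A] C) := by
      have h6 : (ext f C).comp kC = (Algebra.TensorProduct.includeLeft : E →ₐ[A] E ⊗[A] C).comp f :=
        AlgHom.ext fun k => by simp [ext, kC]
      rw [pl_pl, h6, ← pl_pl, hmK]
      exact (DFunLike.congr_fun (ch_pl τ B.val _ mE) n).trans (by rw [hmE]; rfl)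
    have e3 : (cU n : E ⊗[A] C) = ch τ βE (pl (ext f C) c') n * ((jE C (mu n) : (E ⊗[A] C)ˣ) : E ⊗[A] C) := by
      rw [hval, ← e2]
      show ch τ βE (pl (ext f C) c) n = _
      rw [e1, map_mul, MonoidHom.mul_apply]
    show ((cU n * (jE C (mu n))⁻¹ : (E ⊗[A] C)ˣ) : E ⊗[A] C) = _
    rw [Units.val_mul, e3, Units.mul_inv_cancel_right]
  obtain ⟨c₀, hc₀⟩ := exists_descend τ f hAK hrC c' hc'
  refine equivIso_of_cocycle ha hb z₁ (dot b c₀ z₂) fun g hg => ?_
  obtain ⟨g', hg'⟩ := exists_dot_eq b hb (pl pR (dot b c₀ z₂)) (pl pL (dot b c₀ z₂))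
  suffices g = g' by rw [this]; exact hg'
  refine pl_injective rCC hrCC (dot_cancel b hb (x := pl rCC (pl pL (dot b c₀ z₂))) ?_)
  let mD := pl kCC mK
  have hcL : pl (i₁ K) c = mD * pl rCC (pl pL c₀) := by
    rw [pl_pl, ← hir₁, ← pl_pl, hc₀, pl_mul, pl_inv, pl_pl kC, hik₁,
      pt_mul_comm τ mD, inv_mul_cancel_right]
  have hcR : pl (i₂ K) c = mD * pl rCC (pl pR c₀) := by
    rw [pl_pl, ← hir₂, ← pl_pl, hc₀, pl_mul, pl_inv, pl_pl kC, hik₂,
      pt_mul_comm τ mD, inv_mul_cancel_right]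
  have e0 : mv e kCC (pl rCC (pl pR z₁)) = dot b (pl rCC g) (mv e kCC (pl rCC (pl pL z₁))) := by
    rw [← hg, pl_dot, mv_dot]
  have e1 : dot b mD⁻¹ (dot b (pl rCC g) (mv e kCC (pl rCC (pl pL z₁)))) =
      dot b (pl rCC g) (pl rCC (pl pL (dot b c₀ z₂))) := by
    rw [hmvL, hcL, ← mul_dot, ← mul_dot, pl_dot, pl_dot, ← mul_dot]
    congr 1
    rw [pt_mul_comm τ mD⁻¹, _root_.mul_assoc, inv_mul_cancel_left]
  rw [← e1, ← e0, hmvR, hcR, mul_dot, inv_dot, ← pl_dot, ← pl_dot, ← pl_dot, hg']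

/-- Equal classes of torsors come from isomorphic torsors. -/
theorem nonempty_equivIso_of_eqvGen {S : Scheme.{u}} {G : Over S} [GrpObj G] {J : Precoverage Scheme.{u}}
    {P P' : NonAbH1.TorsorSch G J}
    (h : Relation.EqvGen (fun P Q : NonAbH1.TorsorSch G J => Nonempty (NonAbH1.EquivIso P.act Q.act)) P P') :
    Nonempty (NonAbH1.EquivIso P.act P'.act) := by
  induction h with
  | rel _ _ h => exact h
  | refl P => exact ⟨⟨Iso.refl _, by simp⟩⟩
  | symm _ _ _ ih =>
    obtain ⟨e⟩ := ih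
    exact ⟨Groth.TorsProper.symmIso e⟩
  | trans _ _ _ _ _ ih ih' =>
    obtain ⟨e⟩ := ih
    obtain ⟨e'⟩ := ih'
    exact ⟨⟨e.iso ≪≫ e'.iso, by
      rw [Iso.trans_hom, MonoidalCategory.whiskerLeft_comp, Category.assoc, ← e'.comm,
        ← Category.assoc, e.comm, Category.assoc]⟩⟩

end Groth.Misc15.SemilocInj
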