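import Mathlib.LinearAlgebra.FreeModule.PID
import Mathlib.Algebra.Order.Group.Abs
import Mathlib.RingTheory.Finiteness.Basic
import Mathlib.RingTheory.Noetherian.Basic
import Mathlib.Data.Int.Basic
import Mathlib.Algebra.Order.Group.Lattice
import Mathlib.Algebra.Algebra.Defs
import Mathlib.LinearAlgebra.Dimension.Finite
import Mathlib.LinearAlgebra.FreeModule.Finite.Basic
import Mathlib.RingTheory.PrincipalIdealDomain
import Mathlib.Algebra.EuclideanDomain.Int
import Mathlib.Algebra.Order.Pi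
import Mathlib.Algebra.BigOperators.Fin

/-!
Lattice-ordered subgroups of products of a linearly ordered group have finitely many indicator-like
generators for any finite subset, permuted by every symmetry.
-/

set_option autoImplicit false
set_option linter.style.haveILetI false

namespace Groth.Misc15.SemilocInj

universe v

variable {Γ : Type v} [AddCommGroup Γ] [LinearOrder Γ] [IsOrderedAddMonoid Γ]

/-- convexity -/
def IsConvex (C : Submodule ℤ Γ) : Prop := ∀ a ∈ C, ∀ c, |c| ≤ |a| → c ∈ C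

theorem IsConvex.total {C C' : Submodule ℤ Γ} (h : IsConvex C) (h' : IsConvex C') : C ≤ C' ∨ C' ≤ C := by
  by_contra hne
  push Not at hne
  obtain ⟨⟨x, hx, hx'⟩, y, hy, hy'⟩ := SetLike.not_le_iff_exists.1 hne.1, SetLike.not_le_iff_exists.1 hne.2
  rcases le_total |x| |y| with hxy | hxy
  · exact hx' (h' y hy x hxy)
  · exact hy' (h x hx y hxy)

theorem IsConvex.smul_mem {C : Submodule ℤ Γ} (h : IsConvex C) {n : ℤ} (hn : n ≠ 0) {x : Γ} (hx : n • x ∈ C) :
    x ∈ C :=
  h _ hx _ (by
    rw [abs_zsmul]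
    exact le_smul_of_one_le_left (abs_nonneg x) (Int.one_le_abs hn) |>.trans_eq rfl)

/-- A basis adapted to a finite chain of convex subgroups. -/
theorem exists_adapted (t : Finset (Submodule ℤ Γ)) (ht : ∀ C ∈ t, IsConvex C) (Λ : Submodule ℤ Γ) (hΛ : Λ.FG) :
    ∃ (n : ℕ) (b : Fin n → Γ), LinearIndependent ℤ b ∧ Submodule.span ℤ (Set.range b) = Λ ∧
      ∀ C ∈ t, Λ ⊓ C ≤ Submodule.span ℤ (b '' {i | b i ∈ C}) := by
  classical
  haveI : Module.IsTorsionFree ℤ Γ := Module.IsTorsionFree.mk fun r hr x y h => by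
    by_contra hne
    have h1 : r • (x - y) = 0 := by rw [smul_sub]; exact sub_eq_zero.2 h
    exact hne (sub_eq_zero.1 (zsmul_right_injective hr.ne_zero (h1.trans (smul_zero r).symm)))
  induction hk : t.card generalizing t Λ with
  | zero =>
    haveI : Module.Finite ℤ Λ := Module.Finite.iff_fg.2 hΛ
    haveI : Module.Free ℤ Λ := Module.free_of_finite_type_torsion_free'
    let B := Module.Free.chooseBasis ℤ Λ
    let e := Fintype.equivFin (Module.Free.ChooseBasisIndex ℤ Λ)
    refine ⟨_, fun i => ((B.reindex e) i : Γ), ?_, ?_, fun C hC => ?_⟩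
    · exact (B.reindex e).linearIndependent.map' Λ.subtype Λ.ker_subtype
    · rw [show (fun i => ((B.reindex e) i : Γ)) = Λ.subtype ∘ (B.reindex e) from rfl, Set.range_comp,
        ← Submodule.map_span, (B.reindex e).span_eq, Submodule.map_top, Submodule.range_subtype]
    · rw [Finset.card_eq_zero.1 hk] at hC
      exact absurd hC (Finset.notMem_empty C)
  | succ k ih =>
    obtain ⟨W, hW, hmax⟩ : ∃ W ∈ t, ∀ C ∈ t, C ≤ W := by
      obtain ⟨W, hW, hmax⟩ := t.exists_maximal (Finset.card_pos.1 (by omega))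
      exact ⟨W, hW, fun C hC => ((ht C hC).total (ht W hW)).elim id fun h => hmax hC h⟩
    haveI : IsNoetherian ℤ Λ := isNoetherian_of_fg_of_noetherian Λ hΛ
    have hΛ' : (Λ ⊓ W).FG := by
      have h1 := (IsNoetherian.noetherian (W.comap Λ.subtype)).map Λ.subtype
      rwa [Submodule.map_comap_subtype] at h1
    obtain ⟨p, b', hb'li, hb'span, hb'⟩ := ih (t.erase W) (fun C hC => ht C (Finset.mem_of_mem_erase hC))
      (Λ ⊓ W) hΛ' (by rw [Finset.card_erase_of_mem hW]; omega)
    -- the quotient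
    let Λ₁ := Λ.map W.mkQ
    haveI : Module.Finite ℤ Λ₁ := Module.Finite.iff_fg.2 (hΛ.map _)
    haveI : Module.IsTorsionFree ℤ (Γ ⧸ W) := Module.IsTorsionFree.mk fun r hr x y h => by
      obtain ⟨x, rfl⟩ := W.mkQ_surjective x
      obtain ⟨y, rfl⟩ := W.mkQ_surjective y
      refine (Submodule.Quotient.eq W).2 ((ht W hW).smul_mem hr.ne_zero ?_)
      rw [smul_sub]
      exact (Submodule.Quotient.eq W).1 h
    haveI : Module.Free ℤ Λ₁ := Module.free_of_finite_type_torsion_free'
    let B := Module.Free.chooseBasis ℤ Λ₁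
    let e := Fintype.equivFin (Module.Free.ChooseBasisIndex ℤ Λ₁)
    let B' := B.reindex e
    have hlift : ∀ j, ∃ c ∈ Λ, W.mkQ c = (B' j : Γ ⧸ W) := fun j => Submodule.mem_map.1 (B' j).2
    choose c hcΛ hc using hlift
    let b : Fin (p + Fintype.card (Module.Free.ChooseBasisIndex ℤ Λ₁)) → Γ := Fin.append b' c
    have hbW : ∀ i, b' i ∈ W := fun i => ((hb'span ▸ Submodule.subset_span ⟨i, rfl⟩ : b' i ∈ Λ ⊓ W)).2
    refine ⟨_, b, ?_, ?_, fun C hC => ?_⟩
    · rw [Fintype.linearIndependent_iff]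
      intro g hg
      rw [Fin.sum_univ_add] at hg
      simp only [b, Fin.append_left, Fin.append_right] at hg
      have h1 := congrArg W.mkQ hg
      rw [map_add, map_sum, map_sum, map_zero] at h1
      simp only [map_zsmul, hc] at h1
      rw [Finset.sum_eq_zero (fun i _ => by
        rw [show W.mkQ (b' i) = 0 from (Submodule.Quotient.mk_eq_zero W).2 (hbW i), smul_zero]), zero_add] at h1
      have h2 : ∀ j, g (Fin.natAdd p j) = 0 := Fintype.linearIndependent_iff.1
        (B'.linearIndependent.map' Λ₁.subtype Λ₁.ker_subtype) _ h1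
      simp only [h2, zero_smul, Finset.sum_const_zero, add_zero] at hg
      exact fun i => Fin.addCases (Fintype.linearIndependent_iff.1 hb'li _ hg) h2 i
    · refine le_antisymm (Submodule.span_le.2 ?_) fun x hx => ?_
      · rintro _ ⟨i, rfl⟩
        refine Fin.addCases (motive := fun i => b i ∈ Λ) (fun i => ?_) (fun j => ?_) i
        · simp only [b, Fin.append_left]
          exact ((hb'span ▸ Submodule.subset_span ⟨i, rfl⟩ : b' i ∈ Λ ⊓ W)).1
        · simp only [b, Fin.append_right]
          exact hcΛ j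
      · let x₁ : Λ₁ := ⟨W.mkQ x, Submodule.mem_map_of_mem hx⟩
        let y := ∑ j, B'.repr x₁ j • c j
        have hy : x - y ∈ Λ ⊓ W := by
          refine ⟨Λ.sub_mem hx (Λ.sum_mem fun j _ => Λ.smul_mem _ (hcΛ j)), ?_⟩
          refine (Submodule.Quotient.mk_eq_zero W).1 ?_
          show W.mkQ (x - y) = 0
          rw [map_sub, map_sum]
          simp only [map_zsmul, hc]
          have := congrArg Λ₁.subtype (B'.sum_repr x₁)
          rw [map_sum] at this
          simp only [map_zsmul] at this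
          exact sub_eq_zero.2 this.symm
        rw [← hb'span] at hy
        rw [show x = (x - y) + y from (sub_add_cancel x y).symm]
        refine add_mem (Submodule.span_mono ?_ hy) (sum_mem fun j _ => Submodule.smul_mem _ _
          (Submodule.subset_span ⟨Fin.natAdd p j, by simp [b]⟩))
        rintro _ ⟨i, rfl⟩
        exact ⟨Fin.castAdd _ i, by simp [b]⟩
    · have hCW := hmax C hC
      have h1 : Λ ⊓ C = (Λ ⊓ W) ⊓ C := by rw [inf_assoc, inf_eq_right.2 hCW]
      by_cases hCe : C = W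
      · subst hCe
        rw [← hb'span]
        refine Submodule.span_mono ?_
        rintro _ ⟨i, rfl⟩
        exact ⟨Fin.castAdd _ i, by simp [b, hbW i], by simp [b]⟩
      · rw [h1]
        refine (hb' C (Finset.mem_erase.2 ⟨hCe, hC⟩)).trans (Submodule.span_mono ?_)
        rintro _ ⟨i, hi, rfl⟩
        exact ⟨Fin.castAdd _ i, by simpa [b] using hi, by simp [b]⟩

variable {M : Type*} [Fintype M]

/-- the differences of the values at two places -/
def diffs (D : Submodule ℤ (M → Γ)) (m m' : M) : Submodule ℤ Γ :=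
  D.map (LinearMap.proj (R := ℤ) (φ := fun _ : M => Γ) m - LinearMap.proj m')

theorem sub_mem_diffs {D : Submodule ℤ (M → Γ)} {x : M → Γ} (hx : x ∈ D) (m m' : M) : x m - x m' ∈ diffs D m m' :=
  ⟨x, hx, rfl⟩

theorem isConvex_diffs {D : Submodule ℤ (M → Γ)} (hsup : ∀ x ∈ D, ∀ y ∈ D, x ⊔ y ∈ D)
    (hconst : ∀ a : Γ, (fun _ => a) ∈ D) (m m' : M) : IsConvex (diffs D m m') := by
  have hinf : ∀ x ∈ D, ∀ y ∈ D, x ⊓ y ∈ D := fun x hx y hy => by
    have := D.neg_mem (hsup _ (D.neg_mem hx) _ (D.neg_mem hy))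
    rwa [neg_sup, neg_neg, neg_neg] at this
  intro a ha c hc
  suffices |c| ∈ diffs D m m' by
    rcases abs_choice c with h | h <;> rw [h] at this
    · exact this
    · exact neg_mem_iff.1 this
  obtain ⟨x, hx, hxa⟩ : |a| ∈ diffs D m m' := by
    rcases abs_choice a with h | h <;> rw [h]
    · exact ha
    · exact neg_mem ha
  replace hxa : x m - x m' = |a| := hxa
  let y := x - fun _ => x m'
  refine ⟨y ⊓ (fun _ => |c|), hinf _ (D.sub_mem hx (hconst _)) _ (hconst _), ?_⟩
  show (x m - x m') ⊓ |c| - (x m' - x m') ⊓ |c| = |c|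
  rw [hxa, sub_self, inf_eq_right.2 hc, inf_eq_left.2 (abs_nonneg c), sub_zero]

/-- Finitely many elements lie in the span of finitely many independent nonnegative elements which are
permuted by every symmetry. -/
theorem exists_perm_basis {G : Type*} [Group G] [MulAction G M] (D : Submodule ℤ (M → Γ))
    (hsup : ∀ x ∈ D, ∀ y ∈ D, x ⊔ y ∈ D) (hconst : ∀ a : Γ, (fun _ => a) ∈ D)
    (hst : ∀ (g : G), ∀ x ∈ D, (fun m => x (g • m)) ∈ D) (S : Finset (M → Γ)) (hS : ∀ x ∈ S, x ∈ D) :
    ∃ J : Finset (M → Γ), (∀ f ∈ J, f ∈ D ∧ 0 ≤ f) ∧ (∀ (g : G), ∀ f ∈ J, (fun m => f (g • m)) ∈ J) ∧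
      (∀ k : (M → Γ) → ℤ, ∑ f ∈ J, k f • f = 0 → ∀ f ∈ J, k f = 0) ∧
      ∀ x ∈ S, ∃ k : (M → Γ) → ℤ, x = ∑ f ∈ J, k f • f := by
  classical
  have hconv := isConvex_diffs hsup hconst
  have hinf : ∀ x ∈ D, ∀ y ∈ D, x ⊓ y ∈ D := fun x hx y hy => by
    have := D.neg_mem (hsup _ (D.neg_mem hx) _ (D.neg_mem hy))
    rwa [neg_sup, neg_neg, neg_neg] at this
  let Λ : Submodule ℤ Γ := Submodule.span ℤ (((S ×ˢ Finset.univ).image fun p : (M → Γ) × M => p.1 p.2) : Finset Γ)
  let t : Finset (Submodule ℤ Γ) := Finset.univ.image fun p : M × M => diffs D p.1 p.2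
  obtain ⟨n, b, hli, hspan, had⟩ := exists_adapted t (fun C hC => by
    obtain ⟨p, -, rfl⟩ := Finset.mem_image.1 hC
    exact hconv _ _) Λ ⟨_, rfl⟩
  let a : Fin n → Γ := fun i => |b i|
  have hamem : ∀ i (C : Submodule ℤ Γ), a i ∈ C ↔ b i ∈ C := fun i C => by
    rcases abs_choice (b i) with h | h <;> simp only [a, h, neg_mem_iff]
  have hapos : ∀ i, 0 < a i := fun i => abs_pos.2 (hli.ne_zero i)
  let sgn : Fin n → ℤ := fun i => if 0 ≤ b i then 1 else -1
  have hab : ∀ i, b i = sgn i • a i := fun i => by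
    simp only [sgn, a]
    split_ifs with h
    · rw [one_smul, abs_of_nonneg h]
    · rw [neg_smul, one_smul, abs_of_neg (not_le.1 h), neg_neg]
  have hlia : ∀ d : Fin n → ℤ, ∑ i, d i • a i = 0 → ∀ i, d i = 0 := fun d hd i => by
    have h1 : ∀ i, sgn i * sgn i = 1 := fun i => by simp only [sgn]; split_ifs <;> norm_num
    have h2 := Fintype.linearIndependent_iff.1 hli (fun i => d i * sgn i) (by
      rw [← hd]
      exact Finset.sum_congr rfl fun i _ => by rw [hab, smul_smul, mul_assoc, h1, mul_one]) i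
    have h3 := congrArg (· * sgn i) h2
    simpa [mul_assoc, h1] using h3
  -- the blocks
  have hsymm : ∀ m m', diffs D m m' ≤ diffs D m' m := fun m m' c hc => by
    obtain ⟨x, hx, rfl⟩ := hc
    exact ⟨-x, D.neg_mem hx, by simp; abel⟩
  have htrans : ∀ i m m' m'', a i ∉ diffs D m m' → a i ∉ diffs D m' m'' → a i ∉ diffs D m m'' := by
    intro i m m' m'' h h' hc
    have hle : diffs D m m'' ≤ diffs D m m' ⊔ diffs D m' m'' := fun c hc => by
      obtain ⟨x, hx, rfl⟩ := hc
      exact Submodule.mem_sup.2 ⟨_, sub_mem_diffs hx m m', _, sub_mem_diffs hx m' m'', by simp⟩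
    rcases (hconv m m').total (hconv m' m'') with h1 | h1
    · exact h' ((sup_eq_right.2 h1) ▸ hle hc)
    · exact h ((sup_eq_left.2 h1) ▸ hle hc)
  have hrefl : ∀ i m, a i ∉ diffs D m m := fun i m ⟨x, _, hx⟩ => (hapos i).ne' (hx.symm.trans (sub_self (x m)))
  let F : Fin n → M → (M → Γ) := fun i m₀ m => if a i ∈ diffs D m₀ m then 0 else a i
  have hF0 : ∀ i m, F i m m = a i := fun i m => if_neg (hrefl i m)
  have hFblock : ∀ i m m', a i ∉ diffs D m m' → F i m = F i m' := fun i m m' h => by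
    funext w
    have e : a i ∈ diffs D m w ↔ a i ∈ diffs D m' w := by
      constructor
      · intro h1
        by_contra h2
        exact htrans i m m' w h h2 h1
      · intro h1
        by_contra h2
        exact htrans i m' m w (fun h3 => h (hsymm _ _ h3)) h2 h1
    exact if_congr e rfl rfl
  have hFeq : ∀ i i' m m', F i m = F i' m' → i = i' ∧ a i ∉ diffs D m' m := fun i i' m m' h => by
    have h1 := congrFun h m
    rw [hF0] at h1
    by_cases h2 : a i' ∈ diffs D m' m
    · simp only [F, if_pos h2] at h1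
      exact absurd h1 (hapos i).ne'
    simp only [F, if_neg h2] at h1
    have hii : i = i' := by
      by_contra hne
      have h3 := hlia (Pi.single i 1 - Pi.single i' 1) (by
        simp [sub_smul, Finset.sum_sub_distrib, Pi.single_apply, ite_smul, h1]) i
      simp [Pi.single_apply, Ne.symm hne, hne] at h3
    subst hii
    exact ⟨rfl, h2⟩
  have hFmem : ∀ i m₀, F i m₀ ∈ D := fun i m₀ => by
    let O := (Finset.univ : Finset M).filter fun m => a i ∈ diffs D m₀ m
    have hy : ∀ m', ∃ z ∈ D, (∀ m, a i ∉ diffs D m₀ m → z m = a i) ∧ (0 ≤ z) ∧ (z ≤ fun _ => a i) ∧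
        (a i ∈ diffs D m₀ m' → z m' = 0) := fun m' => by
      by_cases hm : a i ∈ diffs D m₀ m'
      swap
      · exact ⟨fun _ => a i, hconst _, fun _ _ => rfl, fun _ => (hapos i).le, le_rfl, fun h => absurd h hm⟩
      obtain ⟨x, hx, hxa⟩ := hm
      replace hxa : x m₀ - x m' = a i := hxa
      let y : M → Γ := (2 : ℤ) • (x - fun _ => x m')
      have hyD : y ∈ D := D.smul_mem _ (D.sub_mem hx (hconst _))
      refine ⟨(y ⊔ fun _ => 0) ⊓ fun _ => a i, hinf _ (hsup _ hyD _ (hconst _)) _ (hconst _), fun m hm => ?_,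
        fun m => le_inf (le_sup_right (a := y m)) (hapos i).le, inf_le_right, fun _ => ?_⟩
      · have hd := sub_mem_diffs hyD m₀ m
        have hd' : |y m₀ - y m| < a i := lt_of_not_ge fun hle =>
          hm (hconv _ _ _ hd _ (by rwa [abs_of_pos (hapos i)]))
        have hy0 : y m₀ = a i + a i := by simp [y, hxa, two_zsmul]
        have hge : a i ≤ y m := by
          have := (abs_lt.1 hd').2
          rw [hy0, sub_lt_iff_lt_add] at this
          exact le_of_lt (lt_of_add_lt_add_left this)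
        exact inf_eq_right.2 (hge.trans le_sup_left)
      · show (y m' ⊔ 0) ⊓ a i = 0
        rw [show y m' = 0 by simp [y], sup_idem, inf_eq_left.2 (hapos i).le]
    choose z hzD hz1 hz0 hza hz2 using hy
    haveI : Nonempty M := ⟨m₀⟩
    have key : F i m₀ = (Finset.univ : Finset M).inf' Finset.univ_nonempty z := by
      funext m
      rw [Finset.inf'_apply]
      by_cases hm : a i ∈ diffs D m₀ m
      · simp only [F, if_pos hm]
        refine le_antisymm (Finset.le_inf' _ _ fun w _ => hz0 w m) ?_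
        exact (Finset.inf'_le _ (Finset.mem_univ m)).trans_eq (hz2 m hm)
      · simp only [F, if_neg hm]
        exact le_antisymm (Finset.le_inf' _ _ fun w _ => (hz1 w m hm).ge)
          ((Finset.inf'_le _ (Finset.mem_univ m)).trans_eq (hz1 m m hm))
    rw [key]
    exact Finset.inf'_mem (D : Set (M → Γ)) (fun x hx y hy => hinf x hx y hy) _ _ _ fun w _ => hzD w
  let J : Finset (M → Γ) := (Finset.univ : Finset (Fin n × M)).image fun p => F p.1 p.2
  have hJ : ∀ f ∈ J, ∃ i m, F i m = f := fun f hf => by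
    obtain ⟨p, -, rfl⟩ := Finset.mem_image.1 hf
    exact ⟨_, _, rfl⟩
  have heval : ∀ (k : (M → Γ) → ℤ) (m : M), (∑ f ∈ J, k f • f) m = ∑ i, k (F i m) • a i := fun k m => by
    rw [Finset.sum_apply]
    rw [← Finset.sum_subset (s₁ := (Finset.univ : Finset (Fin n)).image fun i => F i m) (fun f hf => by
      obtain ⟨i, -, rfl⟩ := Finset.mem_image.1 hf
      exact Finset.mem_image.2 ⟨(i, m), Finset.mem_univ _, rfl⟩) fun f hf hnot => by
        obtain ⟨i, m₀, rfl⟩ := hJ f hf
        have : a i ∈ diffs D m₀ m := by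
          by_contra h
          exact hnot (Finset.mem_image.2 ⟨i, Finset.mem_univ _, (hFblock i m₀ m h).symm⟩)
        simp [F, this]]
    rw [Finset.sum_image fun i _ i' _ h => (hFeq i i' m m h).1]
    exact Finset.sum_congr rfl fun i _ => by rw [Pi.smul_apply, hF0]
  refine ⟨J, fun f hf => ?_, fun g f hf => ?_, fun k hk f hf => ?_, fun x hx => ?_⟩
  · obtain ⟨i, m, rfl⟩ := hJ f hf
    refine ⟨hFmem i m, fun w => ?_⟩
    show (0 : Γ) ≤ if _ then _ else _
    split_ifs
    exacts [le_rfl, (hapos i).le]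
  · obtain ⟨i, m₀, rfl⟩ := hJ f hf
    refine Finset.mem_image.2 ⟨(i, g⁻¹ • m₀), Finset.mem_univ _, funext fun m => ?_⟩
    refine if_congr ?_ rfl rfl
    constructor
    · rintro ⟨x, hx, e⟩
      refine ⟨fun w => x (g⁻¹ • w), hst g⁻¹ x hx, ?_⟩
      show x (g⁻¹ • m₀) - x (g⁻¹ • g • m) = a i
      rw [inv_smul_smul]
      exact e
    · rintro ⟨x, hx, e⟩
      refine ⟨fun w => x (g • w), hst g x hx, ?_⟩
      show x (g • g⁻¹ • m₀) - x (g • m) = a i
      rw [smul_inv_smul]
      exact e
  · obtain ⟨i, m, rfl⟩ := hJ f hf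
    exact hlia (fun i => k (F i m)) ((heval k m).symm.trans (congrFun hk m)) i
  · have hxm : ∀ m, ∃ d : Fin n → ℤ, ∑ i, d i • a i = x m := fun m => by
      have h1 : x m ∈ Λ := Submodule.subset_span (Finset.mem_image.2
        ⟨(x, m), Finset.mem_product.2 ⟨hx, Finset.mem_univ _⟩, rfl⟩)
      rw [← hspan, Submodule.mem_span_range_iff_exists_fun] at h1
      obtain ⟨d, hd⟩ := h1
      exact ⟨fun i => d i * sgn i, by simpa only [hab, smul_smul] using hd⟩
    choose d hd using hxm
    have hcomp : ∀ i m m', a i ∉ diffs D m m' → d m i = d m' i := fun i m m' h => by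
      have hΛ : ∀ w, x w ∈ Λ := fun w => Submodule.subset_span (Finset.mem_image.2
        ⟨(x, w), Finset.mem_product.2 ⟨hx, Finset.mem_univ _⟩, rfl⟩)
      have h1 := had _ (Finset.mem_image.2 ⟨(m, m'), Finset.mem_univ _, rfl⟩)
        ⟨Λ.sub_mem (hΛ m) (hΛ m'), sub_mem_diffs (hS x hx) m m'⟩
      rw [Finsupp.mem_span_image_iff_linearCombination] at h1
      obtain ⟨l, hl, hlx⟩ := h1
      rw [Finsupp.linearCombination_apply, Finsupp.sum_fintype _ _ (fun j => zero_smul ℤ (b j))] at hlx
      have h2 := hlia (fun j => d m j - d m' j - l j * sgn j) (by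
        simp only [sub_smul, Finset.sum_sub_distrib, hd, ← smul_smul, ← hab, hlx, sub_self]) i
      have hli0 : l i = 0 := by
        by_contra hne
        exact h ((hamem i _).2 (hl (Finsupp.mem_support_iff.2 hne)))
      rwa [hli0, zero_mul, sub_zero, sub_eq_zero] at h2
    have hsel : ∀ f : M → Γ, ∃ k : ℤ, ∀ i m, F i m = f → k = d m i := fun f => by
      by_cases h : ∃ i m, F i m = f
      · obtain ⟨i, m, rfl⟩ := h
        exact ⟨d m i, fun i' m' e => by
          obtain ⟨rfl, h1⟩ := hFeq _ _ _ _ e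
          exact (hcomp i' m m' h1)⟩
      · exact ⟨0, fun i m e => absurd ⟨i, m, e⟩ h⟩
    choose k hk using hsel
    refine ⟨k, funext fun m => ?_⟩
    rw [heval, ← hd m]
    exact Finset.sum_congr rfl fun i _ => by rw [hk _ i m rfl]

end Groth.Misc15.SemilocInj
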