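import Groth.Agent.Misc15.SemilocInj.Cover
import Groth.Agent.Misc15.SemilocInj.Div
import Groth.Agent.Misc15.SemilocInj.Descend
import Groth.Agent.Misc15.SemilocInj.GenMain

/-!
Torsors under a group of multiplicative type over a regular semilocal domain are determined by their generic
fibre.
-/

set_option autoImplicit false
set_option linter.style.haveILetI false
set_option synthInstance.maxHeartbeats 200000

universe u

open CategoryTheory CategoryTheory.Limits MonoidalCategory CartesianMonoidalCategory MonObj AlgebraicGeometry
open TensorProduct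
open Groth.Pi1Tors

noncomputable section

namespace Groth.Misc15.SemilocInj

open Groth.Reductive.MTInt Groth.Misc15.TorusDvr

variable {A : Type u} [CommRing A] [IsDomain A] [IsRegularRing A] [Finite (MaximalSpectrum A)]
  {M : Over (Spec (CommRingCat.of A))} [GrpObj M]

/-- Torsors isomorphic over the field of fractions are isomorphic. -/
theorem nonempty_equivIso (D : Split A M) [IsAffineHom M.hom]
    {X Y : Over (Spec (CommRingCat.of A))} {a : AlgGrp.Action M X} {b : AlgGrp.Action M Y}
    (ha : NonAbH1.IsPseudoTorsorSch a) (hb : NonAbH1.IsPseudoTorsorSch b)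
    {C : Type u} [CommRing C] [Algebra A C] [Module.FaithfullyFlat A C] (z₁ : Pt X C) (z₂ : Pt Y C)
    (e : NonAbH1.EquivIso (a.bc (Spec.map (CommRingCat.ofHom (algebraMap A (FractionRing A)))))
      (b.bc (Spec.map (CommRingCat.ofHom (algebraMap A (FractionRing A)))))) :
    Nonempty (NonAbH1.EquivIso a b) := by
  classical
  haveI := ufd_of_semilocal_regular A
  haveI := ufd_of_semilocal_regular D.B
  haveI : AddGroup.FG D.triv.M := AddGroup.fg_iff_mul_fg.2 D.fg
  haveI : FaithfulSMul A D.B := (faithfulSMul_iff_algebraMap_injective A D.B).2 fun p q h => by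
    refine IsFractionRing.injective A (FractionRing A) ((algebraMap (FractionRing A) D.E).injective ?_)
    rw [← IsScalarTower.algebraMap_apply, ← IsScalarTower.algebraMap_apply]
    exact congrArg Subtype.val h
  haveI : Algebra.Etale A D.B := etale_of_unramified
  haveI : Algebra.IsIntegral A D.B := Algebra.IsIntegral.of_finite A D.B
  haveI : Module.FaithfullyFlat A D.B := Module.FaithfullyFlat.of_comap_surjective fun p => by
    obtain ⟨Q, -, hQ, hQp⟩ := Ideal.exists_ideal_over_prime_of_isIntegral p.asIdeal (⊥ : Ideal D.B)
      (by rw [Ideal.comap_bot_of_injective _ (FaithfulSMul.algebraMap_injective A D.B)]; exact bot_le)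
    exact ⟨⟨Q, hQ⟩, PrimeSpectrum.ext hQp⟩
  exact nonempty_equivIso_of_div D.B D.triv ha hb
    (fun ρ hρ hval θ c hθ hc => exists_equivariant_div D.frac ρ hρ (fun g x hx => by
      rw [hval]
      exact D.stable g x hx) θ c hθ hc) z₁ z₂ e

end Groth.Misc15.SemilocInj
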