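import Groth.Agent.Misc15.TorusDvr.Pts
import Groth.Agent.TorsProper.GlueMain
import Groth.Agent.Misc15.MultH1.Torsor
import Mathlib.RingTheory.Flat.FaithfullyFlat.Algebra

/-!
Points over algebras, moved by an equivariant isomorphism over an extension of the base.
-/

set_option autoImplicit false
set_option linter.style.haveILetI false

universe u

open CategoryTheory CategoryTheory.Limits MonoidalCategory CartesianMonoidalCategory MonObj AlgebraicGeometry
open TensorProduct
open Groth.Pi1Tors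

noncomputable section

namespace Groth.Misc15.SemilocInj

open Groth.Reductive.MTInt Groth.Misc15.TorusDvr

variable {A : Type u} [CommRing A]

/-- points with values in an algebra -/
abbrev Pt (T : Over (Spec (CommRingCat.of A))) (R : Type u) [CommRing R] [Algebra A R] :=
  sp (algebraMap A R) ⟶ T

variable {R R' R'' : Type u} [CommRing R] [Algebra A R] [CommRing R'] [Algebra A R'] [CommRing R'']
  [Algebra A R''] {T : Over (Spec (CommRingCat.of A))}

/-- functoriality -/
def pl (f : R →ₐ[A] R') (x : Pt T R) : Pt T R' :=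
  spMap f.toRingHom _ _ f.comp_algebraMap ≫ x

theorem pl_pl (f : R →ₐ[A] R') (g : R' →ₐ[A] R'') (x : Pt T R) : pl g (pl f x) = pl (g.comp f) x := by
  rw [pl, pl, pl, ← Category.assoc, spMap_comp]
  rfl

theorem pl_mul [GrpObj T] (f : R →ₐ[A] R') (x y : Pt T R) : pl f (x * y) = pl f x * pl f y :=
  MonObj.comp_mul _ _ _

theorem pl_inv [GrpObj T] (f : R →ₐ[A] R') (x : Pt T R) : pl f x⁻¹ = (pl f x)⁻¹ :=
  GrpObj.comp_inv _ _

theorem pl_dot {X : Over (Spec (CommRingCat.of A))} [GrpObj T] (a : AlgGrp.Action T X) (f : R →ₐ[A] R')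
    (g : Pt T R) (x : Pt X R) : pl f (dot a g x) = dot a (pl f g) (pl f x) :=
  comp_dot a _ _ _

theorem ptHom_injective [IsAffine T.left] : Function.Injective (ptHom : Pt T R → _) := fun x y h => by
  refine Over.OverMorphism.ext ?_
  have h2 := specMap_ptHom x
  rw [h, specMap_ptHom] at h2
  exact (cancel_mono T.left.isoSpec.hom).1 h2.symm

theorem ptHom_pl [IsAffine T.left] (f : R →ₐ[A] R') (x : Pt T R) :
    ptHom (pl f x) = f.toRingHom.comp (ptHom x) :=
  ptHom_spMap _ _ _

theorem pl_injective [IsAffine T.left] (f : R →ₐ[A] R') (hf : Function.Injective f) :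
    Function.Injective (pl f : Pt T R → Pt T R') := fun x y h => by
  refine ptHom_injective (RingHom.ext fun o => hf ?_)
  have := RingHom.congr_fun (congrArg (fun z => ptHom z) h) o
  rwa [ptHom_pl, ptHom_pl] at this

theorem exists_pl_eq [IsAffine T.left] (f : R →ₐ[A] R') (hf : Function.Injective f) (x : Pt T R')
    (hx : ∀ o, ∃ s, f s = ptHom x o) : ∃ x₀, pl f x₀ = x :=
  exists_pt_of_range f.toRingHom hf _ _ f.comp_algebraMap x hx

section Move

variable {K : Type u} [CommRing K] [Algebra A K] {G P Q : Over (Spec (CommRingCat.of A))} [GrpObj G]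
  {a : AlgGrp.Action G P} {b : AlgGrp.Action G Q}
  (e : NonAbH1.EquivIso (a.bc (Spec.map (CommRingCat.ofHom (algebraMap A K))))
    (b.bc (Spec.map (CommRingCat.ofHom (algebraMap A K)))))

/-- test objects over the extension -/
def spK (k : K →ₐ[A] R) :
    (Over.map (Spec.map (CommRingCat.ofHom (algebraMap A K)))).obj (Over.mk (Spec.map (CommRingCat.ofHom k.toRingHom)))
      ≅ sp (algebraMap A R) :=
  Over.isoMk (Iso.refl _) (by
    show 𝟙 _ ≫ Spec.map _ = Spec.map _ ≫ Spec.map _
    rw [Category.id_comp, ← Spec.map_comp, ← CommRingCat.ofHom_comp]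
    congr 2
    exact k.comp_algebraMap.symm)

/-- the isomorphism on points -/
def mv (k : K →ₐ[A] R) (x : Pt P R) : Pt Q R :=
  (spK k).inv ≫ Groth.TorsProper.genMove _ e ((spK k).hom ≫ x)

theorem mv_dot (k : K →ₐ[A] R) (g : Pt G R) (x : Pt P R) :
    mv e k (dot a g x) = dot b g (mv e k x) := by
  rw [mv, mv, comp_dot, dot, Groth.TorsProper.genMove_act, ← dot, comp_dot, Iso.inv_hom_id_assoc]

theorem mv_pl (k : K →ₐ[A] R) (f : R →ₐ[A] R') (x : Pt P R) :
    mv e (f.comp k) (pl f x) = pl f (mv e k x) := by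
  let h : Over.mk (Spec.map (CommRingCat.ofHom (f.comp k).toRingHom)) ⟶
      Over.mk (Spec.map (CommRingCat.ofHom k.toRingHom)) :=
    Over.homMk (Spec.map (CommRingCat.ofHom f.toRingHom)) (by
      show Spec.map _ ≫ Spec.map _ = Spec.map _
      rw [← Spec.map_comp]; rfl)
  have hh : (spK (f.comp k)).hom ≫ spMap f.toRingHom _ _ f.comp_algebraMap =
      (Over.map (Spec.map (CommRingCat.ofHom (algebraMap A K)))).map h ≫ (spK k).hom := by
    ext : 1
    show 𝟙 _ ≫ Spec.map _ = Spec.map _ ≫ 𝟙 _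
    simp [h]
  rw [mv, mv, pl, pl, ← Category.assoc (spK (f.comp k)).hom, hh, Category.assoc,
    Groth.TorsProper.genMove_nat, ← cancel_epi (spK (f.comp k)).hom, Iso.hom_inv_id_assoc,
    ← Category.assoc (spK (f.comp k)).hom, hh, Category.assoc, Iso.hom_inv_id_assoc]

end Move

section Universal

variable {C : Type u} [CommRing C] [Algebra A C]

/-- The two projections as points. -/
theorem exists_lift_pair {T : Over (Spec (CommRingCat.of A))} (x y : T ⟶ sp (algebraMap A C)) :
    ∃ z : T ⟶ sp (algebraMap A (C ⊗[A] C)),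
      z ≫ spMap (Algebra.TensorProduct.includeLeft : C →ₐ[A] C ⊗[A] C).toRingHom _ _ (Algebra.TensorProduct.includeLeft : C →ₐ[A] C ⊗[A] C).comp_algebraMap = x ∧
      z ≫ spMap (Algebra.TensorProduct.includeRight : C →ₐ[A] C ⊗[A] C).toRingHom _ _ (Algebra.TensorProduct.includeRight : C →ₐ[A] C ⊗[A] C).comp_algebraMap = y := by
  let w := pullback.lift x.left y.left ((Over.w x).trans (Over.w y).symm) ≫ (pullbackSpecIso A C C).hom
  have h1 : w ≫ Spec.map (CommRingCat.ofHom (Algebra.TensorProduct.includeLeftRingHom : C →+* C ⊗[A] C)) = x.left := by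
    rw [Category.assoc, pullbackSpecIso_hom_fst]
    exact pullback.lift_fst _ _ _
  have h2 : w ≫ Spec.map (CommRingCat.ofHom
      ((Algebra.TensorProduct.includeRight : C →ₐ[A] C ⊗[A] C).toRingHom)) = y.left := by
    rw [Category.assoc]
    erw [pullbackSpecIso_hom_snd]
    exact pullback.lift_snd _ _ _
  refine ⟨Over.homMk w ?_, Over.OverMorphism.ext h1, Over.OverMorphism.ext h2⟩
  show w ≫ Spec.map _ = T.hom
  refine Eq.trans ?_ ((congrArg (· ≫ (sp (algebraMap A C)).hom) h1).trans (Over.w x))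
  show w ≫ _ = _
  rw [Category.assoc w]
  refine congrArg (w ≫ ·) ?_
  show Spec.map _ = Spec.map _ ≫ Spec.map _
  rw [← Spec.map_comp, ← CommRingCat.ofHom_comp]

variable [Module.FaithfullyFlat A C] {G P Q : Over (Spec (CommRingCat.of A))} [GrpObj G]
  {a : AlgGrp.Action G P} {b : AlgGrp.Action G Q}

/-- Two torsors trivialised by a faithfully flat algebra with the same cocycle are isomorphic. -/
theorem equivIso_of_cocycle (ha : NonAbH1.IsPseudoTorsorSch a) (hb : NonAbH1.IsPseudoTorsorSch b)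
    (z : Pt P C) (z' : Pt Q C)
    (h : ∀ g : Pt G (C ⊗[A] C),
      dot a g (pl (Algebra.TensorProduct.includeLeft : C →ₐ[A] C ⊗[A] C) z) = pl (Algebra.TensorProduct.includeRight : C →ₐ[A] C ⊗[A] C) z →
      dot b g (pl (Algebra.TensorProduct.includeLeft : C →ₐ[A] C ⊗[A] C) z') = pl (Algebra.TensorProduct.includeRight : C →ₐ[A] C ⊗[A] C) z') :
    Nonempty (NonAbH1.EquivIso a b) := by
  haveI : Flat (Spec.map (CommRingCat.ofHom (algebraMap A C))) := by
    rw [HasRingHomProperty.Spec_iff (P := @Flat)]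
    exact RingHom.flat_algebraMap_iff.2 inferInstance
  haveI : Surjective (Spec.map (CommRingCat.ofHom (algebraMap A C))) :=
    ⟨PrimeSpectrum.comap_surjective_of_faithfullyFlat⟩
  have hU : LocSurj (toUnit (sp (algebraMap A C))) := locSurj_toUnit
    ⟨Presieve.singleton (Spec.map (CommRingCat.ofHom (algebraMap A C))),
      Scheme.Hom.singleton_mem_fpqcPrecoverage _, by
      rintro S' f ⟨⟩
      exact ⟨𝟙 _, Category.id_comp _⟩⟩
  refine Groth.Misc15.MultH1.equivIso_of_sections ha hb hU z z' fun T x y g hg => ?_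
  obtain ⟨w, hx, hy⟩ := exists_lift_pair x y
  subst hx hy
  obtain ⟨g₀, hg₀⟩ := exists_dot_eq a ha (pl (Algebra.TensorProduct.includeRight : C →ₐ[A] C ⊗[A] C) z)
    (pl (Algebra.TensorProduct.includeLeft : C →ₐ[A] C ⊗[A] C) z)
  have e1 := congrArg (w ≫ ·) hg₀
  have e2 := congrArg (w ≫ ·) (h g₀ hg₀)
  simp only [comp_dot] at e1 e2
  rw [Category.assoc, Category.assoc] at hg ⊢
  have : g = w ≫ g₀ := dot_cancel a ha (hg.trans e1.symm)
  rw [this]
  exact e2

end Universal

end Groth.Misc15.SemilocInj
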