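import Groth.Agent.PicAux.RegularUFD
import Mathlib.RingTheory.UniqueFactorizationDomain.Kaplansky

/-!
A regular semilocal domain is factorial.
-/

set_option autoImplicit false
set_option linter.style.haveILetI false

universe u

namespace Groth.Misc15.SemilocInj

/-- A locally principal ideal of a semilocal domain is principal. -/
theorem exists_generator {B : Type u} [CommRing B] [IsDomain B] [Finite (MaximalSpectrum B)] (P : Ideal B)
    (h : ∀ m : Ideal B, m.IsMaximal → ∃ g ∈ P, g ≠ 0 ∧ ∃ s ∉ m, ∀ p ∈ P, g ∣ s * p) :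
    ∃ g, P = Ideal.span {g} := by
  classical
  haveI := Fintype.ofFinite (MaximalSpectrum B)
  choose gm hgm hgm0 sm hsm hdvd using fun m : MaximalSpectrum B => h m.asIdeal m.isMaximal
  have hco : Pairwise fun i j : MaximalSpectrum B => IsCoprime i.asIdeal j.asIdeal := fun i j hij =>
    Ideal.isCoprime_iff_sup_eq.2 (i.isMaximal.coprime_of_ne j.isMaximal fun e => hij (MaximalSpectrum.ext e))
  choose e he using fun m : MaximalSpectrum B =>
    Ideal.exists_forall_sub_mem_ideal hco (Pi.single m (1 : B))
  let g := ∑ m, e m * gm m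
  have hg : g ∈ P := Ideal.sum_mem _ fun m _ => Ideal.mul_mem_left _ _ (hgm m)
  let J : Ideal B :=
    { carrier := {t | ∀ p ∈ P, g ∣ t * p}
      add_mem' := fun ha hb p hp => by rw [add_mul]; exact dvd_add (ha p hp) (hb p hp)
      zero_mem' := fun p _ => by rw [zero_mul]; exact dvd_zero g
      smul_mem' := fun c x hx p hp => by rw [smul_eq_mul, mul_assoc]; exact (hx p hp).mul_left c }
  have hJ : J = ⊤ := by
    by_contra hne
    obtain ⟨M, hM, hle⟩ := Ideal.exists_le_maximal J hne
    let m : MaximalSpectrum B := ⟨M, hM⟩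
    choose k hk using fun n => hdvd m (gm n) (hgm n)
    let hh := ∑ n, e n * k n
    have hgh : sm m * g = gm m * hh := by
      simp only [g, hh, Finset.mul_sum]
      refine Finset.sum_congr rfl fun n _ => ?_
      linear_combination e n * hk n
    have hkm : k m = sm m := by
      have := hk m
      rw [mul_comm] at this
      exact (mul_left_cancel₀ (hgm0 m) this).symm
    have hh0 : hh ∉ M := by
      intro hmem
      have hrest : ∀ n ∈ Finset.univ.erase m, e n * k n ∈ M := fun n hn => Ideal.mul_mem_right _ _ (by
        have := he n m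
        rw [Pi.single_eq_of_ne (Finset.ne_of_mem_erase hn).symm, sub_zero] at this
        exact this)
      have h2 : e m * k m ∈ M := by
        have := Ideal.sub_mem _ hmem (Ideal.sum_mem M hrest)
        rwa [show hh = e m * k m + ∑ n ∈ Finset.univ.erase m, e n * k n from
          (Finset.add_sum_erase _ _ (Finset.mem_univ m)).symm, add_sub_cancel_right] at this
      rcases hM.isPrime.mem_or_mem h2 with h3 | h3
      · have := he m m
        rw [Pi.single_eq_same] at this
        exact hM.ne_top ((Ideal.eq_top_iff_one M).2 (by simpa using Ideal.sub_mem _ h3 this))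
      · exact hsm m (hkm ▸ h3)
    have hmem : hh * sm m ∈ J := fun p hp => by
      obtain ⟨c, hc⟩ := hdvd m p hp
      refine ⟨sm m * c, ?_⟩
      linear_combination hh * hc - c * hgh
    rcases hM.isPrime.mem_or_mem (hle hmem) with h3 | h3
    · exact hh0 h3
    · exact hsm m h3
  refine ⟨g, le_antisymm (fun p hp => Ideal.mem_span_singleton.2 ?_)
    ((Ideal.span_singleton_le_iff_mem _).2 hg)⟩
  have := (show (1 : B) ∈ J from hJ ▸ Submodule.mem_top) p hp
  rwa [one_mul] at this

theorem ufd_of_semilocal_regular (B : Type u) [CommRing B] [IsDomain B] [IsRegularRing B]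
    [Finite (MaximalSpectrum B)] : UniqueFactorizationMonoid B := by
  refine UniqueFactorizationMonoid.iff_exists_prime_mem_of_isPrime.2 fun Q hQ hQp => ?_
  obtain ⟨a, haQ, ha⟩ := Submodule.exists_mem_ne_zero_of_ne_bot hQ
  obtain ⟨P, hP, hPQ⟩ := Ideal.exists_minimalPrimes_le
    ((Ideal.span_singleton_le_iff_mem (I := Q)).2 haQ)
  have hPne : P ≠ ⊥ := fun e => ha (by simpa [e] using hP.1.2 (Ideal.mem_span_singleton_self a))
  have hufd : ∀ (m : Ideal B) [m.IsMaximal], UniqueFactorizationMonoid (Localization.AtPrime m) := fun m _ =>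
    haveI : IsRegularLocalRing (Localization.AtPrime m) := inferInstance
    Groth.PicAux.ufd_of_isRegularLocalRing _
  obtain ⟨g, hg⟩ := exists_generator P fun m hm => Groth.PicAux.locally_principal_of_minimalPrime hufd ha hP m
  have hg0 : g ≠ 0 := fun e => hPne (by simp [hg, e])
  exact ⟨g, hPQ (hg ▸ Ideal.mem_span_singleton_self g),
    (Ideal.span_singleton_prime hg0).1 (hg ▸ hP.1.1)⟩

end Groth.Misc15.SemilocInj
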