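import Groth.Agent.Misc15.SemilocInj.Descend

/-!
The universal point of an affine group scheme over an affine base and its characters.
-/

set_option autoImplicit false
set_option linter.style.haveILetI false
set_option synthInstance.maxHeartbeats 200000

universe u

open CategoryTheory CategoryTheory.Limits MonoidalCategory CartesianMonoidalCategory MonObj AlgebraicGeometry
open TensorProduct

noncomputable section

namespace Groth.Misc15.SemilocInj

open Groth.Reductive.MTInt Groth.Misc15.TorusDvr

variable {A : Type u} [CommRing A] (M : Over (Spec (CommRingCat.of A)))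

/-- the ring of functions -/
abbrev Ob : Type u := Γ(M.left, ⊤)

/-- its structure map -/
def strOb : A →+* Ob M :=
  ((Scheme.ΓSpecIso (CommRingCat.of A)).inv ≫ M.hom.appTop).hom

instance instAlgOb : Algebra A (Ob M) := (strOb M).toAlgebra

theorem isoSpec_inv_hom [IsAffine M.left] :
    M.left.isoSpec.inv ≫ M.hom = Spec.map (CommRingCat.ofHom (algebraMap A (Ob M))) := by
  rw [Iso.inv_comp_eq]
  show M.hom = _ ≫ Spec.map ((Scheme.ΓSpecIso (CommRingCat.of A)).inv ≫ M.hom.appTop)
  rw [Spec.map_comp, Scheme.isoSpec_hom, ← Scheme.toSpecΓ_naturality_assoc, toSpecΓ_SpecMap_ΓSpecIso_inv,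
    Category.comp_id]

/-- the universal point -/
def univ [IsAffine M.left] : Pt M (Ob M) := Over.homMk M.left.isoSpec.inv (isoSpec_inv_hom M)

variable {M}
variable [IsAffine M.left] {R : Type u} [CommRing R] [Algebra A R] {R' : Type u} [CommRing R'] [Algebra A R']

/-- the homomorphism of a point -/
def ptAlg (x : Pt M R) : Ob M →ₐ[A] R where
  toRingHom := ptHom x
  commutes' := by
    intro a
    have h : Spec.map (CommRingCat.ofHom ((ptHom x).comp (algebraMap A (Ob M)))) =
        Spec.map (CommRingCat.ofHom (algebraMap A R)) := by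
      have h1 : Spec.map (CommRingCat.ofHom (ptHom x)) ≫ M.left.isoSpec.inv = x.left := by
        rw [specMap_ptHom, Category.assoc, Iso.hom_inv_id, Category.comp_id]
      rw [CommRingCat.ofHom_comp, Spec.map_comp, ← isoSpec_inv_hom]
      exact ((Category.assoc _ _ _).symm.trans (congrArg (· ≫ M.hom) h1)).trans (Over.w x)
    exact RingHom.congr_fun (CommRingCat.hom_ext_iff.1 (Spec.map_injective h)) a

theorem pl_ptAlg (x : Pt M R) : pl (ptAlg x) (univ M) = x := by
  refine Over.OverMorphism.ext ?_
  show Spec.map (CommRingCat.ofHom (ptHom x)) ≫ M.left.isoSpec.inv = x.left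
  rw [specMap_ptHom, Category.assoc, Iso.hom_inv_id, Category.comp_id]

theorem ptHom_univ (o : Ob M) : ptHom (univ M) o = o := by
  have h : Spec.map (CommRingCat.ofHom (ptHom (univ M))) = Spec.map (CommRingCat.ofHom (RingHom.id (Ob M))) := by
    rw [specMap_ptHom]
    show M.left.isoSpec.inv ≫ M.left.isoSpec.hom = _
    rw [Iso.inv_hom_id]
    exact (Spec.map_id _).symm
  exact RingHom.congr_fun (CommRingCat.hom_ext_iff.1 (Spec.map_injective h)) o

theorem ptAlg_pl (f : R →ₐ[A] R') (x : Pt M R) : ptAlg (pl f x) = f.comp (ptAlg x) :=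
  AlgHom.ext fun o => RingHom.congr_fun (ptHom_pl f x) o

theorem ptAlg_pl_univ (f : Ob M →ₐ[A] R) : ptAlg (pl f (univ M)) = f := by
  rw [ptAlg_pl]
  exact AlgHom.ext fun o => congrArg f (ptHom_univ o)

theorem ptAlg_inj {x y : Pt M R} (h : ptAlg x = ptAlg y) : x = y := by
  rw [← pl_ptAlg x, h, pl_ptAlg]

section Chr

variable [GrpObj M] {B : Type u} [CommRing B] [Algebra A B] (τ : Triv M (sp (algebraMap A B)))

/-- the universal characters -/
def chr : Multiplicative τ.M →* B ⊗[A] Ob M :=
  ch τ (Algebra.TensorProduct.includeLeft : B →ₐ[A] B ⊗[A] Ob M)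
    (pl (Algebra.TensorProduct.includeRight : Ob M →ₐ[A] B ⊗[A] Ob M) (univ M))

/-- the map of a pair -/
def pairMap (β : B →ₐ[A] R) (f : Ob M →ₐ[A] R) : B ⊗[A] Ob M →ₐ[A] R :=
  Algebra.TensorProduct.lift β f fun _ _ => Commute.all _ _

omit [IsAffine M.left] [GrpObj M] in
@[simp] theorem pairMap_tmul (β : B →ₐ[A] R) (f : Ob M →ₐ[A] R) (b : B) (o : Ob M) :
    pairMap β f (b ⊗ₜ o) = β b * f o := rfl

theorem ch_eq_chr (β : B →ₐ[A] R) (x : Pt M R) (n : Multiplicative τ.M) :
    ch τ β x n = pairMap β (ptAlg x) (chr τ n) := by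
  have h1 : (pairMap β (ptAlg x)).comp (Algebra.TensorProduct.includeLeft : B →ₐ[A] B ⊗[A] Ob M) = β :=
    AlgHom.ext fun b => by simp
  have h2 : (pairMap β (ptAlg x)).comp (Algebra.TensorProduct.includeRight : Ob M →ₐ[A] B ⊗[A] Ob M) = ptAlg x :=
    AlgHom.ext fun o => by simp
  conv_lhs => rw [← pl_ptAlg x, ← h2, ← pl_pl, ← ch_congr τ h1, ch_pl]
  rfl

/-- the comorphism of the trivialisation -/
def coMap : MonoidAlgebra B (Multiplicative τ.M) →ₐ[B] B ⊗[A] Ob M :=
  MonoidAlgebra.lift B _ (Multiplicative τ.M) (chr τ)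

theorem coMap_single (n : Multiplicative τ.M) (b : B) :
    coMap τ (MonoidAlgebra.single n b) = (b ⊗ₜ 1) * chr τ n := by
  rw [coMap, MonoidAlgebra.lift_single, Algebra.smul_def]
  rfl

theorem coMap_bijective : Function.Bijective (coMap τ) := by
  let U := MonoidAlgebra B (Multiplicative τ.M)
  let βU : B →ₐ[A] U := IsScalarTower.toAlgHom A B U
  obtain ⟨x, hx⟩ := (ch τ βU).surjective (MonoidAlgebra.of B (Multiplicative τ.M))
  let g := pairMap βU (ptAlg x)
  let f : U →ₐ[A] B ⊗[A] Ob M := (coMap τ).restrictScalars A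
  have hfβ : f.comp βU = Algebra.TensorProduct.includeLeft := AlgHom.ext fun b => (coMap τ).commutes b
  have hgf : ∀ z, g (f z) = z := fun z => by
    induction z using MonoidAlgebra.induction_linear with
    | zero => rw [map_zero, map_zero]
    | add p q hp hq => rw [map_add, map_add, hp, hq]
    | single n b =>
      show g (coMap τ (MonoidAlgebra.single n b)) = _
      rw [coMap_single, map_mul, ← ch_eq_chr τ βU x n, hx, pairMap_tmul, map_one, _root_.mul_one]
      show MonoidAlgebra.single 1 b * MonoidAlgebra.single n 1 = _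
      rw [MonoidAlgebra.single_mul_single, _root_.one_mul, _root_.mul_one]
  have hxu : pl f x = pl (Algebra.TensorProduct.includeRight : Ob M →ₐ[A] B ⊗[A] Ob M) (univ M) := by
    refine (ch τ (Algebra.TensorProduct.includeLeft : B →ₐ[A] B ⊗[A] Ob M)).injective (MonoidHom.ext fun n => ?_)
    conv_lhs => rw [← ch_congr τ hfβ, ch_pl, hx]
    show coMap τ (MonoidAlgebra.single n 1) = _
    rw [coMap_single]
    show (1 : B ⊗[A] Ob M) * _ = _
    rw [_root_.one_mul]
    rfl
  have hfg : f.comp g = AlgHom.id A _ := by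
    refine Algebra.TensorProduct.ext (AlgHom.ext fun b => ?_) (AlgHom.ext fun o => ?_)
    · show f (g (b ⊗ₜ 1)) = b ⊗ₜ 1
      rw [pairMap_tmul, map_one, _root_.mul_one]
      exact AlgHom.congr_fun hfβ b
    · show f (g (1 ⊗ₜ o)) = 1 ⊗ₜ o
      rw [pairMap_tmul, map_one, _root_.one_mul]
      have := AlgHom.congr_fun ((ptAlg_pl f x).symm.trans ((congrArg ptAlg hxu).trans (ptAlg_pl_univ _))) o
      exact this
  exact ⟨Function.LeftInverse.injective hgf, fun z => ⟨g z, AlgHom.congr_fun hfg z⟩⟩

theorem chr_injective [Nontrivial B] : Function.Injective (chr τ) := fun m m' h => by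
  have h1 : coMap τ (MonoidAlgebra.single m 1) = coMap τ (MonoidAlgebra.single m' 1) := by
    rw [coMap_single, coMap_single, h]
  exact MonoidAlgebra.of_injective ((coMap_bijective τ).1 h1)

end Chr

end Groth.Misc15.SemilocInj
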