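import Groth.Agent.Misc15.SemilocInj.ValPrincipal
import Groth.Agent.Misc15.SemilocInj.Fixed
import Groth.Agent.Misc15.SemilocInj.Lattice
import Groth.Agent.Misc15.MultH1.Ring
import Mathlib.GroupTheory.Finiteness
import Mathlib.GroupTheory.GroupAction.Quotient

/-!
Equivariant scalars with the sizes of a descent datum, over an étale algebra over a valuation ring.
-/

set_option autoImplicit false
set_option linter.style.haveILetI false
set_option synthInstance.maxHeartbeats 200000

universe u v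

open TensorProduct
open scoped Pointwise

noncomputable section

namespace Groth.Misc15.SemilocInj

variable {V E : Type u} [CommRing V] [IsDomain V] [ValuationRing V] [Field E] [Algebra (FractionRing V) E]
  [Algebra V E] [IsScalarTower V (FractionRing V) E]

/-- the value group, additively -/
abbrev Val (V : Type u) [CommRing V] [IsDomain V] : Type u :=
  Additive (ValuationRing.ValueGroup V (FractionRing V))ˣ

/-- the negated valuation of a scalar -/
def nv (k : (FractionRing V)ˣ) : Val V :=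
  -Additive.ofMul (Units.map (ValuationRing.valuation V (FractionRing V) : FractionRing V →* _) k)

omit [Algebra (FractionRing V) E] [Algebra V E] [IsScalarTower V (FractionRing V) E] in
theorem nv_mul (k k' : (FractionRing V)ˣ) : nv (k * k') = nv k + nv k' := by
  rw [nv, nv, nv, map_mul, ofMul_mul, neg_add]

omit [Algebra (FractionRing V) E] [Algebra V E] [IsScalarTower V (FractionRing V) E] in
theorem nv_inv (k : (FractionRing V)ˣ) : nv k⁻¹ = -nv k := by
  rw [nv, nv, map_inv, ofMul_inv]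

omit [Algebra (FractionRing V) E] [Algebra V E] [IsScalarTower V (FractionRing V) E] in
theorem nv_surjective : Function.Surjective (nv (V := V)) := fun a => by
  obtain ⟨k, hk⟩ := Quotient.mk''_surjective (((Additive.toMul (-a)) : (ValuationRing.ValueGroup V (FractionRing V))ˣ) :
    ValuationRing.ValueGroup V (FractionRing V))
  have hk' : ValuationRing.valuation V (FractionRing V) k =
      ((Additive.toMul (-a) : (ValuationRing.ValueGroup V (FractionRing V))ˣ) : ValuationRing.ValueGroup V (FractionRing V)) := hk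
  have hk0 : k ≠ 0 := fun e => (Additive.toMul (-a)).ne_zero (by rw [← hk', e, map_zero])
  refine ⟨Units.mk0 k hk0, ?_⟩
  rw [nv, show Units.map (ValuationRing.valuation V (FractionRing V) : FractionRing V →* _) (Units.mk0 k hk0) =
    Additive.toMul (-a) from Units.ext hk', ofMul_toMul, neg_neg]

omit [Algebra (FractionRing V) E] [Algebra V E] [IsScalarTower V (FractionRing V) E] in
theorem nv_nonneg_iff (k : (FractionRing V)ˣ) :
    0 ≤ nv k ↔ ∃ a : V, algebraMap V (FractionRing V) a = k := by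
  rw [← ValuationRing.mem_integer_iff, nv, neg_nonneg]
  exact Iff.rfl

variable {B : Subalgebra V E}

/-- scalars in the extension -/
abbrev kE (k : (FractionRing V)ˣ) : E := algebraMap (FractionRing V) E k

theorem kE_ne_zero (k : (FractionRing V)ˣ) : (kE k : E) ≠ 0 := by
  rw [kE, Ne, map_eq_zero]
  exact k.ne_zero

/-- A scalar is integral at a maximal ideal exactly when it is integral. -/
theorem inW_kE_iff [Module.Finite V B] (q : Ideal B) [q.IsMaximal] (k : (FractionRing V)ˣ) :
    InW B q (kE k) ↔ 0 ≤ nv k := by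
  rw [nv_nonneg_iff]
  constructor
  · intro h
    rcases ValuationRing.isInteger_or_isInteger V (k : FractionRing V) with ⟨a, ha⟩ | ⟨a, ha⟩
    · exact ⟨a, ha⟩
    · haveI : Algebra.IsIntegral V B := Algebra.IsIntegral.of_finite V B
      have hq : q.comap (algebraMap V B) = IsLocalRing.maximalIdeal V :=
        IsLocalRing.eq_maximalIdeal (Ideal.isMaximal_comap_of_isIntegral_of_isMaximal q)
      obtain ⟨s, hs, hsk⟩ := h
      by_cases hu : IsUnit a
      · obtain ⟨w, rfl⟩ := hu
        exact ⟨↑w⁻¹, by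
          have h1 : algebraMap V (FractionRing V) (↑w⁻¹ : V) * algebraMap V (FractionRing V) (w : V) = 1 := by
            rw [← map_mul, Units.inv_mul, map_one]
          rw [ha] at h1
          exact (mul_inv_eq_one₀ k.ne_zero).1 h1⟩
      · refine absurd ?_ hs
        have h1 : algebraMap V B a ∈ q := by
          rw [← Ideal.mem_comap, hq]
          exact hu
        have h2 : s = ⟨_, hsk⟩ * algebraMap V B a := Subtype.ext (by
          show (s : E) = (s : E) * kE k * algebraMap V E a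
          rw [IsScalarTower.algebraMap_apply V (FractionRing V) E, ha, kE, map_inv₀,
            mul_assoc, mul_inv_cancel₀ (kE_ne_zero k), mul_one])
        rw [h2]
        exact q.mul_mem_left _ h1
  · rintro ⟨a, ha⟩
    refine inW_of_mem ?_
    rw [kE, ← ha, ← IsScalarTower.algebraMap_apply]
    exact B.algebraMap_mem a

section Size

variable [Algebra.Etale V B] [Module.Finite V B] (hfrac : ∀ x : E, ∃ s b : B, s ≠ 0 ∧ x * s = b)

/-- the size at a maximal ideal -/
def size (m : MaximalSpectrum B) (x : Eˣ) : Val V :=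
  haveI := m.isMaximal
  nv (exists_scale hfrac m.asIdeal x).choose

theorem size_eq (m : MaximalSpectrum B) {x : Eˣ} {k : (FractionRing V)ˣ}
    (h₁ : InW B m.asIdeal ((x : E) * (kE k)⁻¹)) (h₂ : InW B m.asIdeal (kE k * (x : E)⁻¹)) :
    size hfrac m x = nv k := by
  haveI := m.isMaximal
  obtain ⟨g₁, g₂⟩ := (exists_scale hfrac m.asIdeal x).choose_spec
  set k₀ := (exists_scale hfrac m.asIdeal x).choose
  show nv k₀ = nv k
  have hx := x.ne_zero
  have key : ∀ k k' : (FractionRing V)ˣ, InW B m.asIdeal ((x : E) * (kE k)⁻¹) →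
      InW B m.asIdeal (kE k' * (x : E)⁻¹) → 0 ≤ nv (k' * k⁻¹) := fun k k' h h' => by
    refine (inW_kE_iff m.asIdeal _).1 ?_
    have := h'.mul h
    rwa [mul_assoc, inv_mul_cancel_left₀ hx, show (kE k' : E) * (kE k)⁻¹ = kE (k' * k⁻¹) by
      simp [kE, map_mul]] at this
  have h := key k₀ k g₁ h₂
  have h' := key k k₀ h₁ g₂
  rw [nv_mul, nv_inv, ← sub_eq_add_neg, sub_nonneg] at h h'
  exact le_antisymm h h'

theorem size_spec (m : MaximalSpectrum B) (x : Eˣ) : ∃ k, size hfrac m x = nv k ∧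
    InW B m.asIdeal ((x : E) * (kE k)⁻¹) ∧ InW B m.asIdeal (kE k * (x : E)⁻¹) :=
  haveI := m.isMaximal
  ⟨_, rfl, (exists_scale hfrac m.asIdeal x).choose_spec⟩

theorem size_mul (m : MaximalSpectrum B) (x y : Eˣ) : size hfrac m (x * y) = size hfrac m x + size hfrac m y := by
  haveI := m.isMaximal
  obtain ⟨k, hk, h1, h2⟩ := size_spec hfrac m x
  obtain ⟨k', hk', h1', h2'⟩ := size_spec hfrac m y
  rw [hk, hk', ← nv_mul]
  refine size_eq hfrac m ?_ ?_
  · convert h1.mul h1' using 1
    simp [kE, mul_inv]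
    ring
  · convert h2.mul h2' using 1
    simp [kE, mul_inv]
    ring

theorem size_one (m : MaximalSpectrum B) : size hfrac m 1 = 0 := by
  have := size_mul hfrac m 1 1
  rwa [one_mul, left_eq_add] at this

theorem size_inv (m : MaximalSpectrum B) (x : Eˣ) : size hfrac m x⁻¹ = -size hfrac m x := by
  rw [eq_neg_iff_add_eq_zero, ← size_mul, inv_mul_cancel, size_one]

theorem size_nonneg_iff (m : MaximalSpectrum B) (x : Eˣ) : 0 ≤ size hfrac m x ↔ InW B m.asIdeal (x : E) := by
  haveI := m.isMaximal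
  obtain ⟨k, hk, h1, h2⟩ := size_spec hfrac m x
  rw [hk, ← inW_kE_iff m.asIdeal k]
  constructor
  · intro h
    have := h1.mul h
    rwa [mul_assoc, inv_mul_cancel₀ (kE_ne_zero k), mul_one] at this
  · intro h
    have := h2.mul h
    rwa [mul_assoc, inv_mul_cancel₀ x.ne_zero, mul_one] at this

theorem mem_of_size_nonneg (x : Eˣ) (h : ∀ m, 0 ≤ size hfrac m x) : (x : E) ∈ B :=
  mem_of_inW fun q hq => (size_nonneg_iff hfrac ⟨q, hq⟩ x).1 (h _)

theorem size_const (k : (FractionRing V)ˣ) (m : MaximalSpectrum B) :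
    size hfrac m (Units.map (algebraMap (FractionRing V) E : FractionRing V →* E) k) = nv k := by
  haveI := m.isMaximal
  refine size_eq hfrac m ?_ ?_ <;>
  · rw [Units.coe_map, MonoidHom.coe_coe, mul_inv_cancel₀ (kE_ne_zero k)]
    exact inW_of_mem B.one_mem

theorem size_eq_zero_of_mem {x : Eˣ} (h : (x : E) ∈ B) (h' : ((x⁻¹ : Eˣ) : E) ∈ B) (m : MaximalSpectrum B) :
    size hfrac m x = 0 := by
  haveI := m.isMaximal
  refine le_antisymm ?_ ((size_nonneg_iff hfrac m x).2 (inW_of_mem h))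
  have := (size_nonneg_iff hfrac m x⁻¹).2 (inW_of_mem h')
  rwa [size_inv, neg_nonneg] at this

theorem exists_inf [Finite (MaximalSpectrum B)] (x y : Eˣ) :
    ∃ z : Eˣ, ∀ m, size hfrac m z = size hfrac m x ⊓ size hfrac m y := by
  have hval : ∀ q : Ideal B, q.IsMaximal → ∀ e, InW B q e ∨ InW B q e⁻¹ := fun q hq e => by
    haveI := hq
    by_cases he : e = 0
    · exact Or.inl (inW_of_mem (he ▸ B.zero_mem))
    rcases le_total (0 : Val V) (size hfrac ⟨q, hq⟩ (Units.mk0 e he)) with h | h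
    · exact Or.inl ((size_nonneg_iff hfrac ⟨q, hq⟩ _).1 h)
    · have h2 := (size_nonneg_iff hfrac ⟨q, hq⟩ (Units.mk0 e he)⁻¹).1 (by
        rw [size_inv, neg_nonneg]; exact h)
      rw [Units.val_inv_eq_inv_val] at h2
      exact Or.inr h2
  obtain ⟨z, a, hz, hsum, hdiv⟩ := exists_principal hval ![(x : E), (y : E)] ⟨0, by simp⟩
  refine ⟨Units.mk0 z hz, fun m => ?_⟩
  haveI := m.isMaximal
  have hle : ∀ w : Eˣ, (w : E) * z⁻¹ ∈ B → size hfrac m (Units.mk0 z hz) ≤ size hfrac m w := fun w hw => by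
    have := (size_nonneg_iff hfrac m (w * (Units.mk0 z hz)⁻¹)).2 (inW_of_mem (by simpa using hw))
    rwa [size_mul, size_inv, ← sub_eq_add_neg, sub_nonneg] at this
  refine le_antisymm (le_inf (hle x (hdiv 0)) (hle y (hdiv 1))) ?_
  rw [Fin.sum_univ_two] at hsum
  simp only [Matrix.cons_val_zero, Matrix.cons_val_one] at hsum
  have key : ∀ (u v : Eˣ) (c d : B), z = (c : E) * u + (d : E) * v → size hfrac m u ≤ size hfrac m v →
      size hfrac m u ≤ size hfrac m (Units.mk0 z hz) := fun u v c d e h => by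
    have h1 : InW B m.asIdeal ((v : E) * (u : E)⁻¹) := by
      have := (size_nonneg_iff hfrac m (v * u⁻¹)).1 (by rw [size_mul, size_inv, ← sub_eq_add_neg]; exact sub_nonneg.2 h)
      simpa using this
    have h2 : InW B m.asIdeal (z * (u : E)⁻¹) := by
      rw [e, add_mul, mul_assoc, mul_inv_cancel₀ u.ne_zero, mul_one, mul_assoc]
      exact (inW_of_mem c.2).add ((inW_of_mem d.2).mul h1)
    have := (size_nonneg_iff hfrac m (Units.mk0 z hz * u⁻¹)).2 (by simpa using h2)
    rwa [size_mul, size_inv, ← sub_eq_add_neg, sub_nonneg] at this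
  rcases le_total (size hfrac m x) (size hfrac m y) with h | h
  · rw [inf_eq_left.2 h]; exact key x y (a 0) (a 1) hsum h
  · rw [inf_eq_right.2 h]; exact key y x (a 1) (a 0) (by rw [hsum, add_comm]) h

end Size

variable {C : Type u} [CommRing C] [Algebra V C] [Module.FaithfullyFlat V C]

/-- Equivariant scalars with the sizes of the descent datum. -/
theorem exists_equivariant_div_val [Algebra.Etale V B] [Module.Finite V B]
    (hfrac : ∀ x : E, ∃ s b : B, s ≠ 0 ∧ x * s = b) {G : Type u} [Group G] [Finite G]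
    (ρ : G →* (E ≃ₐ[V] E)) (hρ : Function.Injective ρ) (hst : ∀ g, ∀ x ∈ B, ρ g x ∈ B)
    (hK : ∀ g (k : FractionRing V), ρ g (algebraMap (FractionRing V) E k) = algebraMap (FractionRing V) E k)
    {N : Type v} [CommGroup N] [Group.FG N] (θ : G → N → N) (c : N →* (E ⊗[V] C)ˣ)
    (hθ : ∀ g n, (c (θ g n) : E ⊗[V] C) =
      Algebra.TensorProduct.map (ρ g : E →ₐ[V] E) (AlgHom.id V C) (c n))
    (hc : ∀ n, HasUnitCocycle B (c n : E ⊗[V] C)) :
    ∃ μ : N →* Eˣ, (∀ g n, (μ (θ g n) : E) = ρ g (μ n)) ∧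
      ∀ n, ((c n * (jE C (μ n))⁻¹ : (E ⊗[V] C)ˣ) : E ⊗[V] C) ∈ (incl B C).range := by
  classical
  haveI : Finite (MaximalSpectrum V) :=
    Finite.of_injective (fun _ : MaximalSpectrum V => ()) fun p q _ => MaximalSpectrum.ext
      ((IsLocalRing.eq_maximalIdeal p.isMaximal).trans (IsLocalRing.eq_maximalIdeal q.isMaximal).symm)
  haveI : Finite (MaximalSpectrum B) := Groth.Misc15.MultH1.finite_maximalSpectrum V B
  haveI := Fintype.ofFinite (MaximalSpectrum B)
  haveI := Fintype.ofFinite G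
  letI act : MulSemiringAction G B :=
    { smul := fun g x => ⟨ρ g x.1, hst g _ x.2⟩
      one_smul := fun x => Subtype.ext (by show ρ 1 x.1 = x.1; rw [map_one]; rfl)
      mul_smul := fun g h x => Subtype.ext (by show ρ (g * h) x.1 = ρ g (ρ h x.1); rw [map_mul]; rfl)
      smul_zero := fun g => Subtype.ext (map_zero _)
      smul_add := fun g x y => Subtype.ext (map_add _ _ _)
      smul_one := fun g => Subtype.ext (map_one _)
      smul_mul := fun g x y => Subtype.ext (map_mul _ _ _) }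
  have hcoe : ∀ (g : G) (x : B), ((g • x : B) : E) = ρ g x := fun g x => rfl
  haveI : SMulCommClass G V B := ⟨fun g a x => Subtype.ext (map_smul (ρ g) a x.1)⟩
  haveI hf : FaithfulSMul G B := ⟨fun {g g'} h => hρ (AlgEquiv.ext fun x => by
    obtain ⟨s, b, hs, hb⟩ := hfrac x
    have h1 : ρ g x * ρ g s = ρ g' x * ρ g s := by
      rw [← map_mul, hb]
      conv_rhs => rw [show ρ g (s : E) = ρ g' s from congrArg Subtype.val (h s), ← map_mul, hb]
      exact congrArg Subtype.val (h b)
    exact mul_right_cancel₀ ((map_ne_zero (ρ g)).2 fun e => hs (Subtype.ext e)) h1)⟩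
  letI actM : MulAction G (MaximalSpectrum B) :=
    { smul := fun g m => ⟨g • m.asIdeal, by
        rw [Ideal.pointwise_smul_eq_comap]
        haveI := m.isMaximal
        exact Ideal.comap_isMaximal_of_surjective (K := m.asIdeal) _
          (MulSemiringAction.toRingEquiv G B g⁻¹).surjective⟩
      one_smul := fun m => MaximalSpectrum.ext (one_smul G m.asIdeal)
      mul_smul := fun g h m => MaximalSpectrum.ext (mul_smul g h m.asIdeal) }
  have hsm : ∀ (g : G) (m : MaximalSpectrum B), (g • m).asIdeal = g • m.asIdeal := fun g m => rfl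
  -- the vector of sizes
  let w : Eˣ → MaximalSpectrum B → Val V := fun x m => size hfrac m x
  have hwmul : ∀ x y, w (x * y) = w x + w y := fun x y => funext fun m => size_mul hfrac m x y
  have hwone : w 1 = 0 := funext fun m => size_one hfrac m
  have hwinv : ∀ x, w x⁻¹ = -w x := fun x => funext fun m => size_inv hfrac m x
  let gU : G → Eˣ →* Eˣ := fun g => Units.map ((ρ g : E →ₐ[V] E) : E →* E)
  have hwg : ∀ g x m, w (gU g x) (g • m) = w x m := fun g x m => by
    obtain ⟨k, hk, h1, h2⟩ := size_spec hfrac m x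
    show size hfrac (g • m) (gU g x) = size hfrac m x
    rw [hk]
    have htr : ∀ e, InW B m.asIdeal e → InW B (g • m).asIdeal (ρ g e) := by
      rintro e ⟨s, hs, hse⟩
      refine ⟨g • s, fun h => hs (Ideal.smul_mem_pointwise_smul_iff.1 h), ?_⟩
      rw [hcoe, ← map_mul]
      exact hst g _ hse
    refine size_eq hfrac (g • m) ?_ ?_
    · have := htr _ h1
      rwa [map_mul, map_inv₀, hK] at this
    · have := htr _ h2
      rwa [map_mul, map_inv₀, hK] at this
  let D : Submodule ℤ (MaximalSpectrum B → Val V) := AddSubgroup.toIntSubmodule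
    { carrier := Set.range w
      add_mem' := by rintro _ _ ⟨x, rfl⟩ ⟨y, rfl⟩; exact ⟨x * y, hwmul x y⟩
      zero_mem' := ⟨1, hwone⟩
      neg_mem' := by rintro _ ⟨x, rfl⟩; exact ⟨x⁻¹, hwinv x⟩ }
  have hD : ∀ f, f ∈ D ↔ ∃ x, w x = f := fun f => Iff.rfl
  have hsup : ∀ f ∈ D, ∀ f' ∈ D, f ⊔ f' ∈ D := by
    intro f hf f' hf'
    obtain ⟨x, rfl⟩ := (hD f).1 hf
    obtain ⟨y, rfl⟩ := (hD f').1 hf'
    obtain ⟨z, hz⟩ := exists_inf hfrac x⁻¹ y⁻¹
    refine (hD _).2 ⟨z⁻¹, funext fun m => ?_⟩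
    show size hfrac m z⁻¹ = size hfrac m x ⊔ size hfrac m y
    rw [size_inv, hz, size_inv, size_inv, neg_inf, neg_neg, neg_neg]
  have hconst : ∀ a : Val V, (fun _ => a) ∈ D := fun a => by
    obtain ⟨k, rfl⟩ := nv_surjective a
    exact (hD _).2 ⟨_, funext fun m => size_const hfrac k m⟩
  have hDst : ∀ g : G, ∀ f ∈ D, (fun m => f (g • m)) ∈ D := fun g f hf => by
    obtain ⟨x, rfl⟩ := (hD f).1 hf
    refine (hD _).2 ⟨gU g⁻¹ x, funext fun m => ?_⟩
    conv_lhs => rw [← inv_smul_smul g m]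
    rw [hwg]
  -- the sizes of the descent datum
  have hval : ∀ q : Ideal B, q.IsMaximal → ∀ e, InW B q e ∨ InW B q e⁻¹ := fun q hq e => by
    by_cases he : e = 0
    · haveI := hq
      exact Or.inl (inW_of_mem (he ▸ B.zero_mem))
    rcases le_total (0 : Val V) (size hfrac ⟨q, hq⟩ (Units.mk0 e he)) with h | h
    · exact Or.inl ((size_nonneg_iff hfrac ⟨q, hq⟩ _).1 h)
    · have h2 := (size_nonneg_iff hfrac ⟨q, hq⟩ (Units.mk0 e he)⁻¹).1 (by
        rw [size_inv, neg_nonneg]; exact h)
      rw [Units.val_inv_eq_inv_val] at h2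
      exact Or.inr h2
  choose X hX using fun n => exists_scalar hval (c n) (hc n)
  let U : Subgroup (E ⊗[V] C)ˣ :=
    { carrier := {z | (z : E ⊗[V] C) ∈ (incl B C).range ∧ ((z⁻¹ : (E ⊗[V] C)ˣ) : E ⊗[V] C) ∈ (incl B C).range}
      one_mem' := ⟨one_mem _, by rw [inv_one]; exact one_mem _⟩
      mul_mem' := fun {a b} ha hb => ⟨mul_mem ha.1 hb.1, by rw [mul_inv, Units.val_mul]; exact mul_mem ha.2 hb.2⟩
      inv_mem' := fun {a} ha => ⟨ha.2, by rw [inv_inv]; exact ha.1⟩ }
  have hU : ∀ x, jE (A := V) C x ∈ U → w x = 0 := fun x h => funext fun m =>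
    size_eq_zero_of_mem hfrac (mem_of_tmul_mem_range (C := C) h.1)
      (mem_of_tmul_mem_range (C := C) (by have h' := h.2; rw [← map_inv] at h'; exact h')) m
  have huniq : ∀ n x, c n * (jE C x)⁻¹ ∈ U → w x = w (X n) := fun n x h => by
    have h1 := U.mul_mem (U.inv_mem h) (show c n * (jE C (X n))⁻¹ ∈ U from hX n)
    rw [mul_inv_rev, inv_inv, mul_assoc, inv_mul_cancel_left, ← map_inv, ← map_mul] at h1
    have h2 := hU _ h1
    rw [hwmul, hwinv] at h2
    exact (add_neg_eq_zero.1 h2)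
  let dd : N → MaximalSpectrum B → Val V := fun n => w (X n)
  have hddmul : ∀ n n', dd (n * n') = dd n + dd n' := fun n n' => by
    rw [← hwmul]
    refine (huniq _ _ ?_).symm
    have := U.mul_mem (show c n * (jE C (X n))⁻¹ ∈ U from hX n) (show c n' * (jE C (X n'))⁻¹ ∈ U from hX n')
    rwa [mul_mul_mul_comm, ← map_mul, ← mul_inv, ← map_mul] at this
  let gC : G → E ⊗[V] C →ₐ[V] E ⊗[V] C := fun g =>
    Algebra.TensorProduct.map (ρ g : E →ₐ[V] E) (AlgHom.id V C)
  let gB : G → B →ₐ[V] B := fun g => MulSemiringAction.toAlgHom V B g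
  have hgincl : ∀ g v, gC g (incl B C v) = incl B C (Algebra.TensorProduct.map (gB g) (AlgHom.id V C) v) :=
    fun g v => by
      induction v using TensorProduct.induction_on with
      | zero => simp
      | add a b ha hb => simp only [map_add, ha, hb]
      | tmul x z => simp [gC, gB, incl, hcoe]
  have hddeq : ∀ g n m, dd (θ g n) (g • m) = dd n m := fun g n m => by
    rw [show dd (θ g n) = w (gU g (X n)) from ((huniq _ _ ?_).symm)]
    · exact hwg g (X n) m
    let gCU : (E ⊗[V] C)ˣ →* (E ⊗[V] C)ˣ := Units.map (gC g : E ⊗[V] C →* E ⊗[V] C)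
    have e0 : c (θ g n) = gCU (c n) := Units.ext (hθ g n)
    have e1 : jE C (gU g (X n)) = gCU (jE C (X n)) := Units.ext (by
      show (ρ g (X n : E)) ⊗ₜ[V] (1 : C) = gC g ((X n : E) ⊗ₜ[V] 1)
      simp [gC])
    rw [e0, e1, ← map_inv, ← map_mul]
    obtain ⟨⟨v₁, h1⟩, ⟨v₂, h2⟩⟩ := hX n
    refine ⟨⟨_, (hgincl g v₁).symm.trans (congrArg (gC g) h1)⟩, ?_⟩
    rw [← map_inv]
    exact ⟨_, (hgincl g v₂).symm.trans (congrArg (gC g) h2)⟩
  -- the permuted basis
  obtain ⟨T, hT⟩ := Group.fg_def.1 (inferInstance : Group.FG N)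
  obtain ⟨J, hJ, hJst, hJind, hJspan⟩ := exists_perm_basis (G := G) D hsup hconst hDst (T.image dd) (by
    intro f hf
    obtain ⟨t, -, rfl⟩ := Finset.mem_image.1 hf
    exact (hD _).2 ⟨_, rfl⟩)
  have hcoef : ∀ n, ∃ k : (MaximalSpectrum B → Val V) → ℤ, dd n = ∑ f ∈ J, k f • f := fun n => by
    have hn : n ∈ Subgroup.closure (T : Set N) := hT.symm ▸ Subgroup.mem_top n
    induction hn using Subgroup.closure_induction with
    | mem t ht => exact hJspan _ (Finset.mem_image_of_mem dd ht)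
    | one =>
      refine ⟨0, ?_⟩
      have := hddmul 1 1
      rw [one_mul, left_eq_add] at this
      simp [this]
    | mul a b _ _ ha hb =>
      obtain ⟨k, hk⟩ := ha
      obtain ⟨k', hk'⟩ := hb
      exact ⟨k + k', by simp [hddmul, hk, hk', add_smul, Finset.sum_add_distrib]⟩
    | inv a _ ha =>
      obtain ⟨k, hk⟩ := ha
      refine ⟨-k, ?_⟩
      have := hddmul a a⁻¹
      rw [mul_inv_cancel] at this
      have h1 := hddmul 1 1
      rw [one_mul, left_eq_add] at h1
      rw [h1, eq_comm, add_eq_zero_iff_neg_eq] at this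
      rw [← this, hk]
      simp
  choose k hk using hcoef
  have hsame : ∀ (p p' : (MaximalSpectrum B → Val V) → ℤ), ∑ f ∈ J, p f • f = ∑ f ∈ J, p' f • f →
      ∀ f ∈ J, p f = p' f := fun p p' h f hf => sub_eq_zero.1 (hJind (p - p') (by
    simp [sub_smul, Finset.sum_sub_distrib, h]) f hf)
  -- permutation of the basis
  let Q := {f // f ∈ J}
  letI actQ : MulAction G Q :=
    { smul := fun g f => ⟨fun m => f.1 (g⁻¹ • m), hJst g⁻¹ _ f.2⟩
      one_smul := fun f => Subtype.ext (funext fun m => by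
        show f.1 ((1 : G)⁻¹ • m) = f.1 m
        rw [inv_one, one_smul])
      mul_smul := fun g h f => Subtype.ext (funext fun m => by
        show f.1 ((g * h)⁻¹ • m) = f.1 (h⁻¹ • g⁻¹ • m)
        rw [mul_inv_rev, mul_smul]) }
  have hQ : ∀ (g : G) (f : Q) m, (g • f : Q).1 m = f.1 (g⁻¹ • m) := fun g f m => rfl
  have hlift : ∀ f : Q, ∃ x : Eˣ, w x = f.1 := fun f => (hD _).1 (hJ _ f.2).1
  choose x₀ hx₀ using hlift
  have hx₀B : ∀ f : Q, (x₀ f : E) ∈ B := fun f => mem_of_size_nonneg hfrac _ fun m => by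
    show 0 ≤ w (x₀ f) m
    rw [hx₀]
    exact (hJ _ f.2).2 m
  let b₀ : Q → B := fun f => ⟨x₀ f, hx₀B f⟩
  have hfix : ∀ f : Q, ∃ x : Eˣ, w x = f.1 ∧ ∀ g : G, g • f = f → gU g x = x := fun f => by
    let H := MulAction.stabilizer G f
    haveI : FaithfulSMul H B := ⟨fun {g g'} h => Subtype.ext (hf.eq_of_smul_eq_smul h)⟩
    haveI : SMulCommClass H V B := ⟨fun g a x => smul_comm g.1 a x⟩
    have hb₀ : b₀ f ≠ 0 := fun e => (x₀ f).ne_zero (congrArg Subtype.val e)
    obtain ⟨b, hb, hbfix⟩ := exists_fixed_gen (A := V) (G := H) hb₀ (fun g => by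
      let x' := gU g.1 (x₀ f)
      have h1 : w x' = w (x₀ f) := funext fun m => by
        rw [← smul_inv_smul g.1 m, hwg, hx₀, ← hQ, show g.1 • f = f from g.2, smul_inv_smul]
      have h2 : ∀ y y' : Eˣ, w y = w y' → (y : E) * ((y'⁻¹ : Eˣ) : E) ∈ B := fun y y' h => by
        rw [← Units.val_mul]
        refine mem_of_size_nonneg hfrac _ fun m => ?_
        show 0 ≤ w (y * y'⁻¹) m
        rw [hwmul, hwinv, h, add_neg_cancel]
        exact le_rfl
      show (g.1 : G) • Ideal.span {b₀ f} = Ideal.span {b₀ f}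
      rw [Ideal.smul_closure, Set.smul_set_singleton]
      refine le_antisymm (Ideal.span_singleton_le_span_singleton.2 ⟨⟨_, h2 x' (x₀ f) h1⟩, Subtype.ext ?_⟩)
        (Ideal.span_singleton_le_span_singleton.2 ⟨⟨_, h2 (x₀ f) x' h1.symm⟩, Subtype.ext ?_⟩)
      · show (x' : E) = (x₀ f : E) * ((x' : E) * ((x₀ f)⁻¹ : Eˣ))
        rw [mul_left_comm, Units.mul_inv, mul_one]
      · show (x₀ f : E) = (x' : E) * ((x₀ f : E) * (x'⁻¹ : Eˣ))
        rw [mul_left_comm, Units.mul_inv, mul_one])
    obtain ⟨u, hu⟩ := Ideal.span_singleton_eq_span_singleton.1 hb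
    have hb0 : (b : E) ≠ 0 := fun e => hb₀ (by
      rw [← hu, show b = 0 from Subtype.ext e, zero_mul])
    refine ⟨Units.mk0 _ hb0, ?_, fun g hg => Units.ext (congrArg Subtype.val (hbfix ⟨g, hg⟩))⟩
    have hw0 : w (Units.map (B.val : B →* E) u) = 0 :=
      funext fun m => size_eq_zero_of_mem hfrac u.1.2 (by rw [← map_inv]; exact (u⁻¹).1.2) m
    rw [← hx₀ f, ← add_zero (w (Units.mk0 _ hb0)), ← hw0, ← hwmul]
    congr 1
    exact Units.ext (congrArg Subtype.val hu)
  choose b hb hbfix using hfix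
  let rep : Q → Q := fun q => (Quotient.mk (MulAction.orbitRel G Q) q).out
  have hrep : ∀ q, ∃ g : G, g • rep q = q := fun q =>
    MulAction.mem_orbit_iff.1 (MulAction.mem_orbit_symm.1 (MulAction.orbitRel_apply.1
      (Quotient.mk_out (s := MulAction.orbitRel G Q) q)))
  choose wg hw' using hrep
  let β : Q → Eˣ := fun q => gU (wg q) (b (rep q))
  have hgUmul : ∀ g h x, gU (g * h) x = gU g (gU h x) := fun g h x => Units.ext (by
    show ρ (g * h) (x : E) = ρ g (ρ h (x : E))
    rw [map_mul]; rfl)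
  have hβ : ∀ q : Q, w (β q) = q.1 := fun q => funext fun m => by
    show w (gU (wg q) (b (rep q))) m = _
    rw [← smul_inv_smul (wg q) m, hwg, hb, ← hQ, hw' q, smul_inv_smul]
  have hβeq : ∀ (g : G) q, β (g • q) = gU g (β q) := fun g q => by
    have hr : rep (g • q) = rep q := congrArg Quotient.out
      (Quotient.sound (MulAction.mem_orbit q g) : Quotient.mk (MulAction.orbitRel G Q) (g • q) = Quotient.mk _ q)
    show gU (wg (g • q)) (b (rep (g • q))) = gU g (gU (wg q) (b (rep q)))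
    have h := hw' (g • q)
    rw [hr] at h ⊢
    have h2 : ((g * wg q)⁻¹ * wg (g • q)) • rep q = rep q := by
      rw [mul_smul, h, inv_smul_eq_iff, mul_smul, hw' q]
    have := congrArg (gU (g * wg q)) (hbfix (rep q) _ h2)
    rw [← hgUmul, mul_inv_cancel_left] at this
    rw [this, hgUmul]
  -- the element
  let μ₀ : N → Eˣ := fun n => ∏ q : Q, β q ^ k n q.1
  have hμmul : ∀ n n', μ₀ (n * n') = μ₀ n * μ₀ n' := fun n n' => by
    simp only [μ₀, ← Finset.prod_mul_distrib, ← zpow_add]
    refine Finset.prod_congr rfl fun q _ => congrArg (β q ^ ·) ?_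
    exact hsame (k (n * n')) (k n + k n') (by
      rw [← hk, hddmul, hk, hk]
      simp [add_smul, Finset.sum_add_distrib]) q.1 q.2
  let μ : N →* Eˣ := MonoidHom.mk' μ₀ hμmul
  have hwprod : ∀ (e : Q → ℤ), w (∏ q : Q, β q ^ e q) = ∑ q : Q, e q • q.1 := fun e => by
    let W : Eˣ →* Multiplicative (MaximalSpectrum B → Val V) := MonoidHom.mk' (fun x => Multiplicative.ofAdd (w x))
      fun x y => by rw [hwmul]; rfl
    show Multiplicative.toAdd (W _) = _
    rw [map_prod, toAdd_prod]
    refine Finset.sum_congr rfl fun q _ => ?_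
    rw [map_zpow, toAdd_zpow]
    show e q • w (β q) = _
    rw [hβ]
  refine ⟨μ, fun g n => ?_, fun n => ?_⟩
  · have hkeq : ∀ q : Q, k (θ g n) (g • q).1 = k n q.1 := by
      let p : (MaximalSpectrum B → Val V) → ℤ := fun f => if h : f ∈ J then k n (g⁻¹ • (⟨f, h⟩ : Q)).1 else 0
      have hsum : ∑ f ∈ J, k (θ g n) f • f = ∑ f ∈ J, p f • f := by
        rw [← hk, ← Finset.sum_coe_sort J (fun f => p f • f)]
        funext m
        rw [Finset.sum_apply]
        conv_lhs => rw [← smul_inv_smul g m, hddeq, hk, ← Finset.sum_coe_sort J, Finset.sum_apply]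
        refine Fintype.sum_equiv (MulAction.toPerm g) _ _ fun q => ?_
        show k n q.1 • q.1 (g⁻¹ • m) = p (g • q).1 • (g • q).1 m
        rw [show p (g • q).1 = k n q.1 by simp [p, (g • q).2], hQ]
      intro q
      rw [hsame _ p hsum _ (g • q).2]
      simp [p, (g • q).2]
    show ((∏ q : Q, β q ^ k (θ g n) q.1 : Eˣ) : E) = ((gU g (∏ q : Q, β q ^ k n q.1) : Eˣ) : E)
    congr 1
    rw [map_prod]
    refine (Fintype.prod_equiv (MulAction.toPerm g) _ _ fun q => ?_).symm
    show gU g (β q ^ k n q.1) = β (g • q) ^ k (θ g n) (g • q).1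
    rw [map_zpow, hβeq, hkeq]
  · have h1 : w (μ n) = w (X n) := by
      show w (μ₀ n) = dd n
      rw [hwprod, hk, ← Finset.sum_coe_sort J]
    have h2 : ((X n * (μ n)⁻¹ : Eˣ) : E) ∈ B := mem_of_size_nonneg hfrac _ fun m => by
      show 0 ≤ w (X n * (μ n)⁻¹) m
      rw [hwmul, hwinv, h1, add_neg_cancel]
      exact le_rfl
    have h3 : (jE (A := V) C (X n * (μ n)⁻¹) : E ⊗[V] C) ∈ (incl B C).range :=
      ⟨(⟨_, h2⟩ : B) ⊗ₜ 1, (jB_eq B C ⟨_, h2⟩).symm⟩
    have h4 := mul_mem (hX n).1 h3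
    rw [← Units.val_mul, map_mul, map_inv, mul_assoc, inv_mul_cancel_left] at h4
    exact h4

end Groth.Misc15.SemilocInj
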