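import Groth.Agent.Misc15.SemilocInj.ValSplit
import Groth.Agent.Misc15.MultH1.Ring
import Mathlib.FieldTheory.Galois.Basic
import Mathlib.LinearAlgebra.LinearIndependent.Defs

/-!
The splitting field with a faithful action on the characters gives a finite étale integral closure.
-/

set_option autoImplicit false
set_option linter.style.haveILetI false
set_option synthInstance.maxHeartbeats 200000

universe u

open CategoryTheory CategoryTheory.Limits MonoidalCategory CartesianMonoidalCategory MonObj AlgebraicGeometry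
open TensorProduct

noncomputable section

namespace Groth.Misc15.SemilocInj

open Groth.Reductive.MTInt Groth.Misc15.TorusDvr

variable {V : Type u} [CommRing V] {M : Over (Spec (CommRingCat.of V))} [GrpObj M] [IsAffine M.left]

/-- Automorphisms permute the generators. -/
theorem exists_perm_chr {E : Type u} [Field E] [Algebra V E] (τ : Triv M (sp (algebraMap V E))) (σ : E →ₐ[V] E) :
    ∃ θ : Multiplicative τ.M → Multiplicative τ.M, ∀ n,
      Algebra.TensorProduct.map σ (AlgHom.id V (Ob M)) (chr τ n) = chr τ (θ n) := by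
  obtain ⟨θ, hθ⟩ := exists_theta' τ (AlgHom.id V E) σ
  refine ⟨θ, fun n => ?_⟩
  have h := hθ _ (Algebra.TensorProduct.includeLeft : E →ₐ[V] E ⊗[V] Ob M)
    (pl (Algebra.TensorProduct.includeRight : Ob M →ₐ[V] E ⊗[V] Ob M) (univ M)) n
  rw [ch_congr τ (AlgHom.comp_id _), ch_congr τ (AlgHom.comp_id _), ch_eq_chr, ptAlg_pl_univ] at h
  refine Eq.trans ?_ h
  exact congrArg (fun F : E ⊗[V] Ob M →ₐ[V] E ⊗[V] Ob M => F (chr τ n)) (Algebra.TensorProduct.ext
    (AlgHom.ext fun b => by simp [pairMap]) (AlgHom.ext fun o => by simp [pairMap]))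

variable [IsDomain V]

/-- Passing to the field fixed by the automorphisms which fix the characters. -/
theorem exists_faithful [Module.Flat V (Ob M)] {E : Type u} [Field E] [Algebra (FractionRing V) E] [Algebra V E]
    [IsScalarTower V (FractionRing V) E] [FiniteDimensional (FractionRing V) E] [IsGalois (FractionRing V) E]
    (τ : Triv M (sp (algebraMap V E))) (hfg : AddGroup.FG τ.M) :
    ∃ (E' : Type u) (_ : Field E') (_ : Algebra (FractionRing V) E') (_ : Algebra V E')
      (_ : IsScalarTower V (FractionRing V) E'), FiniteDimensional (FractionRing V) E' ∧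
      IsGalois (FractionRing V) E' ∧ ∃ X : Chars M E', AddGroup.FG X.N ∧
        (∀ (g : E' ≃ₐ[FractionRing V] E') (n : Multiplicative X.N), ∃ m, Algebra.TensorProduct.map
          (g.restrictScalars V : E' →ₐ[V] E') (AlgHom.id V (Ob M)) (X.χ n) = X.χ m) ∧
        ∀ g : E' ≃ₐ[FractionRing V] E', (∀ n, Algebra.TensorProduct.map (g.restrictScalars V : E' →ₐ[V] E')
          (AlgHom.id V (Ob M)) (X.χ n) = X.χ n) → g = 1 := by
  classical
  let K := FractionRing V
  let ρ : (E ≃ₐ[K] E) → E ⊗[V] Ob M →ₐ[V] E ⊗[V] Ob M := fun σ =>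
    Algebra.TensorProduct.map (σ.restrictScalars V : E →ₐ[V] E) (AlgHom.id V (Ob M))
  have hρmul : ∀ σ σ' z, ρ (σ * σ') z = ρ σ (ρ σ' z) := fun σ σ' z => by
    induction z using TensorProduct.induction_on with
    | zero => simp
    | add p q hp hq => simp only [map_add, hp, hq]
    | tmul a b => simp [ρ]
  have hρone : ∀ z, ρ 1 z = z := fun z => by
    induction z using TensorProduct.induction_on with
    | zero => simp
    | add p q hp hq => simp only [map_add, hp, hq]
    | tmul a b => simp [ρ]
  choose perm hperm using fun σ : E ≃ₐ[K] E => exists_perm_chr τ (σ.restrictScalars V : E →ₐ[V] E)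
  let H : Subgroup (E ≃ₐ[K] E) :=
    { carrier := {σ | ∀ n, ρ σ (chr τ n) = chr τ n}
      one_mem' := fun n => hρone _
      mul_mem' := fun {a b} ha hb n => by rw [hρmul, hb, ha]
      inv_mem' := fun {a} ha n => by
        conv_lhs => rw [← ha n, ← hρmul, inv_mul_cancel, hρone] }
  haveI hN : H.Normal := ⟨fun σ hσ g n => by
    have h1 : ρ g⁻¹ (chr τ n) = chr τ (perm g⁻¹ n) := hperm g⁻¹ n
    rw [hρmul, hρmul, h1, hσ, ← h1, ← hρmul, mul_inv_cancel, hρone]⟩
  let L := IntermediateField.fixedField H
  haveI : IsGalois K L := inferInstance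
  let ι' : L →ₐ[V] E := L.val.restrictScalars V
  let B := ι'.range
  -- averaging
  haveI := Fintype.ofFinite H
  obtain ⟨t, ht⟩ : ∃ t : E, ∑ h : H, (h.1 : E ≃ₐ[K] E) t = 1 := by
    have hli := (linearIndependent_monoidHom E E).comp (fun h : H => ((h.1 : E ≃ₐ[K] E) : E →* E)) (fun h h' e =>
      Subtype.ext (AlgEquiv.ext fun x => DFunLike.congr_fun e x))
    obtain ⟨t₀, ht₀⟩ : ∃ t₀ : E, ∑ h : H, (h.1 : E ≃ₐ[K] E) t₀ ≠ 0 := by
      by_contra hne
      push Not at hne
      exact one_ne_zero (Fintype.linearIndependent_iff.1 hli (fun _ => 1) (funext fun x => by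
        rw [Finset.sum_apply]
        simpa using hne x) 1)
    let s := ∑ h : H, (h.1 : E ≃ₐ[K] E) t₀
    have hs : ∀ h : H, h.1 s = s := fun h => by
      simp only [s, map_sum, ← AlgEquiv.mul_apply]
      exact Fintype.sum_equiv (Equiv.mulLeft h) _ _ fun _ => rfl
    refine ⟨t₀ * s⁻¹, ?_⟩
    simp only [map_mul, map_inv₀, hs, ← Finset.sum_mul]
    exact mul_inv_cancel₀ ht₀
  let Tr : E →ₗ[V] B :=
    { toFun := fun x => ⟨∑ h : H, (h.1 : E ≃ₐ[K] E) x, ⟨⟨_, fun g => by
        show g.1 (∑ h : H, (h.1 : E ≃ₐ[K] E) x) = _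
        rw [map_sum]
        exact Fintype.sum_equiv (Equiv.mulLeft g) _ _ fun h => (AlgEquiv.mul_apply g.1 h.1 x).symm⟩, rfl⟩⟩
      map_add' := fun x y => Subtype.ext (by simp [Finset.sum_add_distrib])
      map_smul' := fun a x => Subtype.ext (by
        show ∑ h : H, (h.1 : E ≃ₐ[K] E) (a • x) = a • ∑ h : H, (h.1 : E ≃ₐ[K] E) x
        rw [Finset.smul_sum]
        exact Finset.sum_congr rfl fun h _ => map_smul (h.1.restrictScalars V) a x) }
  have havg : ∀ z : E ⊗[V] Ob M, incl B (Ob M) (LinearMap.rTensor (Ob M) Tr z) = ∑ h : H, ρ h.1 z := fun z => by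
    induction z using TensorProduct.induction_on with
    | zero => simp
    | add p q hp hq => simp only [map_add, hp, hq, Finset.sum_add_distrib]
    | tmul a b => simp [incl, Tr, ρ, TensorProduct.sum_tmul]
  have hmem : ∀ z : E ⊗[V] Ob M, (∀ h ∈ H, ρ h z = z) → z ∈ (incl B (Ob M)).range := fun z hz =>
    ⟨LinearMap.rTensor (Ob M) Tr ((t ⊗ₜ 1) * z), by
      show incl B (Ob M) _ = z
      rw [havg]
      simp only [map_mul, hz _ (SetLike.coe_mem _), ← Finset.sum_mul]
      rw [show ∑ h : H, ρ h.1 (t ⊗ₜ 1) = (1 : E ⊗[V] Ob M) by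
        rw [Algebra.TensorProduct.one_def, ← ht, TensorProduct.sum_tmul]
        exact Finset.sum_congr rfl fun h _ => by simp [ρ], _root_.one_mul]⟩
  let X := Chars.ofTriv τ
  haveI := hfg
  obtain ⟨Y, e, hY⟩ := X.exists_sub B (fun n => hmem _ fun h hh => hh n) (fun o n => by
    refine ⟨⟨X.coeff o n, fun g => ?_⟩, rfl⟩
    let w := X.co.symm ((1 : E) ⊗ₜ o)
    let m : E →+* E := ((g.1 : E ≃ₐ[K] E) : E →+* E)
    have h1 : ∀ w, X.co (MonoidAlgebra.mapRingHom _ m w) = ρ g.1 (X.co w) := fun w => by
      induction w using MonoidAlgebra.induction_linear with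
      | zero => simp
      | add p q hp hq => simp only [map_add, hp, hq]
      | single k b =>
        rw [MonoidAlgebra.mapRingHom_single, Chars.co_single, Chars.co_single, map_mul]
        exact congrArg₂ (· * ·) (by simp [ρ, m]) (g.2 k).symm
    have h2 := X.coeff_unique o (MonoidAlgebra.mapRingHom _ m w) (by
      rw [h1, AlgEquiv.apply_symm_apply]; simp [ρ]) n
    show g.1 (X.coeff o n) = X.coeff o n
    refine Eq.trans ?_ h2.symm
    simp [w, m, Chars.coeff])
  let eB : L ≃ₐ[V] B := AlgEquiv.ofInjective ι' Subtype.val_injective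
  let Z := Y.push (eB.symm : B →ₐ[V] L)
  let mι := Algebra.TensorProduct.map ι' (AlgHom.id V (Ob M))
  have hmι : Function.Injective mι :=
    Module.Flat.rTensor_preserves_injective_linearMap (M := Ob M) ι'.toLinearMap Subtype.val_injective
  have h1 : ∀ w, mι (Algebra.TensorProduct.map (eB.symm : B →ₐ[V] L) (AlgHom.id V (Ob M)) w) = incl B (Ob M) w :=
    fun w => by
      induction w using TensorProduct.induction_on with
      | zero => simp
      | add p q hp hq => simp only [map_add, hp, hq]
      | tmul a b =>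
        simp only [mι, Algebra.TensorProduct.map_tmul, incl, AlgHom.id_apply]
        exact congrArg (· ⊗ₜ[V] b) (congrArg Subtype.val (eB.apply_symm_apply a))
  have h2 : ∀ (σ : E ≃ₐ[K] E) w, ρ σ (mι w) = mι (Algebra.TensorProduct.map
      (((AlgEquiv.restrictNormalHom L) σ).restrictScalars V : L →ₐ[V] L) (AlgHom.id V (Ob M)) w) := fun σ w => by
    induction w using TensorProduct.induction_on with
    | zero => simp
    | add p q hp hq => simp only [map_add, hp, hq]
    | tmul a b =>
      simp only [ρ, mι, Algebra.TensorProduct.map_tmul, AlgHom.id_apply]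
      exact congrArg (· ⊗ₜ[V] b) (AlgEquiv.restrictNormal_commutes σ L a).symm
  have h3 : ∀ n, mι (Z.χ n) = X.χ (e n) := fun n => (h1 _).trans (hY n)
  refine ⟨L, inferInstance, inferInstance, inferInstance, inferInstance, inferInstance, inferInstance, Z,
    ?_, fun g n => ?_, fun g hg => ?_⟩
  · show AddGroup.FG Y.N
    haveI : AddGroup.FG X.N := hfg
    haveI : Group.FG (Multiplicative X.N) := AddGroup.fg_iff_mul_fg.1 inferInstance
    haveI : Group.FG (Multiplicative Y.N) := Group.fg_of_surjective (f := e.symm.toMonoidHom) e.symm.surjective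
    exact AddGroup.fg_iff_mul_fg.2 inferInstance
  · obtain ⟨σ, rfl⟩ := AlgEquiv.restrictNormalHom_surjective E g
    refine ⟨e.symm (perm σ (e n)), hmι ?_⟩
    rw [← h2, h3, h3, MulEquiv.apply_symm_apply]
    exact hperm σ (e n)
  obtain ⟨σ, rfl⟩ := AlgEquiv.restrictNormalHom_surjective E g
  have hσ : σ ∈ H := fun n => by
    obtain ⟨m, rfl⟩ : ∃ m, e m = n := e.surjective n
    show ρ σ (X.χ (e m)) = X.χ (e m)
    rw [← h3, h2, hg m]
  refine AlgEquiv.ext fun x => Subtype.ext ?_
  exact (AlgEquiv.restrictNormal_commutes σ L x).trans (x.2 ⟨σ, hσ⟩)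

/-- The integral closure in a splitting field with faithful action is finite étale and splits the group. -/
theorem exists_valSplit [ValuationRing V] (hM : SGA3x.IsMultTypeFT M) :
    ∃ (E : Type u) (_ : Field E) (_ : Algebra (FractionRing V) E) (_ : Algebra V E)
      (_ : IsScalarTower V (FractionRing V) E), FiniteDimensional (FractionRing V) E ∧
      IsGalois (FractionRing V) E ∧ Algebra.Etale V (integralClosure V E) ∧
      Module.Finite V (integralClosure V E) ∧
      ∃ τ : Triv M (sp (algebraMap V (integralClosure V E))), AddGroup.FG τ.M := by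
  classical
  haveI := flat_Ob hM
  obtain ⟨-, C, _, _, hC, ⟨τC⟩⟩ := exists_ff_triv hM
  obtain ⟨E₀, _, _, _, _, _, _, τ₀, hfg₀⟩ := exists_galois_triv hM
  obtain ⟨E, _, _, _, _, hfd, hgal, X, hfg, hperm, hfaith⟩ := exists_faithful τ₀ hfg₀
  let K := FractionRing V
  let B := integralClosure V E
  haveI : IsFractionRing B E := integralClosure.isFractionRing_of_finite_extension K E
  -- the characters are integral
  have hloc : ∀ q : Ideal B, q.IsMaximal → (∀ n, InLoc B (Ob M) q (X.χ n)) ∧
      ∀ o n, InW B q (X.coeff o n) := fun q hq => by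
    obtain ⟨Ω, _, _, je, φ, D, hφ, -, hD⟩ := exists_domain B q (inW_or_inW_inv q) C
    obtain ⟨k1, k2⟩ := local_integral X τC je φ D hφ
    exact ⟨fun n => exists_denominator q (fun x hx => hD x hx) (k1 n), fun o n => hD _ (k2 o n)⟩
  obtain ⟨Y, e, hY⟩ := X.exists_sub B
    (fun n => mem_range_of_forall_inLoc fun q hq => (hloc q hq).1 n)
    (fun o n => mem_of_inW fun q hq => (hloc q hq).2 o n)
  -- the action
  let G := E ≃ₐ[K] E
  have hst : ∀ (g : G) (x : E), x ∈ B → g x ∈ B := fun g x hx =>
    IsIntegral.map (g.restrictScalars V) hx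
  letI act : MulSemiringAction G B :=
    { smul := fun g x => ⟨g x.1, hst g _ x.2⟩
      one_smul := fun x => Subtype.ext rfl
      mul_smul := fun g h x => Subtype.ext rfl
      smul_zero := fun g => Subtype.ext (map_zero _)
      smul_add := fun g x y => Subtype.ext (map_add _ _ _)
      smul_one := fun g => Subtype.ext (map_one _)
      smul_mul := fun g x y => Subtype.ext (map_mul _ _ _) }
  have hfree : Groth.Pi1Quot.IsFreeAction G B := by
    intro g hg
    by_contra hne
    obtain ⟨q, hq, hle⟩ := Ideal.exists_le_maximal _ hne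
    refine hg (hfaith g fun n => ?_)
    obtain ⟨m, hm⟩ := hperm g n
    rw [hm]
    obtain ⟨n', rfl⟩ := e.surjective n
    obtain ⟨m', rfl⟩ := e.surjective m
    suffices m' = n' by rw [this]
    let gB : B →ₐ[V] B :=
      { MulSemiringAction.toRingHom G B g with
        commutes' := fun v => Subtype.ext ((g.restrictScalars V).commutes v) }
    have h1 : Algebra.TensorProduct.map gB (AlgHom.id V (Ob M)) (Y.χ n') = Y.χ m' := by
      refine incl_injective B (Ob M) ?_
      rw [hY, ← hm, ← hY]
      generalize Y.χ n' = w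
      induction w using TensorProduct.induction_on with
      | zero => simp
      | add p r hp hr => simp only [map_add, hp, hr]
      | tmul a b => simp only [incl, Algebra.TensorProduct.map_tmul, AlgHom.id_apply]; rfl
    let Q := B ⧸ q
    let mk : B →ₐ[V] Q := Ideal.Quotient.mkₐ V q
    have hmk : mk.comp gB = mk := AlgHom.ext fun b =>
      Ideal.Quotient.eq.2 (hle (Ideal.subset_span ⟨b, rfl⟩))
    have h2 : (Y.push mk).χ m' = (Y.push mk).χ n' := by
      rw [Chars.push_χ, Chars.push_χ, ← h1, ← AlgHom.comp_apply, ← Algebra.TensorProduct.map_comp,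
        hmk, AlgHom.id_comp]
    have h3 := (Y.push mk).bij.1
      (a₁ := MonoidAlgebra.single m' 1) (a₂ := MonoidAlgebra.single n' 1) (by
        rw [MonoidAlgebra.lift_single, MonoidAlgebra.lift_single, h2])
    haveI : Nontrivial Q := Ideal.Quotient.nontrivial_iff.2 hq.ne_top
    exact MonoidAlgebra.of_injective h3
  haveI : SMulCommClass G V B := ⟨fun g a x => Subtype.ext (map_smul (g.restrictScalars V) a x.1)⟩
  haveI : FaithfulSMul V B := (faithfulSMul_iff_algebraMap_injective V B).2 fun p r h => by
    refine IsFractionRing.injective V K ((algebraMap K E).injective ?_)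
    rw [← IsScalarTower.algebraMap_apply, ← IsScalarTower.algebraMap_apply]
    exact congrArg Subtype.val h
  haveI : Algebra.IsInvariant V B G := ⟨fun b hb => by
    obtain ⟨k, hk⟩ := (IsGalois.mem_range_algebraMap_iff_fixed (F := K) (b : E)).2
      fun g => congrArg Subtype.val (hb g)
    obtain ⟨v, rfl⟩ := IsIntegrallyClosed.isIntegral_iff.1
      ((isIntegral_algHom_iff (IsScalarTower.toAlgHom V K E) (algebraMap K E).injective).1
        (show IsIntegral V (algebraMap K E k) from hk ▸ b.2))
    exact ⟨v, Subtype.ext ((IsScalarTower.algebraMap_apply V K E v).trans hk)⟩⟩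
  haveI : AddGroup.FG X.N := hfg
  haveI : Group.FG (Multiplicative X.N) := AddGroup.fg_iff_mul_fg.1 inferInstance
  haveI : Group.FG (Multiplicative Y.N) := Group.fg_of_surjective (f := e.symm.toMonoidHom) e.symm.surjective
  exact ⟨E, inferInstance, inferInstance, inferInstance, inferInstance, hfd, hgal,
    Groth.Pi1Quot.etale_of_free V hfree, Groth.Pi1Quot.finite_of_free V hfree, Y.toTriv,
    AddGroup.fg_iff_mul_fg.2 (inferInstance : Group.FG (Multiplicative Y.N))⟩

end Groth.Misc15.SemilocInj
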