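import Groth.Agent.Misc15.SemilocInj.Loc
import Mathlib.RingTheory.Valuation.ValuationRing
import Mathlib.RingTheory.Localization.Integral
import Mathlib.RingTheory.IntegralClosure.IntegrallyClosed
import Mathlib.RingTheory.IntegralClosure.Algebra.Basic
import Mathlib.RingTheory.Ideal.GoingDown
import Mathlib.RingTheory.DedekindDomain.IntegralClosure

/-!
Localisations of the integral closure of a valuation ring in an algebraic extension, and elements which
become integral over a faithfully flat algebra.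
-/

set_option autoImplicit false
set_option linter.style.haveILetI false
set_option synthInstance.maxHeartbeats 200000

universe u

open TensorProduct Polynomial

noncomputable section

namespace Groth.Misc15.SemilocInj

/-- A root of a polynomial with a unit coefficient over an integrally closed local subring of a field, or
its inverse, lies in the subring. -/
theorem mem_or_inv_mem_of_unit_coeff {R E : Type u} [CommRing R] [IsLocalRing R] [Field E] [Algebra R E]
    (hint : ∀ y : E, IsIntegral R y → ∃ r, algebraMap R E r = y) (x : E) :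
    ∀ (n : ℕ) (a : ℕ → R), ∑ i ∈ Finset.range (n + 1), algebraMap R E (a i) * x ^ i = 0 →
      (∃ i ≤ n, IsUnit (a i)) → (∃ r, algebraMap R E r = x) ∨ ∃ r, algebraMap R E r = x⁻¹ := by
  intro n
  induction n with
  | zero =>
    intro a h hu
    obtain ⟨i, hi, hu⟩ := hu
    obtain rfl : i = 0 := Nat.le_zero.1 hi
    rw [Finset.sum_range_one, pow_zero, mul_one] at h
    exact absurd h (hu.map (algebraMap R E)).ne_zero
  | succ n ih =>
    intro a h hu
    let c := algebraMap R E (a (n + 1)) * x
    have hc : IsIntegral R c := by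
      refine ⟨X ^ (n + 1) + ∑ i ∈ Finset.range (n + 1), C (a i * a (n + 1) ^ (n - i)) * X ^ i,
        monic_X_pow_add ?_, ?_⟩
      · refine lt_of_le_of_lt (degree_sum_le _ _) ?_
        refine (Finset.sup_lt_iff (WithBot.bot_lt_coe _)).2 fun i hi => ?_
        exact (degree_C_mul_X_pow_le i _).trans_lt (WithBot.coe_lt_coe.2 (Finset.mem_range.1 hi))
      · have h1 : algebraMap R E (a (n + 1)) ^ n *
            ∑ i ∈ Finset.range (n + 1 + 1), algebraMap R E (a i) * x ^ i = 0 := by rw [h, mul_zero]
        rw [Finset.sum_range_succ, mul_add, Finset.mul_sum] at h1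
        simp only [eval₂_add, eval₂_pow, eval₂_X, eval₂_finsetSum, eval₂_mul, eval₂_C]
        rw [← h1, add_comm (∑ i ∈ Finset.range (n + 1), algebraMap R E (a (n + 1)) ^ n * _)]
        refine congrArg₂ (· + ·) ?_ (Finset.sum_congr rfl fun i hi => ?_)
        · simp only [c, mul_pow, pow_succ]; ring
        · have hin : i ≤ n := Nat.lt_succ_iff.1 (Finset.mem_range.1 hi)
          simp only [c, map_mul, map_pow, mul_pow]
          have h2 : algebraMap R E (a (n + 1)) ^ n =
              algebraMap R E (a (n + 1)) ^ (n - i) * algebraMap R E (a (n + 1)) ^ i := by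
            rw [← pow_add, Nat.sub_add_cancel hin]
          rw [h2]
          ring
    obtain ⟨y, hy⟩ := hint c hc
    by_cases hu1 : IsUnit (a (n + 1))
    · obtain ⟨v, hv⟩ := hu1
      refine Or.inl ⟨(↑v⁻¹ : R) * y, ?_⟩
      rw [map_mul, hy, show c = algebraMap R E (v : R) * x from by rw [hv], ← mul_assoc, ← map_mul,
        Units.inv_mul, map_one, one_mul]
    let a' := Function.update a n (a n + y)
    have ha' : ∑ i ∈ Finset.range (n + 1), algebraMap R E (a' i) * x ^ i = 0 := by
      rw [← h, Finset.sum_range_succ _ (n + 1), Finset.sum_range_succ, Finset.sum_range_succ _ n]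
      rw [show a' n = a n + y from Function.update_self .., map_add, hy]
      have : ∑ i ∈ Finset.range n, algebraMap R E (a' i) * x ^ i =
          ∑ i ∈ Finset.range n, algebraMap R E (a i) * x ^ i := Finset.sum_congr rfl fun i hi => by
        rw [show a' i = a i from Function.update_of_ne (Finset.mem_range.1 hi).ne ..]
      rw [this]
      simp only [c]
      ring
    by_cases hu' : ∃ i ≤ n, IsUnit (a' i)
    · exact ih a' ha' hu'
    obtain ⟨i, hi, hui⟩ := hu
    have hin : i = n := by
      rcases lt_trichotomy i n with h1 | h1 | h1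
      · exact absurd ⟨i, h1.le, (show a' i = a i from Function.update_of_ne h1.ne ..).symm ▸ hui⟩ hu'
      · exact h1
      · exact absurd (Nat.le_antisymm hi h1 ▸ hui) hu1
    rw [hin] at hui
    have hyu : IsUnit y := by
      by_contra hy'
      refine hu' ⟨n, le_rfl, ?_⟩
      rw [show a' n = a n + y from Function.update_self ..]
      by_contra hs
      have h2 : a n ∈ IsLocalRing.maximalIdeal R := by
        have := (IsLocalRing.maximalIdeal R).sub_mem (show a n + y ∈ IsLocalRing.maximalIdeal R from hs)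
          (show y ∈ IsLocalRing.maximalIdeal R from hy')
        rwa [add_sub_cancel_right] at this
      exact h2 hui
    obtain ⟨v, hv⟩ := hyu
    refine Or.inr ⟨a (n + 1) * ↑v⁻¹, eq_inv_of_mul_eq_one_left ?_⟩
    rw [map_mul, mul_right_comm, ← show c = algebraMap R E (a (n + 1)) * x from rfl, ← hy, ← map_mul, ← hv,
      Units.mul_inv, map_one]

/-- An algebraic element is a root of a polynomial with a unit coefficient. -/
theorem exists_unit_coeff {V E : Type u} [CommRing V] [IsDomain V] [ValuationRing V] [Field E]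
    [Algebra (FractionRing V) E] [Algebra V E] [IsScalarTower V (FractionRing V) E]
    [Algebra.IsIntegral (FractionRing V) E] (x : E) :
    ∃ (n : ℕ) (a : ℕ → V), ∑ i ∈ Finset.range (n + 1), algebraMap V E (a i) * x ^ i = 0 ∧ ∃ i ≤ n, IsUnit (a i) := by
  classical
  obtain ⟨p, hp0, hp⟩ : IsAlgebraic V x :=
    (IsFractionRing.isAlgebraic_iff V (FractionRing V) E).2 (Algebra.IsIntegral.isIntegral x).isAlgebraic
  have key : ∀ s : Finset ℕ, s.Nonempty → ∃ i ∈ s, ∀ j ∈ s, p.coeff i ∣ p.coeff j := by
    intro s hs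
    induction hs using Finset.Nonempty.cons_induction with
    | singleton i => exact ⟨i, Finset.mem_singleton_self i, fun j hj => by rw [Finset.mem_singleton.1 hj]⟩
    | cons i s his hs ih =>
      obtain ⟨k, hk, hk'⟩ := ih
      rcases PreValuationRing.iff_dvd_total.1 inferInstance |>.total (p.coeff i) (p.coeff k) with h | h
      · exact ⟨i, Finset.mem_cons_self i s, fun j hj => (Finset.mem_cons.1 hj).elim (fun e => e ▸ dvd_rfl)
          fun hj => h.trans (hk' j hj)⟩
      · exact ⟨k, Finset.mem_cons.2 (Or.inr hk), fun j hj => (Finset.mem_cons.1 hj).elim (fun e => e ▸ h) (hk' j)⟩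
  obtain ⟨i₀, hi₀, hdvd⟩ := key p.support (Polynomial.support_nonempty.2 hp0)
  have hall : ∀ j, p.coeff i₀ ∣ p.coeff j := fun j =>
    if hj : j ∈ p.support then hdvd j hj else by rw [notMem_support_iff.1 hj]; exact dvd_zero _
  choose a ha using hall
  refine ⟨p.natDegree, a, ?_, i₀, le_natDegree_of_mem_supp _ hi₀, ?_⟩
  · refine (mul_eq_zero.1 (?_ : algebraMap V E (p.coeff i₀) * _ = 0)).resolve_left ?_
    · rw [← hp, aeval_eq_sum_range, Finset.mul_sum]
      exact Finset.sum_congr rfl fun j _ => by rw [Algebra.smul_def, ← mul_assoc, ← map_mul, ← ha]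
    · rw [IsScalarTower.algebraMap_apply V (FractionRing V) E, _root_.map_eq_zero,
        IsFractionRing.to_map_eq_zero_iff]
      exact mem_support_iff.1 hi₀
  · have h := ha i₀
    have h1 : p.coeff i₀ * a i₀ = p.coeff i₀ * 1 := by rw [mul_one, ← h]
    rw [mul_left_cancel₀ (mem_support_iff.1 hi₀) h1]
    exact isUnit_one

variable {V E : Type u} [CommRing V] [Field E] [Algebra V E]

/-- integral up to a denominator prime to the ideal -/
def InW (B : Subalgebra V E) (q : Ideal B) (x : E) : Prop := ∃ s : B, s ∉ q ∧ (s : E) * x ∈ B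

theorem mem_of_inW {B : Subalgebra V E} {x : E} (h : ∀ q : Ideal B, q.IsMaximal → InW B q x) : x ∈ B := by
  let I : Ideal B :=
    { carrier := {s | (s : E) * x ∈ B}
      add_mem' := fun {a b} ha hb => by
        show ((a + b : B) : E) * x ∈ B
        rw [Subalgebra.coe_add, add_mul]; exact B.add_mem ha hb
      zero_mem' := by
        show ((0 : B) : E) * x ∈ B
        rw [Subalgebra.coe_zero, zero_mul]; exact B.zero_mem
      smul_mem' := fun c {a} ha => by
        show ((c * a : B) : E) * x ∈ B
        rw [Subalgebra.coe_mul, mul_assoc]; exact B.mul_mem c.2 ha }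
  by_contra hx
  have hI : I ≠ ⊤ := fun e => hx (by
    have h1 : ((1 : B) : E) * x ∈ B := (show (1 : B) ∈ I from e ▸ Submodule.mem_top)
    simpa using h1)
  obtain ⟨q, hq, hIq⟩ := Ideal.exists_le_maximal I hI
  obtain ⟨s, hs, hsx⟩ := h q hq
  exact hs (hIq hsx)

theorem inW_or_inW_inv_of_integrallyClosed (B : Subalgebra V E) (hB : ∀ y : E, IsIntegral B y → y ∈ B)
    (q : Ideal B) [q.IsPrime] (x : E)
    (h : ∃ (n : ℕ) (a : ℕ → B), ∑ i ∈ Finset.range (n + 1), (a i : E) * x ^ i = 0 ∧ ∃ i ≤ n, IsUnit (a i)) :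
    InW B q x ∨ InW B q x⁻¹ := by
  let R := Localization.AtPrime q
  have hu : ∀ s : q.primeCompl, IsUnit (algebraMap B E s) := fun s =>
    isUnit_iff_ne_zero.2 fun e => s.2 (by
      rw [show (s : B) = 0 from Subtype.ext e]; exact q.zero_mem)
  let g : R →+* E := IsLocalization.lift hu
  letI := g.toAlgebra
  haveI : IsScalarTower B R E := IsScalarTower.of_algebraMap_eq fun b => (IsLocalization.lift_eq hu b).symm
  have hmem : ∀ r : R, InW B q (g r) := fun r => by
    obtain ⟨⟨b, s⟩, hbs⟩ := IsLocalization.surj q.primeCompl r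
    refine ⟨s, s.2, ?_⟩
    have h1 : g r * ((s : B) : E) = (b : E) := by
      have := congrArg g hbs
      rwa [map_mul, IsLocalization.lift_eq, IsLocalization.lift_eq] at this
    rw [mul_comm, h1]
    exact b.2
  have hint : ∀ y : E, IsIntegral R y → ∃ r, algebraMap R E r = y := fun y hy => by
    obtain ⟨m, hm⟩ := IsIntegral.exists_multiple_integral_of_isLocalization q.primeCompl y hy
    refine ⟨IsLocalization.mk' R (⟨_, hB _ hm⟩ : B) m, ?_⟩
    show g _ = y
    rw [IsLocalization.lift_mk'_spec]
    show ((m : B) • y : E) = (m : E) * y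
    rfl
  obtain ⟨n, a, hsum, i, hi, hu'⟩ := h
  rcases mem_or_inv_mem_of_unit_coeff hint x n (algebraMap B R ∘ a) (by
    refine Eq.trans (Finset.sum_congr rfl fun j _ => ?_) hsum
    rw [Function.comp_apply, ← IsScalarTower.algebraMap_apply B R E]
    rfl) ⟨i, hi, hu'.map _⟩ with ⟨r, hr⟩ | ⟨r, hr⟩
  · exact Or.inl (hr ▸ hmem r)
  · exact Or.inr (hr ▸ hmem r)

theorem inW_or_inW_inv [IsDomain V] [ValuationRing V] [Algebra (FractionRing V) E]
    [IsScalarTower V (FractionRing V) E] [FiniteDimensional (FractionRing V) E]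
    (q : Ideal (integralClosure V E)) [q.IsPrime] (x : E) :
    InW (integralClosure V E) q x ∨ InW (integralClosure V E) q x⁻¹ := by
  refine inW_or_inW_inv_of_integrallyClosed _ (fun y hy => ?_) q x ?_
  · show IsIntegral V y
    exact isIntegral_trans (A := integralClosure V E) y hy
  · obtain ⟨n, a, hsum, i, hi, hu⟩ := exists_unit_coeff (V := V) x
    exact ⟨n, algebraMap V (integralClosure V E) ∘ a, hsum, i, hi, hu.map _⟩

/-- A domain receiving a faithfully flat algebra and dominating a prime of a subalgebra of a field. -/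
theorem exists_domain (B : Subalgebra V E) [IsFractionRing B E] (q : Ideal B) [q.IsPrime]
    (hq : ∀ x, InW B q x ∨ InW B q x⁻¹)
    (C : Type u) [CommRing C] [Algebra V C] [Module.FaithfullyFlat V C] :
    ∃ (Ω : Type u) (_ : Field Ω) (_ : Algebra V Ω) (ι : E →ₐ[V] Ω) (φ : C →ₐ[V] Ω) (D : Subalgebra V Ω),
      (∀ c, φ c ∈ D) ∧ (∀ b : B, ι b ∈ D) ∧ ∀ x : E, ι x ∈ D → InW B q x := by
  let R := B ⊗[V] C
  obtain ⟨Q, hQ⟩ := PrimeSpectrum.comap_surjective_of_faithfullyFlat (A := B) (B := R) ⟨q, inferInstance⟩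
  replace hQ : Q.asIdeal.comap (algebraMap B R) = q := congrArg PrimeSpectrum.asIdeal hQ
  haveI : Q.asIdeal.LiesOver q := ⟨hQ.symm⟩
  obtain ⟨P, hPQ, hP, hPb⟩ := Ideal.exists_ideal_le_liesOver_of_le (p := (⊥ : Ideal B)) Q.asIdeal (q := q) bot_le
  let D₀ := R ⧸ P
  let Ω := FractionRing D₀
  let lD : R →ₐ[V] Ω := (IsScalarTower.toAlgHom V D₀ Ω).comp (Ideal.Quotient.mkₐ V P)
  let iB : B →ₐ[V] Ω := lD.comp Algebra.TensorProduct.includeLeft
  have hiB : Function.Injective iB := (injective_iff_map_eq_zero iB).2 fun b hb => by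
    have h1 : Ideal.Quotient.mk P (b ⊗ₜ 1) = 0 := IsFractionRing.to_map_eq_zero_iff.1 hb
    have h2 : b ∈ P.under B := (Ideal.Quotient.eq_zero_iff_mem.1 h1 : b ⊗ₜ[V] (1 : C) ∈ P)
    rw [← hPb.over] at h2
    exact h2
  let ι : E →ₐ[V] Ω := IsFractionRing.liftAlgHom (g := iB) hiB
  have hι : ∀ b : B, ι (b : E) = iB b := fun b => IsFractionRing.lift_algebraMap hiB b
  refine ⟨Ω, inferInstance, inferInstance, ι, lD.comp Algebra.TensorProduct.includeRight, lD.range,
    fun c => ⟨_, rfl⟩, fun b => ⟨b ⊗ₜ 1, (hι b).symm⟩, fun x ⟨r, hr⟩ => ?_⟩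
  by_contra hxW
  obtain ⟨s, hs, hsx⟩ := (hq x).resolve_left hxW
  have hx : x ≠ 0 := fun e => hxW ⟨s, hs, by rw [e, mul_zero]; exact B.zero_mem⟩
  let b : B := ⟨_, hsx⟩
  have hbx : (b : E) * x = s := by
    show (s : E) * x⁻¹ * x = s
    rw [mul_assoc, inv_mul_cancel₀ hx, mul_one]
  have hb : b ∈ q := by
    by_contra hb
    exact hxW ⟨b, hb, by rw [hbx]; exact s.2⟩
  refine hs ?_
  have h1 : lD ((b ⊗ₜ 1) * r) = lD (s ⊗ₜ 1) := by
    rw [map_mul]
    show iB b * lD r = iB s
    rw [show lD r = ι x from hr, ← hι, ← hι, ← map_mul, hbx]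
  have h2 : (b ⊗ₜ[V] (1 : C)) * r - s ⊗ₜ 1 ∈ P :=
    Ideal.Quotient.eq.1 (IsFractionRing.injective D₀ Ω h1)
  have h3 : (b ⊗ₜ[V] (1 : C)) * r ∈ Q.asIdeal :=
    Ideal.mul_mem_right _ _ (show algebraMap B R b ∈ Q.asIdeal by rw [← Ideal.mem_comap, hQ]; exact hb)
  have h4 := sub_mem h3 (hPQ h2)
  rw [sub_sub_cancel] at h4
  rw [← hQ, Ideal.mem_comap]
  exact h4

variable {A : Type u} [CommRing A] [Algebra A E] {C : Type u} [CommRing C] [Algebra A C] [Module.Flat A C]

/-- Membership pulled back along an embedding of fields. -/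
theorem mem_range_comap {Ω : Type u} [Field Ω] [Algebra A Ω] (ι : E →ₐ[A] Ω) (D : Subalgebra A Ω)
    {z : E ⊗[A] C} {w : D ⊗[A] C} (h : Algebra.TensorProduct.map ι (AlgHom.id A C) z = incl D C w) :
    z ∈ (incl (D.comap ι) C).range := by
  let B := D.comap ι
  let ιB : B →ₐ[A] D := (ι.comp B.val).codRestrict D fun x => x.2
  let δ : B →ₗ[A] E × D := B.val.toLinearMap.prod ιB.toLinearMap
  let φ : E × D →ₗ[A] Ω := ι.toLinearMap.coprod (-D.val.toLinearMap)
  have hex : Function.Exact δ φ := by
    rintro ⟨x, d⟩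
    constructor
    · intro hxd
      have h1 : ι x = d := add_neg_eq_zero.1 (show ι x + -(d : Ω) = 0 from hxd)
      exact ⟨⟨x, show ι x ∈ D from h1 ▸ d.2⟩, Prod.ext rfl (Subtype.ext h1)⟩
    · rintro ⟨a, ha⟩
      rw [← ha]
      exact add_neg_cancel (ι a)
  let y := LinearMap.rTensor C (LinearMap.inl A E D) z + LinearMap.rTensor C (LinearMap.inr A E D) w
  have h1 : ∀ z, LinearMap.rTensor C φ (LinearMap.rTensor C (LinearMap.inl A E D) z) =
      Algebra.TensorProduct.map ι (AlgHom.id A C) z := fun z => by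
    induction z using TensorProduct.induction_on with
    | zero => simp
    | add p q hp hq => simp only [map_add, hp, hq]
    | tmul p q => simp [φ]
  have h2 : ∀ w, LinearMap.rTensor C φ (LinearMap.rTensor C (LinearMap.inr A E D) w) = -incl D C w := fun w => by
    induction w using TensorProduct.induction_on with
    | zero => simp
    | add p q hp hq => simp only [map_add, hp, hq]; abel
    | tmul p q => simp [φ, incl, TensorProduct.neg_tmul]
  have hy : LinearMap.rTensor C φ y = 0 := by rw [map_add, h1, h2, h, add_neg_cancel]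
  obtain ⟨t, ht⟩ := (Module.Flat.rTensor_exact C hex y).1 hy
  refine ⟨t, ?_⟩
  have h3 : ∀ t : B ⊗[A] C, LinearMap.rTensor C (LinearMap.fst A E D) (LinearMap.rTensor C δ t) = incl B C t :=
    fun t => by
      induction t using TensorProduct.induction_on with
      | zero => simp
      | add p q hp hq => simp only [map_add, hp, hq]
      | tmul p q => simp [δ, incl]
  show incl B C t = z
  rw [← h3, ht]
  simp only [y, map_add, ← LinearMap.rTensor_comp_apply, LinearMap.fst_comp_inl, LinearMap.fst_comp_inr,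
    LinearMap.rTensor_id, LinearMap.rTensor_zero, LinearMap.id_apply, LinearMap.zero_apply, add_zero]

omit [Module.Flat A C] in
/-- Clearing the denominators prime to an ideal. -/
theorem exists_denominator {B B' : Subalgebra A E} (q : Ideal B) [q.IsPrime] (hB' : ∀ x ∈ B', InW B q x)
    {z : E ⊗[A] C} (hz : z ∈ (incl B' C).range) : InLoc B C q z := by
  obtain ⟨w, rfl⟩ := hz
  induction w using TensorProduct.induction_on with
  | zero =>
    rw [map_zero]
    exact inLoc_range ⟨0, map_zero _⟩
  | add p r hp hr =>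
    obtain ⟨s, hs, a, ha⟩ := hp
    obtain ⟨t, ht, b, hb⟩ := hr
    refine ⟨s * t, fun e => (Ideal.IsPrime.mem_or_mem ‹q.IsPrime› e).elim hs ht,
      (t ⊗ₜ 1) * a + (s ⊗ₜ 1) * b, ?_⟩
    show incl B C _ = _
    rw [map_add (incl B C), map_mul (incl B C), map_mul (incl B C), ← jB_eq, ← jB_eq,
      show incl B C a = _ from ha, show incl B C b = _ from hb, map_mul, map_add]
    ring
  | tmul x c =>
    obtain ⟨s, hs, hsx⟩ := hB' x x.2
    refine ⟨s, hs, (⟨_, hsx⟩ : B) ⊗ₜ c, ?_⟩
    show incl B C _ = _
    simp [incl, jB]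

omit [Module.Flat A C] in
/-- An element integral at all maximal ideals is integral. -/
theorem mem_range_of_forall_inLoc {B : Subalgebra A E} {z : E ⊗[A] C}
    (h : ∀ q : Ideal B, q.IsMaximal → InLoc B C q z) : z ∈ (incl B C).range := by
  let I : Ideal B :=
    { carrier := {s | jB B C s * z ∈ (incl B C).range}
      add_mem' := fun {a b} ha hb => by
        show jB B C (a + b) * z ∈ (incl B C).range
        rw [map_add, add_mul]; exact add_mem ha hb
      zero_mem' := by
        show jB B C 0 * z ∈ (incl B C).range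
        rw [map_zero, zero_mul]; exact zero_mem _
      smul_mem' := fun c {a} ha => by
        show jB B C (c * a) * z ∈ (incl B C).range
        rw [map_mul, mul_assoc]
        exact mul_mem ⟨c ⊗ₜ 1, (jB_eq B C c).symm⟩ ha }
  have hI : I = ⊤ := by
    by_contra hI
    obtain ⟨q, hq, hIq⟩ := Ideal.exists_le_maximal I hI
    obtain ⟨s, hs, hsz⟩ := h q hq
    exact hs (hIq hsz)
  have h1 : jB B C 1 * z ∈ (incl B C).range := (show (1 : B) ∈ I from hI ▸ Submodule.mem_top)
  rwa [map_one, one_mul] at h1

end Groth.Misc15.SemilocInj
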