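import Groth.Agent.Misc15.SemilocInj.ValLoc
import Groth.Agent.Misc15.SemilocInj.Exponent
import Groth.Agent.EtaleAlgebra.ValuationEtale
import Mathlib.RingTheory.Ideal.Quotient.Operations
import Mathlib.RingTheory.Spectrum.Maximal.Defs

/-!
Semilocal subrings whose localisations are valuation rings: finitely generated fractional ideals are
principal, descent of scalars, and scales at the maximal ideals of étale algebras over valuation rings.
-/

set_option autoImplicit false
set_option linter.style.haveILetI false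
set_option synthInstance.maxHeartbeats 200000

universe u

open TensorProduct

noncomputable section

namespace Groth.Misc15.SemilocInj

variable {A E : Type u} [CommRing A] [Field E] [Algebra A E] {B : Subalgebra A E}

theorem InW.mul {q : Ideal B} [q.IsPrime] {x y : E} (hx : InW B q x) (hy : InW B q y) : InW B q (x * y) := by
  obtain ⟨s, hs, hsx⟩ := hx
  obtain ⟨t, ht, hty⟩ := hy
  refine ⟨s * t, fun e => (Ideal.IsPrime.mem_or_mem inferInstance e).elim hs ht, ?_⟩
  rw [Subalgebra.coe_mul, mul_mul_mul_comm]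
  exact B.mul_mem hsx hty

theorem InW.add {q : Ideal B} [q.IsPrime] {x y : E} (hx : InW B q x) (hy : InW B q y) : InW B q (x + y) := by
  obtain ⟨s, hs, hsx⟩ := hx
  obtain ⟨t, ht, hty⟩ := hy
  refine ⟨s * t, fun e => (Ideal.IsPrime.mem_or_mem inferInstance e).elim hs ht, ?_⟩
  rw [Subalgebra.coe_mul, mul_add]
  refine B.add_mem ?_ ?_
  · rw [mul_comm (s : E), mul_assoc]
    exact B.mul_mem t.2 hsx
  · rw [mul_assoc]
    exact B.mul_mem s.2 hty

theorem inW_of_mem {q : Ideal B} [q.IsPrime] {x : E} (hx : x ∈ B) : InW B q x :=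
  ⟨1, fun e => Ideal.IsPrime.ne_top inferInstance ((Ideal.eq_top_iff_one q).2 e), by
    rw [Subalgebra.coe_one, one_mul]; exact hx⟩

/-- Finitely generated fractional ideals are principal. -/
theorem exists_principal [Finite (MaximalSpectrum B)]
    (hval : ∀ q : Ideal B, q.IsMaximal → ∀ x, InW B q x ∨ InW B q x⁻¹) {ι : Type*} [Fintype ι] (e : ι → E)
    (he : ∃ i, e i ≠ 0) :
    ∃ (z : E) (a : ι → B), z ≠ 0 ∧ z = ∑ i, (a i : E) * e i ∧ ∀ i, e i * z⁻¹ ∈ B := by
  classical
  haveI := Fintype.ofFinite (MaximalSpectrum B)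
  have hmax : ∀ q : MaximalSpectrum B, ∃ j, e j ≠ 0 ∧ ∀ i, InW B q.asIdeal (e i * (e j)⁻¹) := fun q => by
    haveI := q.isMaximal
    have key : ∀ s : Finset ι, ∃ j, e j ≠ 0 ∧ ∀ i ∈ s, InW B q.asIdeal (e i * (e j)⁻¹) := fun s => by
      induction s using Finset.induction_on with
      | empty =>
        obtain ⟨i, hi⟩ := he
        exact ⟨i, hi, fun k hk => absurd hk (Finset.notMem_empty k)⟩
      | insert k s _ ih =>
        obtain ⟨j, hj, hjs⟩ := ih
        rcases hval q.asIdeal q.isMaximal (e k * (e j)⁻¹) with h | h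
        · exact ⟨j, hj, fun i hi => (Finset.mem_insert.1 hi).elim (fun e' => e' ▸ h) (hjs i)⟩
        · by_cases hk : e k = 0
          · refine ⟨j, hj, fun i hi => (Finset.mem_insert.1 hi).elim (fun e' => ?_) (hjs i)⟩
            rw [e', hk, zero_mul]
            exact inW_of_mem B.zero_mem
          refine ⟨k, hk, fun i hi => (Finset.mem_insert.1 hi).elim (fun e' => ?_) fun hi => ?_⟩
          · rw [e', mul_inv_cancel₀ hk]
            exact inW_of_mem B.one_mem
          · have h2 : (e k * (e j)⁻¹)⁻¹ = e j * (e k)⁻¹ := by rw [mul_inv_rev, inv_inv]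
            rw [h2] at h
            have := (hjs i hi).mul h
            rwa [mul_assoc, inv_mul_cancel_left₀ hj] at this
    obtain ⟨j, hj, hjs⟩ := key Finset.univ
    exact ⟨j, hj, fun i => hjs i (Finset.mem_univ i)⟩
  choose J hJ0 hJ using hmax
  have hco : Pairwise fun p q : MaximalSpectrum B => IsCoprime p.asIdeal q.asIdeal := fun p q hpq =>
    Ideal.isCoprime_iff_sup_eq.2 (p.isMaximal.coprime_of_ne q.isMaximal fun h => hpq (MaximalSpectrum.ext h))
  choose c hc using fun p : MaximalSpectrum B => Ideal.exists_forall_sub_mem_ideal hco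
    (fun q => if q = p then (1 : B) else 0)
  let a : ι → B := fun i => ∑ p ∈ Finset.univ.filter (fun p => J p = i), c p
  let z : E := ∑ p, (c p : E) * e (J p)
  have hz : z = ∑ i, (a i : E) * e i := by
    simp only [z, a, AddSubmonoidClass.coe_finsetSum, Finset.sum_mul]
    rw [← Finset.sum_fiberwise Finset.univ J]
    exact Finset.sum_congr rfl fun i _ => Finset.sum_congr rfl fun p hp => by rw [(Finset.mem_filter.1 hp).2]
  have key : ∀ q : MaximalSpectrum B, z ≠ 0 ∧ InW B q.asIdeal (e (J q) * z⁻¹) := fun q => by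
    haveI := q.isMaximal
    choose s hs hsx using fun p => hJ q (J p)
    let S : B := ∏ p, s p
    have hS : S ∉ q.asIdeal := fun h => by
      obtain ⟨p, -, hp⟩ := (q.isMaximal.isPrime.prod_mem_iff).1 h
      exact hs p hp
    have hterm : ∀ p, ∃ b : B, (b : E) = (S : E) * (e (J p) * (e (J q))⁻¹) := fun p => by
      refine ⟨(∏ p' ∈ Finset.univ.erase p, s p') * ⟨_, hsx p⟩, ?_⟩
      simp only [S, ← Finset.mul_prod_erase Finset.univ s (Finset.mem_univ p), Subalgebra.coe_mul]
      ring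
    choose b hb using hterm
    let r : B := ∑ p, c p * b p
    have hr : (r : E) = S * (z * (e (J q))⁻¹) := by
      simp only [r, z, AddSubmonoidClass.coe_finsetSum, Subalgebra.coe_mul, hb, Finset.sum_mul, Finset.mul_sum]
      exact Finset.sum_congr rfl fun p _ => by ring
    have hrq : r ∉ q.asIdeal := fun h => hS (by
      have h1 : r - S ∈ q.asIdeal := by
        have hbq : b q = S := Subtype.ext (by rw [hb, mul_inv_cancel₀ (hJ0 q), mul_one])
        rw [show r - S = ∑ p, (c p - if q = p then 1 else 0) * b p by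
          simp [r, sub_mul, Finset.sum_sub_distrib, hbq]]
        exact q.asIdeal.sum_mem fun p _ => Ideal.mul_mem_right _ _ (hc p q)
      simpa using q.asIdeal.sub_mem h h1)
    have hz0 : z ≠ 0 := fun h => hrq (by
      have : r = 0 := Subtype.ext (by rw [hr, h, zero_mul, mul_zero]; rfl)
      rw [this]; exact q.asIdeal.zero_mem)
    refine ⟨hz0, r, hrq, ?_⟩
    rw [hr]
    have : (S : E) * (z * (e (J q))⁻¹) * (e (J q) * z⁻¹) = S := by
      rw [mul_assoc, mul_mul_mul_comm, mul_comm (e (J q))⁻¹, ← mul_assoc (z * e (J q))]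
      field_simp [hJ0 q, hz0]
    rw [this]
    exact S.2
  have hz0 : z ≠ 0 := by
    by_cases hne : Nonempty (MaximalSpectrum B)
    · exact (key hne.some).1
    · exact absurd (inferInstance : Nonempty (MaximalSpectrum B)) hne
  refine ⟨z, a, hz0, hz, fun i => mem_of_inW fun q hq => ?_⟩
  haveI := hq
  have := (hJ ⟨q, hq⟩ i).mul (key ⟨q, hq⟩).2
  rwa [mul_assoc, inv_mul_cancel_left₀ (hJ0 ⟨q, hq⟩)] at this

variable {C : Type u} [CommRing C] [Algebra A C] [Module.FaithfullyFlat A C]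

/-- Scalars integral after a faithfully flat base change are integral. -/
theorem mem_of_tmul_mem_range {x : E} (h : x ⊗ₜ[A] (1 : C) ∈ (incl B C).range) : x ∈ B := by
  obtain ⟨w, hw⟩ := h
  let P : Submodule A E := Subalgebra.toSubmodule B
  have h1 : ∀ w, LinearMap.rTensor C P.mkQ (incl B C w) = 0 := fun w => by
    induction w using TensorProduct.induction_on with
    | zero => simp
    | add p q hp hq => rw [map_add, map_add, hp, hq, add_zero]
    | tmul b c =>
      show P.mkQ (b : E) ⊗ₜ[A] c = 0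
      rw [show P.mkQ (b : E) = 0 from (Submodule.Quotient.mk_eq_zero P).2 b.2]
      exact TensorProduct.zero_tmul _ c
  have h2 := h1 w
  rw [show incl B C w = x ⊗ₜ 1 from hw] at h2
  exact (Submodule.Quotient.mk_eq_zero P).1
    (tmul_one_injective (E ⧸ P) (h2.trans (TensorProduct.zero_tmul _ _).symm))

/-- A unit with integral unit cocycle differs from a scalar by an integral unit. -/
theorem exists_scalar [Finite (MaximalSpectrum B)]
    (hval : ∀ q : Ideal B, q.IsMaximal → ∀ x, InW B q x ∨ InW B q x⁻¹) (z : (E ⊗[A] C)ˣ)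
    (hz : HasUnitCocycle B (z : E ⊗[A] C)) :
    ∃ x : Eˣ, ((z * (jE C x)⁻¹ : (E ⊗[A] C)ˣ) : E ⊗[A] C) ∈ (incl B C).range ∧
      (((z * (jE C x)⁻¹)⁻¹ : (E ⊗[A] C)ˣ) : E ⊗[A] C) ∈ (incl B C).range := by
  classical
  let R : Submodule A (E ⊗[A] C) := LinearMap.range (incl B C).toLinearMap
  let f : E →ₗ[A] (E ⊗[A] C) ⧸ R := R.mkQ.comp ((LinearMap.mulLeft A (z : E ⊗[A] C)).comp
    (Algebra.TensorProduct.includeLeft : E →ₐ[A] E ⊗[A] C).toLinearMap)
  let Ψ : E ⊗[A] (C ⊗[A] C) →ₗ[A] ((E ⊗[A] C) ⧸ R) ⊗[A] C :=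
    (LinearMap.rTensor C R.mkQ).comp (TensorProduct.assoc A E C C).symm.toLinearMap
  have hΨ : ∀ w, LinearMap.rTensor C f w = Ψ (i₁ E (z : E ⊗[A] C) * i₂ E w) := fun w => by
    induction w using TensorProduct.induction_on with
    | zero => simp
    | add p q hp hq => rw [map_add, map_add, mul_add, map_add, hp, hq]
    | tmul e c =>
      show R.mkQ ((z : E ⊗[A] C) * (e ⊗ₜ 1)) ⊗ₜ[A] c = _
      generalize (z : E ⊗[A] C) = y
      induction y using TensorProduct.induction_on with
      | zero => simp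
      | add p q hp hq => rw [map_add, add_mul, map_add, add_mul, map_add, TensorProduct.add_tmul, hp, hq]
      | tmul e' c' => simp [Ψ, i₁, i₂]
  have hΨ0 : ∀ u, Ψ (incl B (C ⊗[A] C) u) = 0 := fun u => by
    induction u using TensorProduct.induction_on with
    | zero => simp
    | add p q hp hq => rw [map_add, map_add, hp, hq, add_zero]
    | tmul b t =>
      induction t using TensorProduct.induction_on with
      | zero => simp
      | add p q hp hq => rw [TensorProduct.tmul_add, map_add, map_add, hp, hq, add_zero]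
      | tmul c c' =>
        show R.mkQ ((b : E) ⊗ₜ[A] c) ⊗ₜ[A] c' = 0
        rw [show R.mkQ ((b : E) ⊗ₜ[A] c) = 0 from (Submodule.Quotient.mk_eq_zero R).2 ⟨b ⊗ₜ c, rfl⟩]
        exact TensorProduct.zero_tmul _ c'
  obtain ⟨u, v, -, hu⟩ := hz
  have hker : LinearMap.rTensor C f ((z⁻¹ : (E ⊗[A] C)ˣ) : E ⊗[A] C) = 0 := by
    rw [hΨ, hu, mul_assoc, ← map_mul, Units.mul_inv, map_one, mul_one, hΨ0]
  obtain ⟨t, ht⟩ := (Module.Flat.rTensor_exact C (LinearMap.exact_subtype_ker_map f) _).1 hker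
  obtain ⟨s, rfl⟩ := TensorProduct.exists_finset t
  simp only [map_sum, LinearMap.rTensor_tmul, Submodule.subtype_apply] at ht
  haveI : Nontrivial (E ⊗[A] C) := (tmul_one_injective (C := C) E).nontrivial
  have hne : ∃ i : s, ((i.1.1 : LinearMap.ker f) : E) ≠ 0 := by
    by_contra hne
    push Not at hne
    refine (z⁻¹).ne_zero (ht.symm.trans (Finset.sum_eq_zero fun i hi => ?_))
    rw [hne ⟨i, hi⟩, TensorProduct.zero_tmul]
  obtain ⟨x, a, hx0, hxsum, hdiv⟩ := exists_principal hval (fun i : s => ((i.1.1 : LinearMap.ker f) : E)) hne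
  let x' := Units.mk0 x hx0
  have hR : ∀ {y : E ⊗[A] C}, y ∈ R → y ∈ (incl B C).range := fun hy => hy
  -- `x` lies in the kernel
  have hxker : (z : E ⊗[A] C) * (x ⊗ₜ 1) ∈ (incl B C).range := by
    rw [hxsum, TensorProduct.sum_tmul, Finset.mul_sum]
    refine Subalgebra.sum_mem _ fun i _ => ?_
    rw [show ((a i : E) * ((i.1.1 : LinearMap.ker f) : E)) ⊗ₜ[A] (1 : C) =
      incl B C (a i ⊗ₜ 1) * (((i.1.1 : LinearMap.ker f) : E) ⊗ₜ 1) by simp [incl], mul_left_comm]
    exact mul_mem ⟨_, rfl⟩ (hR ((Submodule.Quotient.mk_eq_zero R).1 (LinearMap.mem_ker.1 i.1.1.2)))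
  have hdiv' : ((z⁻¹ : (E ⊗[A] C)ˣ) : E ⊗[A] C) * (x⁻¹ ⊗ₜ 1) ∈ (incl B C).range := by
    rw [← ht, Finset.sum_mul]
    refine Subalgebra.sum_mem _ fun i hi => ?_
    rw [Algebra.TensorProduct.tmul_mul_tmul, mul_one]
    exact ⟨(⟨_, hdiv ⟨i, hi⟩⟩ : B) ⊗ₜ i.2, by simp [incl]⟩
  refine ⟨x'⁻¹, ?_, ?_⟩
  · rw [map_inv, inv_inv, Units.val_mul]
    exact hxker
  · rw [map_inv, inv_inv, mul_inv_rev, mul_comm, Units.val_mul, ← map_inv]
    exact hdiv'

end Groth.Misc15.SemilocInj

namespace Groth.Misc15.SemilocInj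

variable {V E : Type u} [CommRing V] [IsDomain V] [ValuationRing V] [Field E] [Algebra (FractionRing V) E]
  [Algebra V E] [IsScalarTower V (FractionRing V) E] {B : Subalgebra V E}

/-- Every element has the size of a scalar at each maximal ideal of an étale subalgebra. -/
theorem exists_scale [Algebra.Etale V B] [Module.Finite V B]
    (hfrac : ∀ x : E, ∃ s b : B, s ≠ 0 ∧ x * s = b) (q : Ideal B) [q.IsMaximal] (x : Eˣ) :
    ∃ k : (FractionRing V)ˣ, InW B q ((x : E) * (algebraMap (FractionRing V) E k)⁻¹) ∧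
      InW B q (algebraMap (FractionRing V) E k * (x : E)⁻¹) := by
  let K := FractionRing V
  haveI : Algebra.IsIntegral V B := Algebra.IsIntegral.of_finite V B
  have hq : q.comap (algebraMap V B) = IsLocalRing.maximalIdeal V :=
    IsLocalRing.eq_maximalIdeal (Ideal.isMaximal_comap_of_isIntegral_of_isMaximal q)
  obtain ⟨hinj, -, hcont⟩ := Groth.EtaleAlgebra.ValuationEtale.content_atPrime V B q hq
  let W := Localization.AtPrime q
  -- the case of an integral element
  have key : ∀ b : B, b ≠ 0 → ∃ (a : V) (r s : B), a ≠ 0 ∧ r ∉ q ∧ s ∉ q ∧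
      (s : E) * b = r * algebraMap V E a := fun b hb => by
    have hbW : algebraMap B W b ≠ 0 := fun h => hb (IsLocalization.injective W q.primeCompl_le_nonZeroDivisors
      (h.trans (map_zero (algebraMap B W)).symm))
    obtain ⟨a, u, hu⟩ := hcont _ hbW
    obtain ⟨r, s, hrs⟩ := IsLocalization.exists_mk'_eq q.primeCompl (u : W)
    have hr : r ∈ q.primeCompl := (IsLocalization.AtPrime.isUnit_mk'_iff W q r s).1 (hrs ▸ u.isUnit)
    have ha : a ≠ 0 := fun h => hbW (by rw [hu, h, map_zero, mul_zero])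
    refine ⟨a, r, s, ha, hr, s.2, ?_⟩
    have h1 : algebraMap B W ((s : B) * b) = algebraMap B W (r * algebraMap V B a) := by
      rw [map_mul, map_mul, hu, ← IsScalarTower.algebraMap_apply, ← hrs, ← mul_assoc, IsLocalization.mk'_spec']
    have := congrArg Subtype.val (IsLocalization.injective W q.primeCompl_le_nonZeroDivisors h1)
    exact this
  obtain ⟨s, b, hs, hb⟩ := hfrac x
  have hb0 : b ≠ 0 := fun h => hs (Subtype.ext (by
    have := hb
    rw [h] at this
    exact (mul_eq_zero.1 (this : (x : E) * s = 0)).resolve_left x.ne_zero))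
  obtain ⟨a₁, r₁, s₁, ha₁, hr₁, hs₁, e₁⟩ := key b hb0
  obtain ⟨a₂, r₂, s₂, ha₂, hr₂, hs₂, e₂⟩ := key s hs
  have hK : ∀ a : V, a ≠ 0 → algebraMap V E a ≠ 0 := fun a ha => by
    rw [IsScalarTower.algebraMap_apply V K E, Ne, map_eq_zero, IsFractionRing.to_map_eq_zero_iff]
    exact ha
  have hk0 : ∀ a : V, a ≠ 0 → algebraMap V K a ≠ 0 := fun a ha => mt IsFractionRing.to_map_eq_zero_iff.1 ha
  refine ⟨Units.mk0 (algebraMap V K a₁ / algebraMap V K a₂) (div_ne_zero (hk0 _ ha₁) (hk0 _ ha₂)),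
    ⟨s₁ * r₂, fun e => (Ideal.IsPrime.mem_or_mem inferInstance e).elim hs₁ hr₂, ?_⟩,
    ⟨r₁ * s₂, fun e => (Ideal.IsPrime.mem_or_mem inferInstance e).elim hr₁ hs₂, ?_⟩⟩
  all_goals
    rw [Units.val_mk0, map_div₀, ← IsScalarTower.algebraMap_apply, ← IsScalarTower.algebraMap_apply,
      Subalgebra.coe_mul]
    have := hK _ ha₁
    have := hK _ ha₂
    have hs0 : (s : E) ≠ 0 := fun e => hs (Subtype.ext e)
    have hr0 : (r₁ : E) ≠ 0 := fun e => hr₁ (by rw [show r₁ = 0 from Subtype.ext e]; exact q.zero_mem)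
    have hr0' : (r₂ : E) ≠ 0 := fun e => hr₂ (by rw [show r₂ = 0 from Subtype.ext e]; exact q.zero_mem)
  · have h : (s₁ : E) * r₂ * ((x : E) * (algebraMap V E a₁ / algebraMap V E a₂)⁻¹) = r₁ * s₂ := by
      field_simp
      refine mul_right_cancel₀ hs0 ?_
      linear_combination (↑s₁ * ↑r₂ * algebraMap V E a₂) * hb + (↑r₂ * algebraMap V E a₂) * e₁ -
        (↑r₁ * algebraMap V E a₁) * e₂
    rw [h]
    exact B.mul_mem r₁.2 s₂.2
  · have hx0 : (x : E) ≠ 0 := x.ne_zero
    have h : (r₁ : E) * s₂ * (algebraMap V E a₁ / algebraMap V E a₂ * (x : E)⁻¹) = s₁ * r₂ := by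
      field_simp
      refine mul_right_cancel₀ hs0 ?_
      linear_combination -(↑s₁ * ↑r₂ * algebraMap V E a₂) * hb - (↑r₂ * algebraMap V E a₂) * e₁ +
        (↑r₁ * algebraMap V E a₁) * e₂
    rw [h]
    exact B.mul_mem s₁.2 r₂.2

end Groth.Misc15.SemilocInj
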